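import Mathlib

set_option autoImplicit false

namespace Groth.Agent.H78

variable {R : Type*} [CommRing R]

/-- Coset prime avoidance (Kaplansky, Thm 124): if no prime of the finite set `s` contains both
`x` and `I`, then some element of `x + I` avoids all primes of `s`. -/
theorem coset_prime_avoidance (s : Finset (Ideal R)) (hs : ∀ P ∈ s, P.IsPrime) (x : R) (I : Ideal R)
    (h : ∀ P ∈ s, ¬ (x ∈ P ∧ I ≤ P)) : ∃ i ∈ I, ∀ P ∈ s, x + i ∉ P := by
  classical
  induction hn : s.card generalizing s with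
  | zero =>
    rw [Finset.card_eq_zero] at hn
    subst hn
    exact ⟨0, I.zero_mem, by simp⟩
  | succ n ih =>
    have hne : s.Nonempty := by
      rw [← Finset.card_pos]; omega
    obtain ⟨Q, hQ⟩ := s.exists_minimal hne
    have hQs : Q ∈ s := hQ.1
    have hQprime : Q.IsPrime := hs Q hQs
    set t := s.erase Q with ht
    have htcard : t.card = n := by
      rw [ht, Finset.card_erase_of_mem hQs]; omega
    have hts : ∀ P ∈ t, P ∈ s := fun P hP => Finset.mem_of_mem_erase hP
    obtain ⟨i, hiI, hi⟩ := ih t (fun P hP => hs P (hts P hP)) (fun P hP => h P (hts P hP)) htcard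
    by_cases hxQ : x + i ∈ Q
    · -- I ⊄ Q
      have hIQ : ¬ I ≤ Q := by
        intro hle
        apply h Q hQs
        refine ⟨?_, hle⟩
        have : x = (x + i) - i := by ring
        rw [this]
        exact Q.sub_mem hxQ (hle hiI)
      obtain ⟨j, hjI, hjQ⟩ := Set.not_subset.mp hIQ
      -- pick y ∈ ⋂ t, y ∉ Q
      have hPQ : ∀ P ∈ t, ∃ y ∈ P, y ∉ Q := by
        intro P hP
        have hPs := hts P hP
        have hne' : P ≠ Q := Finset.ne_of_mem_erase hP
        have : ¬ P ≤ Q := by
          intro hle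
          have := hQ.2 hPs hle
          exact hne' (le_antisymm hle this)
        obtain ⟨y, hy, hyQ⟩ := Set.not_subset.mp this
        exact ⟨y, hy, hyQ⟩
      choose! yf hyf using hPQ
      set y := ∏ P ∈ t, yf P with hy
      have hyQ : y ∉ Q := by
        rw [hy, Ideal.IsPrime.prod_mem_iff (hp := hQprime)]
        rintro ⟨P, hP, hmem⟩
        exact (hyf P hP).2 hmem
      have hyP : ∀ P ∈ t, y ∈ P := by
        intro P hP
        rw [hy]
        exact Ideal.mem_of_dvd _ (Finset.dvd_prod_of_mem yf hP) (hyf P hP).1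
      refine ⟨i + y * j, I.add_mem hiI (I.mul_mem_left _ hjI), ?_⟩
      intro P hP hmem
      have e : x + (i + y * j) = (x + i) + y * j := by ring
      rw [e] at hmem
      by_cases hPQ' : P = Q
      · subst hPQ'
        have : y * j ∈ P := by
          have := P.sub_mem hmem hxQ
          simpa using this
        rcases hQprime.mem_or_mem this with h1 | h1
        · exact hyQ h1
        · exact hjQ h1
      · have hPt : P ∈ t := Finset.mem_erase.mpr ⟨hPQ', hP⟩
        have : x + i ∈ P := by
          have h2 : y * j ∈ P := P.mul_mem_right _ (hyP P hPt)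
          have := P.sub_mem hmem h2
          simpa using this
        exact hi P hPt this
    · refine ⟨i, hiI, ?_⟩
      intro P hP
      by_cases hPQ' : P = Q
      · subst hPQ'; exact hxQ
      · exact hi P (Finset.mem_erase.mpr ⟨hPQ', hP⟩)

/-- Lifting a regular element under (S₁). -/
theorem lift_regular_of_S1 (A : Type*) [CommRing A]
    [IsNoetherianRing A] (hS1 : ∀ p ∈ associatedPrimes A A, p ∈ minimalPrimes A) (I : Ideal A)
    (b : A ⧸ I) (hb : b ∈ nonZeroDivisors (A ⧸ I)) :
    ∃ a : A, a ∈ nonZeroDivisors A ∧ Ideal.Quotient.mk I a = b := by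
  classical
  obtain ⟨a₀, rfl⟩ := Ideal.Quotient.mk_surjective b
  have hfin : (associatedPrimes A A).Finite := associatedPrimes.finite A A
  set s := hfin.toFinset with hs
  have hsmem : ∀ P, P ∈ s ↔ P ∈ associatedPrimes A A := fun P => hfin.mem_toFinset
  have hprime : ∀ P ∈ s, P.IsPrime := fun P hP => ((hsmem P).mp hP).isPrime
  have hcond : ∀ P ∈ s, ¬ (a₀ ∈ P ∧ I ≤ P) := by
    rintro P hP ⟨haP, hIP⟩
    have hPmin : P ∈ minimalPrimes A := hS1 P ((hsmem P).mp hP)
    have hPI : P ∈ I.minimalPrimes := by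
      have hPp : P.IsPrime := hprime P hP
      refine ⟨⟨hPp, hIP⟩, ?_⟩
      rintro K ⟨hK, _⟩ hKP
      exact hPmin.2 ⟨hK, bot_le⟩ hKP
    rw [Ideal.minimalPrimes_eq_comap] at hPI
    obtain ⟨Q, hQ, rfl⟩ := hPI
    have hbQ : Ideal.Quotient.mk I a₀ ∈ Q := haP
    exact Set.disjoint_left.mp (Ideal.disjoint_nonZeroDivisors_of_mem_minimalPrimes hQ) hbQ hb
  obtain ⟨i, hiI, hi⟩ := coset_prime_avoidance s hprime a₀ I hcond
  refine ⟨a₀ + i, ?_, ?_⟩
  · by_contra hnz
    have : a₀ + i ∈ (nonZeroDivisors A : Set A)ᶜ := hnz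
    rw [← biUnion_associatedPrimes_eq_compl_nonZeroDivisors] at this
    simp only [Set.mem_iUnion] at this
    obtain ⟨P, hP, hmem⟩ := this
    exact hi P ((hsmem P).mpr hP) hmem
  · rw [map_add, Ideal.Quotient.eq_zero_iff_mem.mpr hiI, add_zero]

end Groth.Agent.H78
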