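import Mathlib

/-!
# Minimal primes along flat and faithfully flat maps
-/

set_option autoImplicit false
universe u

namespace Groth.Agent.H78.MinPrimeFlat

variable {R S : Type*} [CommRing R] [CommRing S] [Algebra R S]

/-- going down: minimal primes contract to minimal primes -/
theorem under_mem_minimalPrimes [Algebra.HasGoingDown R S] {Q : Ideal S}
    (hQ : Q ∈ minimalPrimes S) : Q.under R ∈ minimalPrimes R := by
  haveI : Q.IsPrime := hQ.1.1
  refine ⟨⟨inferInstance, bot_le⟩, ?_⟩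
  rintro p ⟨hp, -⟩ hle
  haveI := hp
  obtain ⟨P, hPQ, hP, hPp⟩ := Ideal.exists_ideal_le_liesOver_of_le (p := p) (q := Q.under R) Q hle
  have h1 : Q ≤ P := hQ.2 ⟨hP, bot_le⟩ hPQ
  have h2 : P = Q := le_antisymm hPQ h1
  rw [← h2, ← hPp.over]

/-- for a faithfully flat algebra, contraction maps the minimal primes onto the minimal primes -/
theorem surjOn_under_minimalPrimes [Module.FaithfullyFlat R S] :
    Set.SurjOn (fun Q : Ideal S => Q.under R) (minimalPrimes S) (minimalPrimes R) := by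
  intro q hq
  haveI : q.IsPrime := hq.1.1
  obtain ⟨Q', hQ', hQ'q⟩ := Ideal.exists_isPrime_liesOver_of_faithfullyFlat (B := S) q
  obtain ⟨Q, hQ, hQQ'⟩ := Ideal.exists_minimalPrimes_le (bot_le : (⊥ : Ideal S) ≤ Q')
  refine ⟨Q, hQ, ?_⟩
  haveI : Q.IsPrime := hQ.1.1
  have h1 : Q.under R ≤ q := by
    rw [hQ'q.over]
    exact Ideal.comap_mono hQQ'
  exact le_antisymm h1 (hq.2 ⟨inferInstance, bot_le⟩ h1)

/-- ring hom version -/
theorem mapsTo_surjOn_comap_minimalPrimes {R S : Type*} [CommRing R] [CommRing S]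
    (ψ : R →+* S) (hflat : ψ.Flat)
    (hsurj : ∀ p : Ideal R, p.IsPrime → ∃ P : Ideal S, P.IsPrime ∧ P.comap ψ = p) :
    Set.MapsTo (Ideal.comap ψ) (minimalPrimes S) (minimalPrimes R) ∧
      Set.SurjOn (Ideal.comap ψ) (minimalPrimes S) (minimalPrimes R) := by
  letI : Algebra R S := ψ.toAlgebra
  haveI : Module.Flat R S := hflat
  have hmaps : Set.MapsTo (Ideal.comap ψ) (minimalPrimes S) (minimalPrimes R) :=
    fun Q hQ => under_mem_minimalPrimes (R := R) hQ
  refine ⟨hmaps, ?_⟩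
  intro q hq
  haveI : q.IsPrime := hq.1.1
  obtain ⟨Q', hQ', hQ'q⟩ := hsurj q inferInstance
  obtain ⟨Q, hQ, hQQ'⟩ := Ideal.exists_minimalPrimes_le (bot_le : (⊥ : Ideal S) ≤ Q')
  refine ⟨Q, hQ, ?_⟩
  haveI : Q.IsPrime := hQ.1.1
  have h1 : Q.comap ψ ≤ q := by
    rw [← hQ'q]
    exact Ideal.comap_mono hQQ'
  exact le_antisymm h1 (hq.2 ⟨inferInstance, bot_le⟩ h1)

end Groth.Agent.H78.MinPrimeFlat
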