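import Mathlib
import Groth.Prelude.Def_EssEt
import Groth.Prelude.Def_Hensel
import Groth.Agent.H3.FlatOfEtale
import Groth.Agent.H14.HensProp.Strict

/-!
# Essentially étale local subalgebras of a strict henselization (S16442, S16438)
-/

set_option autoImplicit false

namespace Groth.Agent.H78.EssEtSub

open IsLocalRing

universe u

/-- A local `A`-algebra map from the localisation of an étale `A`-algebra at the prime under the
maximal ideal of a local flat `A`-algebra `S` into `S` is injective. -/
theorem injective_of_etale_local {A C S : Type u} [CommRing A] [CommRing C] [CommRing S]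
    [Algebra A C] [Algebra.Etale A C] [Algebra A S] [Module.Flat A S] [IsLocalRing S]
    (φ : C →ₐ[A] S) (q : Ideal C) [q.IsPrime] (hq : q = (maximalIdeal S).comap φ)
    (ψ : Localization.AtPrime q →ₐ[A] S)
    (hψ : ∀ c, ψ (algebraMap C (Localization.AtPrime q) c) = φ c) : Function.Injective ψ := by
  letI : Algebra C S := φ.toRingHom.toAlgebra
  haveI : IsScalarTower A C S := IsScalarTower.of_algebraMap_eq' (by
    ext a
    exact (φ.commutes a).symm)
  haveI : Module.Flat C S := Groth.Agent.H3.FlatOfEtale.flat_of_etale A C S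
  letI : Algebra (Localization.AtPrime q) S := ψ.toRingHom.toAlgebra
  haveI : IsScalarTower C (Localization.AtPrime q) S := IsScalarTower.of_algebraMap_eq' (by
    ext c
    exact (hψ c).symm)
  haveI : Module.Flat (Localization.AtPrime q) S :=
    (Module.flat_iff_of_isLocalization (Localization.AtPrime q) q.primeCompl S).mpr inferInstance
  have hq' : ∀ c : C, c ∉ q ↔ IsUnit (φ c) := by
    intro c
    rw [hq, Ideal.mem_comap, mem_maximalIdeal, mem_nonunits_iff, not_not]
  haveI : IsLocalHom (algebraMap (Localization.AtPrime q) S) := by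
    constructor
    intro a ha
    obtain ⟨c, s, rfl⟩ := IsLocalization.exists_mk'_eq q.primeCompl a
    have h1 : ψ (IsLocalization.mk' (Localization.AtPrime q) c s) * φ s = φ c := by
      rw [← hψ, ← hψ, ← map_mul, IsLocalization.mk'_spec]
    have h2 : IsUnit (φ c) := by
      rw [← h1]
      exact IsUnit.mul ha ((hq' s).mp s.2)
    have h3 : c ∉ q := (hq' c).mpr h2
    exact (IsLocalization.AtPrime.isUnit_mk'_iff (Localization.AtPrime q) q c s).mpr h3
  haveI : Module.FaithfullyFlat (Localization.AtPrime q) S :=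
    Module.FaithfullyFlat.of_flat_of_isLocalHom
  exact FaithfulSMul.algebraMap_injective (Localization.AtPrime q) S

section Strict

variable (A S : Type u) [CommRing A] [IsLocalRing A]
  [CommRing S] [IsLocalRing S] [Algebra A S] [IsLocalHom (algebraMap A S)]
  [Hensel.IsStrictHenselization A S]

/-- The essentially étale local subalgebra of `S` attached to an étale algebra mapping to `S`. -/
theorem exists_essEtale_of_algHom {C : Type u} [CommRing C] [Algebra A C] [Algebra.Etale A C]
    (φ : C →ₐ[A] S) :
    ∃ (q : Ideal C) (_ : q.IsPrime) (ψ : Localization.AtPrime q →ₐ[A] S),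
      q = (maximalIdeal S).comap φ ∧ q.comap (algebraMap A C) = maximalIdeal A ∧
      (∀ c, ψ (algebraMap C (Localization.AtPrime q) c) = φ c) ∧ Function.Injective ψ := by
  have hS : Hensel.IsStrictHenselization A S := inferInstance
  haveI : Module.FaithfullyFlat A S := Groth.Agent.H3.SH.faithfullyFlat A hS
  let q : Ideal C := (maximalIdeal S).comap φ
  haveI hqp : q.IsPrime := Ideal.comap_isPrime _ _
  have hunits : ∀ y : q.primeCompl, IsUnit (φ y) := by
    intro y
    have : (y : C) ∉ q := y.2
    rw [Ideal.mem_comap, mem_maximalIdeal, mem_nonunits_iff, not_not] at this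
    exact this
  let ψ : Localization.AtPrime q →ₐ[A] S := IsLocalization.liftAlgHom (M := q.primeCompl) hunits
  have hψ : ∀ c, ψ (algebraMap C (Localization.AtPrime q) c) = φ c := by
    intro c
    simp [ψ]
  refine ⟨q, hqp, ψ, rfl, ?_, hψ, injective_of_etale_local φ q rfl ψ hψ⟩
  have h1 : q.comap (algebraMap A C) = (maximalIdeal S).comap (algebraMap A S) := by
    change ((maximalIdeal S).comap φ.toRingHom).comap (algebraMap A C) = _
    rw [Ideal.comap_comap]
    congr 1
    ext a
    exact φ.commutes a
  rw [h1]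
  exact ((IsLocalRing.local_hom_TFAE (algebraMap A S)).out 0 4).mp
    (inferInstance : IsLocalHom (algebraMap A S))

theorem exists_essEtale_ge (D : Subalgebra A S) [IsLocalRing D]
    [IsLocalHom (algebraMap D S)] [Algebra.EssFiniteType A D] :
    ∃ E : Subalgebra A S, D ≤ E ∧ ∃ _ : IsLocalRing E, EGA4loc.IsEssentiallyEtale A E := by
  classical
  let s : Finset D := Algebra.EssFiniteType.finset A D
  let s' : Finset S := s.image (fun d : D => (d : S))
  have hs' : Groth.Agent.H14.HensProp.InEtImage A S (s' : Set S) :=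
    Groth.Agent.H14.HensProp.InEtImage.finset s' fun x _ =>
      Groth.Agent.H14.HensProp.inEtImage_of_isStrictHenselization A S x
  obtain ⟨C, _, _, hCet, φ, hφ⟩ := hs'
  obtain ⟨q, hqp, ψ, hq, hqA, hψ, hinj⟩ := exists_essEtale_of_algHom A S φ
  let e : Localization.AtPrime q ≃ₐ[A] ψ.range := AlgEquiv.ofInjective ψ hinj
  haveI : IsLocalRing ψ.range := RingEquiv.isLocalRing e.toRingEquiv
  refine ⟨ψ.range, ?_, inferInstance, ⟨C, inferInstance, inferInstance, q, hqp, hCet, hqA,
    ⟨e.symm⟩⟩⟩
  -- `D ≤ range ψ`
  have hadj : ∀ y : D, y ∈ Algebra.adjoin A (s : Set D) → (y : S) ∈ φ.range := by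
    intro y hy
    have h1 : (y : S) ∈ (Algebra.adjoin A (s : Set D)).map D.val := ⟨y, hy, rfl⟩
    rw [AlgHom.map_adjoin] at h1
    have h2 : Algebra.adjoin A (D.val '' (s : Set D)) ≤ φ.range := by
      apply Algebra.adjoin_le
      rintro _ ⟨d, hd, rfl⟩
      apply hφ
      exact Finset.mem_coe.mpr (Finset.mem_image.mpr ⟨d, hd, rfl⟩)
    exact h2 h1
  intro x hx
  have hcond := (Algebra.essFiniteType_cond_iff (R := A) (S := D) s).mp
    (Algebra.EssFiniteType.isLocalization (R := A) (S := D))
  obtain ⟨t, ht, htu, hxt⟩ := hcond ⟨x, hx⟩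
  obtain ⟨ct, hct0⟩ := hadj t ht
  obtain ⟨c, hc0⟩ := hadj _ hxt
  have hct : φ ct = ((t : D) : S) := hct0
  have hc : φ c = x * ((t : D) : S) := hc0
  have htS : IsUnit ((t : D) : S) := htu.map (algebraMap D S)
  have hctq : ct ∉ q := by
    rw [hq, Ideal.mem_comap, mem_maximalIdeal, mem_nonunits_iff, not_not]
    change IsUnit (φ ct)
    rw [hct]
    exact htS
  let ctq : q.primeCompl := ⟨ct, hctq⟩
  refine ⟨IsLocalization.mk' (Localization.AtPrime q) c ctq, ?_⟩
  have h1 : ψ (IsLocalization.mk' (Localization.AtPrime q) c ctq) * φ ct = φ c := by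
    rw [← hψ, ← hψ, ← map_mul]
    congr 1
    exact IsLocalization.mk'_spec _ c ctq
  have h2 : x * φ ct = φ c := by
    rw [hct, hc]
  have hu : IsUnit (φ ct) := by rw [hct]; exact htS
  exact hu.mul_left_injective (h1.trans h2.symm)

end Strict

end Groth.Agent.H78.EssEtSub
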