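import Mathlib
import Groth.Agent.H78.EssEtSub

/-!
# S16438: unramified essentially-finite-type local subalgebras of a strict henselization are
essentially étale
-/

set_option autoImplicit false

namespace Groth.Agent.H78.EssEtSub

open IsLocalRing

universe u

theorem isEssentiallyEtale_of_map_maximalIdeal
    (A S : Type u) [CommRing A] [IsLocalRing A]
    [CommRing S] [IsLocalRing S] [Algebra A S] [IsLocalHom (algebraMap A S)]
    [Hensel.IsStrictHenselization A S] (D : Subalgebra A S) [IsLocalRing D]
    [IsLocalHom (algebraMap D S)] [Algebra.EssFiniteType A D]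
    (hm : Ideal.map (algebraMap A D) (maximalIdeal A) = maximalIdeal D) :
    EGA4loc.IsEssentiallyEtale A D := by
  classical
  have hS : Hensel.IsStrictHenselization A S := inferInstance
  -- `A → D` is local
  haveI : IsLocalHom (algebraMap A D) := by
    constructor
    intro a ha
    have h1 : IsUnit (algebraMap D S (algebraMap A D a)) := ha.map _
    rw [← IsScalarTower.algebraMap_apply] at h1
    exact isUnit_of_map_unit (algebraMap A S) a h1
  -- separability of the residue extension
  haveI : IsScalarTower (ResidueField A) (ResidueField D) (ResidueField S) :=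
    IsScalarTower.of_algebraMap_eq (by
      intro x
      obtain ⟨a, rfl⟩ := residue_surjective x
      rfl)
  haveI : Algebra.IsSeparable (ResidueField A) (ResidueField S) := hS.isSepClosure.separable
  haveI : Algebra.IsSeparable (ResidueField A) (ResidueField D) :=
    Algebra.isSeparable_tower_bot_of_isSeparable (ResidueField A) (ResidueField D) (ResidueField S)
  haveI : Algebra.FormallyUnramified A D := Algebra.FormallyUnramified.of_map_maximalIdeal hm
  -- `D` as a localisation of a finite type algebra at a prime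
  let D₀ : Subalgebra A D := Algebra.EssFiniteType.subalgebra A D
  let M : Submonoid D₀ := Algebra.EssFiniteType.submonoid A D
  let 𝔭 : Ideal D₀ := (maximalIdeal D).comap (algebraMap D₀ D)
  haveI : 𝔭.IsPrime := Ideal.comap_isPrime _ _
  have hp : ∀ x : D₀, x ∉ 𝔭 ↔ IsUnit (algebraMap D₀ D x) := by
    intro x
    rw [Ideal.mem_comap, mem_maximalIdeal, mem_nonunits_iff, not_not]
  have hM : M = 𝔭.primeCompl := by
    ext x
    rw [Ideal.mem_primeCompl_iff, hp]
    rfl
  haveI : IsLocalization 𝔭.primeCompl D :=
    hM ▸ (Algebra.EssFiniteType.isLocalization (R := A) (S := D))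
  let e₁ : Localization.AtPrime 𝔭 ≃ₐ[D₀] D := IsLocalization.algEquiv 𝔭.primeCompl _ _
  haveI : Algebra.IsUnramifiedAt A 𝔭 :=
    Algebra.FormallyUnramified.of_equiv (e₁.symm.restrictScalars A)
  obtain ⟨f, hf, P, φ, hφ⟩ :=
    Algebra.IsUnramifiedAt.exists_hasStandardEtaleSurjectionOn (R := A) 𝔭
  have hfu : IsUnit (algebraMap D₀ D f) := (hp f).mp hf
  have hpow : ∀ y : Submonoid.powers f, IsUnit ((IsScalarTower.toAlgHom A D₀ D) y) := by
    rintro ⟨_, n, rfl⟩
    change IsUnit (algebraMap D₀ D (f ^ n))
    rw [map_pow]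
    exact hfu.pow n
  let ψ₁ : Localization.Away f →ₐ[A] D := IsLocalization.liftAlgHom (M := Submonoid.powers f) hpow
  have hψ₁ : ∀ x : D₀, ψ₁ (algebraMap D₀ (Localization.Away f) x) = algebraMap D₀ D x := by
    intro x
    simp [ψ₁]
  let χ : P.Ring →ₐ[A] D := ψ₁.comp φ
  let Φ : P.Ring →ₐ[A] S := D.val.comp χ
  obtain ⟨q, hqp, ψ, hq, hqA, hψ, hinj⟩ := exists_essEtale_of_algHom A S Φ
  have hq' : ∀ c : P.Ring, c ∉ q ↔ IsUnit (χ c) := by
    intro c
    rw [hq, Ideal.mem_comap, mem_maximalIdeal, mem_nonunits_iff, not_not]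
    constructor
    · intro h
      exact isUnit_of_map_unit (algebraMap D S) (χ c) h
    · intro h
      exact h.map (algebraMap D S)
  have hunits : ∀ y : q.primeCompl, IsUnit (χ y) := fun y => (hq' y).mp y.2
  let ψD : Localization.AtPrime q →ₐ[A] D := IsLocalization.liftAlgHom (M := q.primeCompl) hunits
  have hψD : ∀ c, ψD (algebraMap P.Ring (Localization.AtPrime q) c) = χ c := by
    intro c
    simp [ψD]
  have hcomp : ∀ x, ((ψD x : D) : S) = ψ x := by
    have h1 : (D.val.toRingHom.comp ψD.toRingHom) = ψ.toRingHom := by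
      apply IsLocalization.ringHom_ext q.primeCompl
      ext c
      change ((ψD (algebraMap P.Ring (Localization.AtPrime q) c) : D) : S) =
        ψ (algebraMap P.Ring (Localization.AtPrime q) c)
      rw [hψD, hψ]
      rfl
    intro x
    exact congrArg (fun g : Localization.AtPrime q →+* S => g x) h1
  have hinjD : Function.Injective ψD := by
    intro x y hxy
    apply hinj
    rw [← hcomp, ← hcomp, hxy]
  have hsurjD : Function.Surjective ψD := by
    intro d
    obtain ⟨a, m, rfl⟩ := IsLocalization.exists_mk'_eq 𝔭.primeCompl d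
    obtain ⟨a', ha'⟩ := hφ (algebraMap D₀ (Localization.Away f) a)
    obtain ⟨m', hm'⟩ := hφ (algebraMap D₀ (Localization.Away f) (m : D₀))
    have hχa : χ a' = algebraMap D₀ D a := by
      change ψ₁ (φ a') = _
      rw [ha', hψ₁]
    have hχm : χ m' = algebraMap D₀ D (m : D₀) := by
      change ψ₁ (φ m') = _
      rw [hm', hψ₁]
    have hmu : IsUnit (algebraMap D₀ D (m : D₀)) := (hp m).mp m.2
    have hm'q : m' ∉ q := by
      rw [hq', hχm]
      exact hmu
    let m'q : q.primeCompl := ⟨m', hm'q⟩
    refine ⟨IsLocalization.mk' (Localization.AtPrime q) a' m'q, ?_⟩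
    have h1 : ψD (IsLocalization.mk' (Localization.AtPrime q) a' m'q) * χ m' = χ a' := by
      rw [← hψD, ← hψD, ← map_mul]
      congr 1
      exact IsLocalization.mk'_spec _ a' m'q
    have h2 : IsLocalization.mk' D a m * algebraMap D₀ D (m : D₀) = algebraMap D₀ D a :=
      IsLocalization.mk'_spec _ a m
    rw [hχm, hχa] at h1
    exact hmu.mul_left_injective (h1.trans h2.symm)
  exact ⟨P.Ring, inferInstance, inferInstance, q, hqp, inferInstance, hqA,
    ⟨(AlgEquiv.ofBijective ψD ⟨hinjD, hsurjD⟩).symm⟩⟩

end Groth.Agent.H78.EssEtSub
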