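import Mathlib
import Groth.Agent.H78.ZMTIdem.Main
import Groth.Agent.H3.PairIdemIntegral
import Groth.Agent.H47.EtaleLift

/-!
# Finite étale algebras lift over a henselian pair (S0532)

Given a finite type `A`-algebra `B₀` whose reduction modulo `I` is finite, over a henselian pair
`(A, I)` there is an idempotent `e₀` of `B₀`, congruent to `1` modulo `I`, such that the factor
`B₀ / (1 - e₀)` is integral (hence finite) over `A`.
-/

namespace Groth.Agent.H78.HensFinEt

open TensorProduct

universe u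

/-- Elements of `I B` die in `(A ⧸ I) ⊗ B`. -/
theorem one_tmul_eq_zero_of_mem {A B : Type*} [CommRing A] [CommRing B] [Algebra A B] (I : Ideal A)
    {x : B} (hx : x ∈ I.map (algebraMap A B)) : ((1 : A ⧸ I) ⊗ₜ[A] x : (A ⧸ I) ⊗[A] B) = 0 := by
  unfold Ideal.map at hx
  induction hx using Submodule.span_induction with
  | mem y hy =>
    obtain ⟨i, hi, rfl⟩ := hy
    rw [Algebra.algebraMap_eq_smul_one, TensorProduct.tmul_smul, TensorProduct.smul_tmul']
    have : i • (1 : A ⧸ I) = 0 := by
      rw [Algebra.smul_def, mul_one]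
      exact Ideal.Quotient.eq_zero_iff_mem.mpr hi
    rw [this, TensorProduct.zero_tmul]
  | zero => simp
  | add y z _ _ hy hz => rw [TensorProduct.tmul_add, hy, hz, add_zero]
  | smul b y _ hy =>
    have : ((1 : A ⧸ I) ⊗ₜ[A] (b • y) : (A ⧸ I) ⊗[A] B) =
        ((1 : A ⧸ I) ⊗ₜ[A] b) * ((1 : A ⧸ I) ⊗ₜ[A] y) := by
      rw [Algebra.TensorProduct.tmul_mul_tmul, one_mul, smul_eq_mul]
    rw [this, hy, mul_zero]

/-- The finite part of a finite type algebra with finite reduction, over a henselian pair. -/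
theorem exists_idempotent_isIntegral_quotient {A B₀ : Type u} [CommRing A] [CommRing B₀]
    [Algebra A B₀] [Algebra.FiniteType A B₀] (I : Ideal A) (h : HenselianRing A I)
    (hfin : Module.Finite (A ⧸ I) (B₀ ⧸ Ideal.map (algebraMap A B₀) I)) :
    ∃ e₀ : B₀, IsIdempotentElem e₀ ∧ 1 - e₀ ∈ I.map (algebraMap A B₀) ∧
      Algebra.IsIntegral A (B₀ ⧸ Ideal.span {1 - e₀}) := by
  have hfin' : Module.Finite (A ⧸ I)
      ((B₀ ⧸ Ideal.map (algebraMap A B₀) I) ⧸ Ideal.span {1 - (1 : B₀ ⧸ Ideal.map (algebraMap A B₀) I)}) :=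
    inferInstance
  obtain ⟨g, hgidem, hg1, hgood⟩ := ZMTIdem.main A B₀ I 1 IsIdempotentElem.one hfin'
  have hb : g * g - g ∈ I.map (algebraMap A (integralClosure A B₀)) := by
    rw [← Ideal.Quotient.eq, map_mul]
    exact hgidem.eq
  obtain ⟨e, he, heg⟩ := Groth.Agent.H3.exists_idempotent_lift_of_isIntegral h
    (integralClosure A B₀) g hb
  have hmapval : ∀ x ∈ I.map (algebraMap A (integralClosure A B₀)),
      (x : B₀) ∈ I.map (algebraMap A B₀) := by
    intro x hx
    have := Ideal.mem_map_of_mem (integralClosure A B₀).val.toRingHom hx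
    rw [Ideal.map_map] at this
    have hc : ((integralClosure A B₀).val.toRingHom).comp
        (algebraMap A (integralClosure A B₀)) = algebraMap A B₀ := by
      ext a; rfl
    rw [hc] at this
    exact this
  have he₀ : IsIdempotentElem (e : B₀) := by
    have h0 : (e : B₀) * (e : B₀) = e := by
      have := congrArg (Subtype.val) he.eq
      simpa using this
    exact h0
  have h1e : 1 - (e : B₀) ∈ I.map (algebraMap A B₀) := by
    have h1 : (g : B₀) - 1 ∈ I.map (algebraMap A B₀) := by
      rw [← Ideal.Quotient.eq, hg1, map_one]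
    have h2 := hmapval _ heg
    have : 1 - (e : B₀) = -(((e - g : integralClosure A B₀) : B₀)) - ((g : B₀) - 1) := by
      push_cast; ring
    rw [this]
    exact Ideal.sub_mem _ (Ideal.neg_mem_iff _ |>.mpr h2) h1
  refine ⟨(e : B₀), he₀, h1e, ?_⟩
  -- integrality of the quotient
  let B := B₀ ⧸ Ideal.span {1 - (e : B₀)}
  let π : B₀ →ₐ[A] B := Ideal.Quotient.mkₐ A _
  have hπe : π (e : B₀) = 1 := by
    have : π (1 - (e : B₀)) = 0 :=
      Ideal.Quotient.eq_zero_iff_mem.mpr (Ideal.mem_span_singleton_self _)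
    rw [map_sub, map_one, sub_eq_zero] at this
    exact this.symm
  let θ : integralClosure A B₀ →ₐ[A] B := π.comp (integralClosure A B₀).val
  let B'' : Subalgebra A B := θ.range
  haveI : Algebra.IsIntegral A B'' := by
    constructor
    rintro ⟨_, ⟨b', rfl⟩⟩
    have hb' : IsIntegral A b' := Algebra.IsIntegral.isIntegral b'
    have := hb'.map θ
    exact (isIntegral_algHom_iff B''.val Subtype.val_injective).mp this
  let θ' : integralClosure A B₀ →ₐ[A] B'' := θ.rangeRestrict
  have hθ'e : θ' e = 1 := Subtype.ext hπe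
  -- `θ' g` is a unit of `B''`
  have hjac : I.map (algebraMap A B'') ≤ Ideal.jacobson ⊥ :=
    Groth.Agent.H3.map_le_jacobson_of_isIntegral h.jac B''
  have hmem : θ' e - θ' g ∈ I.map (algebraMap A B'') := by
    have := Ideal.mem_map_of_mem θ'.toRingHom heg
    rw [Ideal.map_map] at this
    have hc : (θ'.toRingHom).comp (algebraMap A (integralClosure A B₀)) = algebraMap A B'' := by
      refine RingHom.ext fun a => ?_
      exact θ'.commutes a
    rw [hc, map_sub] at this
    exact this
  have hunit : IsUnit (θ' g) := by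
    have h1 := hjac hmem
    rw [Ideal.mem_jacobson_bot] at h1
    have h2 := h1 (-1)
    have : (θ' e - θ' g) * (-1) + 1 = θ' g := by rw [hθ'e]; ring
    rwa [this] at h2
  obtain ⟨δ, hδ⟩ := hunit.exists_left_inv
  constructor
  intro x
  obtain ⟨b, rfl⟩ := Ideal.Quotient.mk_surjective x
  obtain ⟨m, hm⟩ := hgood b
  -- `π (g^m b) ∈ B''`
  have h1 : π ((g : B₀) ^ m * b) ∈ B'' := ⟨⟨(g : B₀) ^ m * b, hm⟩, rfl⟩
  have h2 : π b = ((δ ^ m : B'') : B) * π ((g : B₀) ^ m * b) := by
    rw [map_mul, map_pow, ← mul_assoc]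
    have : ((δ ^ m : B'') : B) * π (g : B₀) ^ m = 1 := by
      have h3 : π (g : B₀) = ((θ' g : B'') : B) := rfl
      rw [h3]
      have := congrArg (fun y : B'' => (y : B)) (show (δ * θ' g) ^ m = 1 by rw [hδ, one_pow])
      simpa [mul_pow] using this
    rw [this, one_mul]
  have h3 : π b ∈ B'' := by
    rw [h2]
    exact B''.mul_mem (δ ^ m).2 h1
  have : IsIntegral A (⟨π b, h3⟩ : B'') := Algebra.IsIntegral.isIntegral _
  exact (isIntegral_algHom_iff B''.val Subtype.val_injective).mpr this

end Groth.Agent.H78.HensFinEt
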