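import Mathlib
import Groth.Agent.H78.ZMTIdem.Main
import Groth.Agent.H3.PairIdemIntegral
import Groth.Agent.S2041

/-!
# Étale neighbourhoods and finite parts (S17976)
-/

namespace Groth.Agent.H78.EtNbhdFin

open TensorProduct Polynomial

universe u

/-- In an integral algebra, an element congruent to `1` modulo `J` divides (the image of) an
element of the base congruent to `1` modulo `J`. -/
theorem exists_mul_eq_algebraMap {A T : Type*} [CommRing A] [CommRing T] [Algebra A T]
    [Algebra.IsIntegral A T] (J : Ideal A) (v : T) (hv : 1 - v ∈ J.map (algebraMap A T)) :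
    ∃ a : A, a - 1 ∈ J ∧ ∃ d : T, v * d = algebraMap A T a := by
  classical
  have hv' : 1 - v ∈ (J • ⊤ : Submodule A T) := by
    rw [Ideal.smul_top_eq_map]; exact hv
  obtain ⟨s, hs⟩ := Groth.Agent.H3.exists_finset_mem_smul_span hv'
  let T₁ : Subalgebra A T := Algebra.adjoin A (↑s ∪ {v})
  haveI : Module.Finite A T₁ := Algebra.finite_adjoin_of_finite_of_isIntegral
    (s.finite_toSet.union (Set.finite_singleton v)) (fun x _ => Algebra.IsIntegral.isIntegral x)
  have hvT₁ : v ∈ T₁ := Algebra.subset_adjoin (Set.mem_union_right _ rfl)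
  have hsT₁ : Submodule.span A (s : Set T) ≤ Subalgebra.toSubmodule T₁ := by
    rw [Submodule.span_le]
    intro x hx
    exact Algebra.subset_adjoin (Set.mem_union_left _ hx)
  let w₁ : T₁ := ⟨1 - v, T₁.sub_mem T₁.one_mem hvT₁⟩
  -- `w₁ ∈ J • ⊤` inside `T₁`
  have hw₁ : w₁ ∈ (J • ⊤ : Submodule A T₁) := by
    have h1 : (1 - v) ∈ J • Subalgebra.toSubmodule T₁ := Submodule.smul_mono le_rfl hsT₁ hs
    have h2 : (J • (⊤ : Submodule A T₁)).map T₁.val.toLinearMap = J • Subalgebra.toSubmodule T₁ := by
      rw [Submodule.map_smul'', Submodule.map_top]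
      congr 1
      ext x
      simp
    rw [← h2] at h1
    obtain ⟨z, hz, hz'⟩ := h1
    have : z = w₁ := Subtype.ext hz'
    rwa [← this]
  have hw₁' : w₁ ∈ J.map (algebraMap A T₁) := by
    have := hw₁
    rw [Ideal.smul_top_eq_map] at this
    exact this
  let f : Module.End A T₁ := LinearMap.mulLeft A w₁
  have hrange : LinearMap.range f ≤ J • ⊤ := by
    rintro _ ⟨x, rfl⟩
    rw [Ideal.smul_top_eq_map]
    exact Ideal.mul_mem_right x _ hw₁'
  obtain ⟨p, hpm, -, hpc, hp0⟩ :=
    LinearMap.exists_monic_and_natDegree_eq_and_coeff_mem_pow_and_aeval_eq_zero A f J hrange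
  -- `p(w₁) = 0`
  have hpw : Polynomial.aeval w₁ p = 0 := by
    have h1 : f = Algebra.lmul A T₁ w₁ := rfl
    rw [h1, Polynomial.aeval_algHom_apply] at hp0
    have := LinearMap.congr_fun hp0 1
    simpa using this
  have hpw' : Polynomial.aeval (1 - v) p = 0 := by
    have := congrArg (T₁.val) hpw
    rwa [← Polynomial.aeval_algHom_apply, map_zero] at this
  refine ⟨p.eval 1, ?_, ?_⟩
  · -- `p(1) - 1 ∈ J`
    rw [Polynomial.eval_eq_sum_range, Finset.sum_range_succ, one_pow, mul_one,
      hpm.coeff_natDegree, add_sub_cancel_right]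
    refine Ideal.sum_mem _ fun k hk => ?_
    rw [one_pow, mul_one]
    have hk' : k < p.natDegree := Finset.mem_range.mp hk
    have := hpc k
    exact Ideal.pow_le_self (by omega) this
  · have hdvd := Polynomial.sub_dvd_eval_sub (1 - v) 1 (p.map (algebraMap A T))
    rw [Polynomial.eval_map_algebraMap, hpw', Polynomial.eval_map_algebraMap] at hdvd
    obtain ⟨c, hc⟩ := hdvd
    refine ⟨c, ?_⟩
    have h2 : Polynomial.aeval (1 : T) p = algebraMap A T (p.eval 1) := by
      have := Polynomial.aeval_algebraMap_apply T (1 : A) p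
      rwa [map_one] at this
    rw [h2] at hc
    have : (1 - v - 1) * c = -(v * c) := by ring
    rw [this] at hc
    have := congrArg Neg.neg hc
    simpa using this.symm

/-- Localizing an étale neighbourhood of `V(I)` at an element congruent to `1` modulo `I` keeps
the identification of the quotients. -/
theorem quotient_away_of_sub_one_mem {A A' : Type*} [CommRing A] [CommRing A'] [Algebra A A']
    (I : Ideal A)
    (hbij : Function.Bijective (algebraMap (A ⧸ I) (A' ⧸ I.map (algebraMap A A'))))
    (a : A') (ha : a - 1 ∈ I.map (algebraMap A A')) :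
    Function.Surjective ((Ideal.Quotient.mk (I.map (algebraMap A (Localization.Away a)))).comp
      (algebraMap A (Localization.Away a))) ∧
    RingHom.ker ((Ideal.Quotient.mk (I.map (algebraMap A (Localization.Away a)))).comp
      (algebraMap A (Localization.Away a))) = I := by
  set A'' := Localization.Away a
  set J := I.map (algebraMap A A') with hJ
  have hJ'' : J.map (algebraMap A' A'') = I.map (algebraMap A A'') := by
    rw [hJ, Ideal.map_map, ← IsScalarTower.algebraMap_eq]
  -- `a ≡ 1` in `A''`
  have ha'' : algebraMap A' A'' a - 1 ∈ I.map (algebraMap A A'') := by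
    rw [← hJ'']
    have := Ideal.mem_map_of_mem (algebraMap A' A'') ha
    rwa [map_sub, map_one] at this
  have hapow : ∀ n : ℕ, Ideal.Quotient.mk (I.map (algebraMap A A'')) (algebraMap A' A'' a) ^ n = 1 := by
    intro n
    have : Ideal.Quotient.mk (I.map (algebraMap A A'')) (algebraMap A' A'' a) = 1 := by
      rw [← map_one (Ideal.Quotient.mk (I.map (algebraMap A A''))), Ideal.Quotient.eq]
      exact ha''
    rw [this, one_pow]
  have hapow' : ∀ n : ℕ, a ^ n - 1 ∈ J := by
    intro n
    have : Ideal.Quotient.mk J a = 1 := by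
      rw [← map_one (Ideal.Quotient.mk J), Ideal.Quotient.eq]
      exact ha
    rw [← Ideal.Quotient.eq, map_pow, this, one_pow, map_one]
  constructor
  · intro x
    obtain ⟨x, rfl⟩ := Ideal.Quotient.mk_surjective x
    obtain ⟨⟨y, ⟨_, n, rfl⟩⟩, hy⟩ := IsLocalization.surj (Submonoid.powers a) x
    simp only [map_pow] at hy
    obtain ⟨αbar, hα⟩ := hbij.2 (Ideal.Quotient.mk J y)
    obtain ⟨α, rfl⟩ := Ideal.Quotient.mk_surjective αbar
    refine ⟨α, ?_⟩
    have h1 : algebraMap A A' α - y ∈ J := by
      rw [← Ideal.Quotient.eq]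
      exact hα
    have h2 : algebraMap A' A'' (algebraMap A A' α) - algebraMap A' A'' y ∈
        I.map (algebraMap A A'') := by
      rw [← hJ'', ← map_sub]
      exact Ideal.mem_map_of_mem _ h1
    rw [RingHom.comp_apply, IsScalarTower.algebraMap_apply A A' A'']
    have h3 : Ideal.Quotient.mk (I.map (algebraMap A A'')) (algebraMap A' A'' (algebraMap A A' α)) =
        Ideal.Quotient.mk _ (algebraMap A' A'' y) := Ideal.Quotient.eq.mpr h2
    rw [h3, ← hy, map_mul, map_pow, hapow, mul_one]
  · ext α
    rw [RingHom.mem_ker, RingHom.comp_apply, Ideal.Quotient.eq_zero_iff_mem]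
    constructor
    · intro h
      rw [← hJ'', IsScalarTower.algebraMap_apply A A' A'',
        IsLocalization.mem_map_algebraMap_iff (Submonoid.powers a)] at h
      obtain ⟨⟨⟨j, hj⟩, ⟨_, n, rfl⟩⟩, hjn⟩ := h
      simp only at hjn
      rw [← map_mul, IsLocalization.eq_iff_exists (Submonoid.powers a)] at hjn
      obtain ⟨⟨_, k, rfl⟩, hk⟩ := hjn
      simp only at hk
      -- `a^(k+n) α' = a^k j ∈ J`
      have h1 : a ^ (k + n) * algebraMap A A' α ∈ J := by
        have : a ^ (k + n) * algebraMap A A' α = a ^ k * j := by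
          rw [pow_add, mul_assoc, mul_comm (a ^ n)]; exact hk
        rw [this]
        exact J.mul_mem_left _ hj
      have h2 : algebraMap A A' α ∈ J := by
        have : algebraMap A A' α = a ^ (k + n) * algebraMap A A' α -
            (a ^ (k + n) - 1) * algebraMap A A' α := by ring
        rw [this]
        exact J.sub_mem h1 (J.mul_mem_right _ (hapow' _))
      have h3 : algebraMap (A ⧸ I) (A' ⧸ J) (Ideal.Quotient.mk I α) = 0 := by
        change Ideal.Quotient.mk J (algebraMap A A' α) = 0
        exact Ideal.Quotient.eq_zero_iff_mem.mpr h2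
      have h4 := hbij.1 (h3.trans (map_zero _).symm)
      exact Ideal.Quotient.eq_zero_iff_mem.mp h4
    · intro h
      exact Ideal.mem_map_of_mem _ h


/-- An `A`-algebra hom maps `I X` into `I Y`. -/
theorem algHom_mem_map {A X Y : Type*} [CommRing A] [CommRing X] [CommRing Y] [Algebra A X]
    [Algebra A Y] (I : Ideal A) (f : X →ₐ[A] Y) {x : X} (hx : x ∈ I.map (algebraMap A X)) :
    f x ∈ I.map (algebraMap A Y) := by
  have h := Ideal.mem_map_of_mem f.toRingHom hx
  rw [Ideal.map_map] at h
  have hc : f.toRingHom.comp (algebraMap A X) = algebraMap A Y :=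
    RingHom.ext fun a => f.commutes a
  rw [hc] at h
  exact h

/-- `I (B/IB) = 0`. -/
theorem map_quotient_map_eq_bot {A B : Type*} [CommRing A] [CommRing B] [Algebra A B]
    (I : Ideal A) :
    I.map (algebraMap A (B ⧸ I.map (algebraMap A B))) = ⊥ := by
  have : algebraMap A (B ⧸ I.map (algebraMap A B)) =
      (Ideal.Quotient.mk (I.map (algebraMap A B))).comp (algebraMap A B) := rfl
  rw [this, ← Ideal.map_map, Ideal.map_quotient_self]

section General

variable {A A'' B C : Type*} [CommRing A] [CommRing A''] [CommRing B] [CommRing C]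
  [Algebra A A''] [Algebra A B] [Algebra A C] [Algebra A'' C] [Algebra B C]
  [IsScalarTower A A'' C] [IsScalarTower A B C] (I : Ideal A)

/-- If `C` is generated by `A''` and `B` and `A → A''/IA''` is surjective then `B → C/IC` is
surjective. -/
theorem surjective_of_generated
    (hsurj : Function.Surjective
      ((Ideal.Quotient.mk (I.map (algebraMap A A''))).comp (algebraMap A A'')))
    (hgen : Function.Surjective (Algebra.TensorProduct.productMap
      (IsScalarTower.toAlgHom A A'' C) (IsScalarTower.toAlgHom A B C))) :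
    Function.Surjective ((Ideal.Quotient.mk (I.map (algebraMap A C))).comp (algebraMap B C)) := by
  intro c
  obtain ⟨c, rfl⟩ := Ideal.Quotient.mk_surjective c
  obtain ⟨t, rfl⟩ := hgen c
  induction t using TensorProduct.induction_on with
  | zero => exact ⟨0, by simp⟩
  | tmul x b =>
    obtain ⟨α, hα⟩ := hsurj (Ideal.Quotient.mk _ x)
    rw [RingHom.comp_apply, Ideal.Quotient.eq] at hα
    refine ⟨algebraMap A B α * b, ?_⟩
    rw [Algebra.TensorProduct.productMap_apply_tmul, RingHom.comp_apply, map_mul, map_mul, map_mul]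
    congr 1
    rw [← IsScalarTower.algebraMap_apply A B C, IsScalarTower.algebraMap_apply A A'' C,
      Ideal.Quotient.eq]
    have := algHom_mem_map I (IsScalarTower.toAlgHom A A'' C) hα
    rwa [map_sub] at this
  | add t₁ t₂ h₁ h₂ =>
    obtain ⟨b₁, h₁⟩ := h₁
    obtain ⟨b₂, h₂⟩ := h₂
    exact ⟨b₁ + b₂, by rw [map_add, h₁, h₂, map_add, map_add]⟩

omit [Algebra A A''] [Algebra A'' C] [IsScalarTower A A'' C] in
/-- A retraction onto `B/IB` shows that the kernel of `B → C/IC` is `IB`. -/
theorem ker_eq_of_retraction (ρ : C →ₐ[A] (B ⧸ I.map (algebraMap A B)))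
    (hρ : ∀ b, ρ (algebraMap B C b) = Ideal.Quotient.mk _ b) :
    RingHom.ker ((Ideal.Quotient.mk (I.map (algebraMap A C))).comp (algebraMap B C)) =
      I.map (algebraMap A B) := by
  ext b
  rw [RingHom.mem_ker, RingHom.comp_apply, Ideal.Quotient.eq_zero_iff_mem]
  constructor
  · intro h
    have h1 := algHom_mem_map I ρ h
    rw [map_quotient_map_eq_bot, Ideal.mem_bot, hρ] at h1
    exact Ideal.Quotient.eq_zero_iff_mem.mp h1
  · intro h
    exact algHom_mem_map I (IsScalarTower.toAlgHom A B C) h

/-- If `C` is generated by `A''` and `B`, and a good element of `B` becomes invertible in `C` with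
integral inverse, then `C` is integral over `A''`. -/
theorem isIntegral_of_good
    (hgen : Function.Surjective (Algebra.TensorProduct.productMap
      (IsScalarTower.toAlgHom A A'' C) (IsScalarTower.toAlgHom A B C)))
    (g : B) (hg : ∀ x : B, ∃ m : ℕ, IsIntegral A (g ^ m * x)) (δ : C) (hδ : IsIntegral A'' δ)
    (hgδ : algebraMap B C g * δ = 1) : Algebra.IsIntegral A'' C := by
  constructor
  intro c
  obtain ⟨t, rfl⟩ := hgen c
  induction t using TensorProduct.induction_on with
  | zero => rw [map_zero]; exact isIntegral_zero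
  | tmul x b =>
    rw [Algebra.TensorProduct.productMap_apply_tmul]
    refine IsIntegral.mul isIntegral_algebraMap ?_
    obtain ⟨m, hm⟩ := hg b
    have h1 : IsIntegral A (algebraMap B C (g ^ m * b)) := hm.map (IsScalarTower.toAlgHom A B C)
    have h2 : IsIntegral A'' (algebraMap B C (g ^ m * b)) := h1.tower_top
    have h3 : algebraMap B C b = δ ^ m * algebraMap B C (g ^ m * b) := by
      rw [map_mul, map_pow, ← mul_assoc, ← mul_pow, mul_comm δ, hgδ, one_pow, one_mul]
    change IsIntegral A'' (algebraMap B C b)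
    rw [h3]
    exact (hδ.pow m).mul h2
  | add t₁ t₂ h₁ h₂ => rw [map_add]; exact h₁.add h₂

end General


section Assemble

attribute [local instance] Algebra.TensorProduct.rightAlgebra

variable {A A'' B : Type u} [CommRing A] [CommRing A''] [CommRing B] [Algebra A A'']
  [Algebra A B]

/-- the factor of `A'' ⊗ B` cut out by the idempotent `ε` -/
abbrev CC (ε : A'' ⊗[A] B) : Type u := (A'' ⊗[A] B) ⧸ Ideal.span {1 - ε}

theorem productMap_eq_mk (ε : A'' ⊗[A] B) (t : A'' ⊗[A] B) :
    Algebra.TensorProduct.productMap (IsScalarTower.toAlgHom A A'' (CC ε))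
      (IsScalarTower.toAlgHom A B (CC ε)) t = Ideal.Quotient.mk _ t := by
  induction t using TensorProduct.induction_on with
  | zero => simp
  | tmul x b =>
    rw [Algebra.TensorProduct.productMap_apply_tmul]
    change Ideal.Quotient.mk _ (x ⊗ₜ[A] (1 : B)) * Ideal.Quotient.mk _ ((1 : A'') ⊗ₜ[A] b) = _
    rw [← map_mul, Algebra.TensorProduct.tmul_mul_tmul, mul_one, one_mul]
  | add t₁ t₂ h₁ h₂ => rw [map_add, h₁, h₂, map_add]

theorem productMap_surjective (ε : A'' ⊗[A] B) :
    Function.Surjective (Algebra.TensorProduct.productMap (IsScalarTower.toAlgHom A A'' (CC ε))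
      (IsScalarTower.toAlgHom A B (CC ε))) := by
  intro c
  obtain ⟨t, rfl⟩ := Ideal.Quotient.mk_surjective c
  exact ⟨t, productMap_eq_mk ε t⟩

theorem assemble [Algebra.FiniteType A B] [Algebra.Etale A A''] (I : Ideal A)
    (hsurj : Function.Surjective
      ((Ideal.Quotient.mk (I.map (algebraMap A A''))).comp (algebraMap A A'')))
    (hker : RingHom.ker
      ((Ideal.Quotient.mk (I.map (algebraMap A A''))).comp (algebraMap A A'')) = I)
    (g : B) (hg1 : Ideal.Quotient.mk (I.map (algebraMap A B)) g = 1)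
    (hgood : ∀ x : B, ∃ m : ℕ, IsIntegral A (g ^ m * x))
    (ε : A'' ⊗[A] B) (hε : IsIdempotentElem ε)
    (hεg : ε - (1 : A'') ⊗ₜ[A] g ∈ I.map (algebraMap A (A'' ⊗[A] B)))
    (δ₀ : A'' ⊗[A] B) (hδ₀ : IsIntegral A'' δ₀)
    (hgδ : Ideal.Quotient.mk (Ideal.span {1 - ε}) (((1 : A'') ⊗ₜ[A] g) * δ₀) = 1) :
    ∃ (C : Type u) (_ : CommRing C) (_ : Algebra A C) (_ : Algebra A'' C) (_ : Algebra B C)
      (_ : IsScalarTower A A'' C) (_ : IsScalarTower A B C),
      Algebra.Etale B C ∧ Module.Finite A'' C ∧
      Function.Surjective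
        ((Ideal.Quotient.mk (Ideal.map (algebraMap A C) I)).comp (algebraMap B C)) ∧
      RingHom.ker ((Ideal.Quotient.mk (Ideal.map (algebraMap A C) I)).comp (algebraMap B C)) =
        Ideal.map (algebraMap A B) I := by
  refine ⟨CC ε, inferInstance, inferInstance, inferInstance, inferInstance, inferInstance,
    inferInstance, ?_, ?_, ?_, ?_⟩
  · -- étale
    haveI hEtT : Algebra.Etale B (A'' ⊗[A] B) :=
      Algebra.Etale.of_equiv (Algebra.TensorProduct.commRight A B A'')
    haveI := IsLocalization.Away.quotient_of_isIdempotentElem hε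
    haveI hEtC : Algebra.Etale (A'' ⊗[A] B) (CC ε) := Algebra.Etale.of_isLocalizationAway ε
    exact Algebra.Etale.comp B (A'' ⊗[A] B) (CC ε)
  · -- finite
    haveI : Algebra.FiniteType A'' (CC ε) :=
      Algebra.FiniteType.of_surjective (Ideal.Quotient.mkₐ A'' (Ideal.span {1 - ε}))
        (Ideal.Quotient.mkₐ_surjective A'' _)
    haveI : Algebra.IsIntegral A'' (CC ε) := by
      refine isIntegral_of_good (A := A) (productMap_surjective ε) g hgood
        (Ideal.Quotient.mk _ δ₀) (hδ₀.map (Ideal.Quotient.mkₐ A'' (Ideal.span {1 - ε}))) ?_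
      change Ideal.Quotient.mk _ ((1 : A'') ⊗ₜ[A] g) * Ideal.Quotient.mk _ δ₀ = 1
      rw [← map_mul]
      exact hgδ
    exact Algebra.IsIntegral.finite
  · exact surjective_of_generated I hsurj (productMap_surjective ε)
  · -- kernel, via a retraction
    have hle : RingHom.ker
        ((Ideal.Quotient.mk (I.map (algebraMap A A''))).comp (algebraMap A A'')) ≤
        RingHom.ker (algebraMap A (B ⧸ I.map (algebraMap A B))) := by
      rw [hker]
      intro i hi
      rw [RingHom.mem_ker]
      change Ideal.Quotient.mk _ (algebraMap A B i) = 0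
      exact Ideal.Quotient.eq_zero_iff_mem.mpr (Ideal.mem_map_of_mem _ hi)
    let σ' : (A'' ⧸ I.map (algebraMap A A'')) →+* (B ⧸ I.map (algebraMap A B)) :=
      RingHom.liftOfSurjective _ hsurj ⟨algebraMap A (B ⧸ I.map (algebraMap A B)), hle⟩
    let σ : A'' →ₐ[A] (B ⧸ I.map (algebraMap A B)) :=
      { toRingHom := σ'.comp (Ideal.Quotient.mk _)
        commutes' := fun α =>
          RingHom.liftOfSurjective_comp_apply _ hsurj
            ⟨algebraMap A (B ⧸ I.map (algebraMap A B)), hle⟩ α }
    let ρ₀ : A'' ⊗[A] B →ₐ[A] (B ⧸ I.map (algebraMap A B)) :=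
      Algebra.TensorProduct.lift σ (Ideal.Quotient.mkₐ A (I.map (algebraMap A B)))
        (fun _ _ => Commute.all _ _)
    have hρ₀ε : ρ₀ ε = 1 := by
      have h1 := algHom_mem_map I ρ₀ hεg
      rw [map_quotient_map_eq_bot, Ideal.mem_bot, map_sub, sub_eq_zero] at h1
      rw [h1, Algebra.TensorProduct.lift_tmul, map_one, one_mul]
      exact hg1
    let ρ : CC ε →ₐ[A] (B ⧸ I.map (algebraMap A B)) :=
      Ideal.Quotient.liftₐ (Ideal.span {1 - ε}) ρ₀ (by
        intro t ht
        obtain ⟨c, rfl⟩ := Ideal.mem_span_singleton'.mp ht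
        rw [map_mul, map_sub, map_one, hρ₀ε, sub_self, mul_zero])
    refine ker_eq_of_retraction I ρ ?_
    intro b
    change ρ (Ideal.Quotient.mk _ ((1 : A'') ⊗ₜ[A] b)) = _
    have h0 : ρ (Ideal.Quotient.mk _ ((1 : A'') ⊗ₜ[A] b)) = ρ₀ ((1 : A'') ⊗ₜ[A] b) := rfl
    rw [h0, Algebra.TensorProduct.lift_tmul, map_one, one_mul]
    rfl

end Assemble


/-- abstract computation: a unit modulo the complementary idempotent -/
theorem mk_mul_eq_one {R : Type*} [CommRing R] (ε γ' d' u w : R)
    (h1 : (ε * γ' + (1 - ε)) * d' = u) (h2 : u * w = 1) :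
    Ideal.Quotient.mk (Ideal.span {1 - ε}) (γ' * (d' * w)) = 1 := by
  rw [← map_one (Ideal.Quotient.mk (Ideal.span {1 - ε})), Ideal.Quotient.eq,
    Ideal.mem_span_singleton']
  refine ⟨(γ' - 1) * d' * w, ?_⟩
  have h3 : (1 : R) = (ε * γ' + (1 - ε)) * d' * w := by rw [h1, h2]
  calc (γ' - 1) * d' * w * (1 - ε) = γ' * (d' * w) - (ε * γ' + (1 - ε)) * d' * w := by ring
    _ = γ' * (d' * w) - 1 := by rw [← h3]

section Main

theorem main (A : Type u) [CommRing A] (I : Ideal A) (B : Type u) [CommRing B] [Algebra A B]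
    [Algebra.FiniteType A B] (hfin : Module.Finite A (B ⧸ Ideal.map (algebraMap A B) I)) :
    ∃ (A' : Type u) (_ : CommRing A') (_ : Algebra A A') (_ : Algebra.Etale A A')
      (C : Type u) (_ : CommRing C) (_ : Algebra A C) (_ : Algebra A' C) (_ : Algebra B C)
      (_ : IsScalarTower A A' C) (_ : IsScalarTower A B C),
      Function.Surjective
        ((Ideal.Quotient.mk (Ideal.map (algebraMap A A') I)).comp (algebraMap A A')) ∧
      RingHom.ker ((Ideal.Quotient.mk (Ideal.map (algebraMap A A') I)).comp (algebraMap A A')) = I ∧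
      Algebra.Etale B C ∧ Module.Finite A' C ∧
      Function.Surjective
        ((Ideal.Quotient.mk (Ideal.map (algebraMap A C) I)).comp (algebraMap B C)) ∧
      RingHom.ker ((Ideal.Quotient.mk (Ideal.map (algebraMap A C) I)).comp (algebraMap B C)) =
        Ideal.map (algebraMap A B) I := by
  classical
  haveI : Module.Finite (A ⧸ I) (B ⧸ Ideal.map (algebraMap A B) I) :=
    Module.Finite.of_restrictScalars_finite A (A ⧸ I) _
  have hfin' : Module.Finite (A ⧸ I)
      ((B ⧸ Ideal.map (algebraMap A B) I) ⧸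
        Ideal.span {1 - (1 : B ⧸ Ideal.map (algebraMap A B) I)}) :=
    inferInstance
  obtain ⟨g, hgidem, hg1, hgood⟩ := ZMTIdem.main A B I 1 IsIdempotentElem.one hfin'
  obtain ⟨A', _, _, hEt, hbij, e', he', hcong⟩ :=
    Groth.Agent.S2041.result (A := A) (B := integralClosure A B) I _ hgidem
  have hcg : e' - (1 : A') ⊗ₜ[A] g ∈ I.map (algebraMap A (A' ⊗[A] integralClosure A B)) :=
    hcong g rfl
  -- the unit trick
  obtain ⟨a, ha, d, hd⟩ := exists_mul_eq_algebraMap (I.map (algebraMap A A'))
    (e' * ((1 : A') ⊗ₜ[A] g) + (1 - e')) (by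
      rw [Ideal.map_map, ← IsScalarTower.algebraMap_eq]
      have : 1 - (e' * ((1 : A') ⊗ₜ[A] g) + (1 - e')) = e' * (e' - (1 : A') ⊗ₜ[A] g) := by
        rw [mul_sub, he'.eq]; ring
      rw [this]
      exact Ideal.mul_mem_left _ _ hcg)
  haveI : Algebra.Etale A' (Localization.Away a) := Algebra.Etale.of_isLocalizationAway a
  haveI hEt'' : Algebra.Etale A (Localization.Away a) := Algebra.Etale.comp A A' (Localization.Away a)
  obtain ⟨hsurj, hker⟩ := quotient_away_of_sub_one_mem I hbij a ha
  let μ : A' ⊗[A] integralClosure A B →ₐ[A] Localization.Away a ⊗[A] B :=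
    Algebra.TensorProduct.map (IsScalarTower.toAlgHom A A' (Localization.Away a))
      (integralClosure A B).val
  have hμint : ∀ t, IsIntegral (Localization.Away a) (μ t) := by
    intro t
    induction t using TensorProduct.induction_on with
    | zero => rw [map_zero]; exact isIntegral_zero
    | tmul x y =>
      change IsIntegral (Localization.Away a)
        ((algebraMap A' (Localization.Away a) x) ⊗ₜ[A] (y : B))
      exact IsIntegral.tmul _ y.2
    | add t₁ t₂ h₁ h₂ => rw [map_add]; exact h₁.add h₂
  have hεg : μ e' - (1 : Localization.Away a) ⊗ₜ[A] (g : B) ∈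
      I.map (algebraMap A (Localization.Away a ⊗[A] B)) := by
    have := algHom_mem_map I μ hcg
    rw [map_sub] at this
    have h2 : μ ((1 : A') ⊗ₜ[A] g) = (1 : Localization.Away a) ⊗ₜ[A] (g : B) := by
      change (IsScalarTower.toAlgHom A A' (Localization.Away a) 1) ⊗ₜ[A] (g : B) = _
      rw [map_one]
    rwa [h2] at this
  obtain ⟨C, i1, i2, i3, i4, i5, i6, h1, h2, h3, h4⟩ :=
    assemble (A := A) (A'' := Localization.Away a) (B := B) I hsurj hker (g : B) hg1 hgood
      (μ e') (he'.map μ) hεg
      (μ d * algebraMap (Localization.Away a) (Localization.Away a ⊗[A] B)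
        (IsLocalization.Away.invSelf a))
      ((hμint d).mul isIntegral_algebraMap) (by
        have hμ := congrArg μ hd
        rw [map_mul, map_add, map_mul, map_sub, map_one] at hμ
        have h2 : μ ((1 : A') ⊗ₜ[A] g) = (1 : Localization.Away a) ⊗ₜ[A] (g : B) := by
          change (IsScalarTower.toAlgHom A A' (Localization.Away a) 1) ⊗ₜ[A] (g : B) = _
          rw [map_one]
        have h3 : μ (algebraMap A' (A' ⊗[A] integralClosure A B) a) =
            algebraMap (Localization.Away a) (Localization.Away a ⊗[A] B)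
              (algebraMap A' (Localization.Away a) a) := by
          rw [Algebra.TensorProduct.algebraMap_apply, Algebra.TensorProduct.algebraMap_apply]
          change (IsScalarTower.toAlgHom A A' (Localization.Away a) _) ⊗ₜ[A]
            ((integralClosure A B).val 1) = _
          rw [map_one]
          rfl
        rw [h2, h3] at hμ
        refine mk_mul_eq_one _ _ _ _ _ hμ ?_
        rw [← RingHom.map_mul, IsLocalization.Away.mul_invSelf, RingHom.map_one])
  exact ⟨Localization.Away a, inferInstance, inferInstance, hEt'', C, i1, i2, i3, i4, i5, i6,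
    hsurj, hker, h1, h2, h3, h4⟩

end Main

end Groth.Agent.H78.EtNbhdFin
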