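import Mathlib
import Groth.Prelude.Def_FEt
import Groth.Agent.H2.FEtFaithful
import Groth.Agent.H3.EtaleLiftUnique
import Groth.Agent.S0532

/-!
# Finite étale covers of an affine scheme (bridge to algebra)
-/

set_option autoImplicit false

namespace Groth.Agent.H78.FEtSpec

open CategoryTheory CategoryTheory.Limits AlgebraicGeometry TensorProduct

universe u

section ofAlg

variable (R : Type u) [CommRing R]

lemma prop_SpecMap (S : Type u) [CommRing S] [Algebra R S] [Module.Finite R S] [Algebra.Etale R S] :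
    FEt.prop (Spec.map (CommRingCat.ofHom (algebraMap R S))) := by
  refine ⟨?_, ?_⟩
  · rw [IsFinite.SpecMap_iff]
    change (algebraMap R S).Finite
    exact RingHom.finite_algebraMap.mpr inferInstance
  · rw [HasRingHomProperty.Spec_iff (P := @Etale)]
    change (algebraMap R S).Etale
    exact RingHom.etale_algebraMap.mpr inferInstance

/-- `Spec` of a finite étale algebra as a finite étale cover. -/
noncomputable def ofAlg (S : Type u) [CommRing S] [Algebra R S] [Module.Finite R S]
    [Algebra.Etale R S] : FEt.Cat (Spec (CommRingCat.of R)) :=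
  MorphismProperty.Over.mk ⊤ (Spec.map (CommRingCat.ofHom (algebraMap R S))) (prop_SpecMap R S)

end ofAlg


section Hom

variable {R : Type u} [CommRing R] {S S' S'' : Type u} [CommRing S] [CommRing S'] [CommRing S'']
  [Algebra R S] [Algebra R S'] [Algebra R S'']
  [Module.Finite R S] [Algebra.Etale R S] [Module.Finite R S'] [Algebra.Etale R S']
  [Module.Finite R S''] [Algebra.Etale R S'']

/-- The morphism of covers induced by an algebra homomorphism (contravariantly). -/
noncomputable def ofAlgHom (ψ : S' →ₐ[R] S) : ofAlg R S ⟶ ofAlg R S' :=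
  MorphismProperty.Over.homMk (Spec.map (CommRingCat.ofHom ψ.toRingHom)) (by
    change Spec.map _ ≫ Spec.map _ = Spec.map _
    rw [← Spec.map_comp]
    congr 1
    ext x
    exact ψ.commutes x) trivial

@[simp]
lemma ofAlgHom_left (ψ : S' →ₐ[R] S) :
    (ofAlgHom ψ).left = Spec.map (CommRingCat.ofHom ψ.toRingHom) := rfl

lemma ofAlgHom_comp (ψ : S' →ₐ[R] S) (ψ' : S'' →ₐ[R] S') :
    ofAlgHom (ψ.comp ψ') = ofAlgHom ψ ≫ ofAlgHom ψ' := by
  apply MorphismProperty.Over.Hom.ext
  change Spec.map _ = Spec.map _ ≫ Spec.map _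
  rw [← Spec.map_comp]
  rfl

lemma ofAlgHom_id : ofAlgHom (AlgHom.id R S) = 𝟙 (ofAlg R S) := by
  apply MorphismProperty.Over.Hom.ext
  change Spec.map _ = 𝟙 _
  rw [← Spec.map_id]
  rfl

/-- Every morphism between covers coming from algebras comes from an algebra homomorphism. -/
lemma exists_ofAlgHom (f : ofAlg R S ⟶ ofAlg R S') : ∃ ψ : S' →ₐ[R] S, ofAlgHom ψ = f := by
  let g : CommRingCat.of S' ⟶ CommRingCat.of S := Spec.preimage f.left
  have hg : Spec.map g = f.left := Spec.map_preimage _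
  have hw : f.left ≫ Spec.map (CommRingCat.ofHom (algebraMap R S')) =
      Spec.map (CommRingCat.ofHom (algebraMap R S)) := MorphismProperty.Over.w f
  have hcomm : CommRingCat.ofHom (algebraMap R S') ≫ g = CommRingCat.ofHom (algebraMap R S) := by
    apply Spec.map_injective
    rw [Spec.map_comp, hg]
    exact hw
  refine ⟨{ toRingHom := g.hom, commutes' := ?_ }, ?_⟩
  · intro r
    exact congrArg (fun h : CommRingCat.of R ⟶ CommRingCat.of S => h.hom r) hcomm
  · apply MorphismProperty.Over.Hom.ext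
    exact hg

lemma ofAlgHom_injective : Function.Injective (ofAlgHom : (S' →ₐ[R] S) → _) := by
  intro ψ ψ' h
  have h1 : Spec.map (CommRingCat.ofHom ψ.toRingHom) = Spec.map (CommRingCat.ofHom ψ'.toRingHom) :=
    congrArg (fun f => f.left) h
  have h2 := Spec.map_injective h1
  apply AlgHom.ext
  intro x
  exact congrArg (fun h : CommRingCat.of S' ⟶ CommRingCat.of S => h.hom x) h2

/-- Isomorphic algebras give isomorphic covers. -/
noncomputable def ofAlgIso (e : S ≃ₐ[R] S') : ofAlg R S ≅ ofAlg R S' where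
  hom := ofAlgHom e.symm.toAlgHom
  inv := ofAlgHom e.toAlgHom
  hom_inv_id := by
    rw [← ofAlgHom_comp, ← ofAlgHom_id]
    congr 1
    ext x
    simp
  inv_hom_id := by
    rw [← ofAlgHom_comp, ← ofAlgHom_id]
    congr 1
    ext x
    simp

end Hom


section Obj

/-- Every finite étale cover of `Spec R` is `Spec` of a finite étale `R`-algebra. -/
theorem exists_iso_ofAlg (R : Type u) [CommRing R] (Z : FEt.Cat (Spec (CommRingCat.of R))) :
    ∃ (S : Type u) (_ : CommRing S) (_ : Algebra R S) (_ : Module.Finite R S)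
      (_ : Algebra.Etale R S), Nonempty (Z ≅ ofAlg R S) := by
  let f : Z.left ⟶ Spec (CommRingCat.of R) := Z.hom
  have hZ : IsFinite f ∧ Etale f := Z.prop
  haveI : IsFinite f := hZ.1
  haveI : Etale f := hZ.2
  haveI : IsAffine Z.left := isAffine_of_isAffineHom f
  let φ : CommRingCat.of R ⟶ Γ(Z.left, ⊤) :=
    (Scheme.ΓSpecIso (CommRingCat.of R)).inv ≫ f.appTop
  letI : Algebra R Γ(Z.left, ⊤) := φ.hom.toAlgebra
  have hcomp : Z.left.isoSpec.hom ≫ Spec.map φ = f := by
    rw [Spec.map_comp, Scheme.isoSpec_hom, ← Scheme.toSpecΓ_naturality_assoc,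
      toSpecΓ_SpecMap_ΓSpecIso_inv, Category.comp_id]
  have hprop : FEt.prop (Spec.map φ) := by
    have h1 : FEt.prop (Z.left.isoSpec.hom ≫ Spec.map φ) := by rw [hcomp]; exact Z.prop
    exact (MorphismProperty.cancel_left_of_respectsIso FEt.prop Z.left.isoSpec.hom
      (Spec.map φ)).mp h1
  have hfin : Module.Finite R Γ(Z.left, ⊤) := by
    have := hprop.1
    rw [IsFinite.SpecMap_iff] at this
    exact this
  have het : Algebra.Etale R Γ(Z.left, ⊤) := by
    have := hprop.2
    rw [HasRingHomProperty.Spec_iff (P := @Etale)] at this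
    exact this
  exact ⟨Γ(Z.left, ⊤), inferInstance, inferInstance, hfin, het,
    ⟨MorphismProperty.Over.isoMk Z.left.isoSpec hcomp⟩⟩

end Obj


section BaseChange

variable (A : Type u) [CommRing A] (A₀ : Type u) [CommRing A₀] [Algebra A A₀]

/-- the base change morphism `Spec A₀ ⟶ Spec A` -/
noncomputable abbrev q : Spec (CommRingCat.of A₀) ⟶ Spec (CommRingCat.of A) :=
  Spec.map (CommRingCat.ofHom (algebraMap A A₀))

variable (B : Type u) [CommRing B] [Algebra A B]

/-- the underlying isomorphism of schemes `Spec B ×_{Spec A} Spec A₀ ≅ Spec (A₀ ⊗ B)` -/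
noncomputable def pbIso :
    pullback (Spec.map (CommRingCat.ofHom (algebraMap A B))) (q A A₀) ≅
      Spec (CommRingCat.of (A₀ ⊗[A] B)) :=
  pullbackSymmetry _ _ ≪≫ pullbackSpecIso A A₀ B

lemma pbIso_hom_algebraMap :
    (pbIso A A₀ B).hom ≫ Spec.map (CommRingCat.ofHom (algebraMap A₀ (A₀ ⊗[A] B))) =
      pullback.snd _ _ := by
  rw [pbIso, Iso.trans_hom, Category.assoc, pullbackSpecIso_hom_fst', pullbackSymmetry_hom_comp_fst]

lemma pbIso_hom_includeRight :
    (pbIso A A₀ B).hom ≫ Spec.map (CommRingCat.ofHom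
      (Algebra.TensorProduct.includeRight : B →ₐ[A] A₀ ⊗[A] B).toRingHom) =
      pullback.fst _ _ := by
  rw [pbIso, Iso.trans_hom, Category.assoc]
  have := pullbackSpecIso_hom_snd A A₀ B
  rw [show (CommRingCat.ofHom (Algebra.TensorProduct.includeRight : B →ₐ[A] A₀ ⊗[A] B).toRingHom) =
    CommRingCat.ofHom (RingHomClass.toRingHom
      (Algebra.TensorProduct.includeRight : B →ₐ[A] A₀ ⊗[A] B)) from rfl, this,
    pullbackSymmetry_hom_comp_snd]

variable [Module.Finite A B] [Algebra.Etale A B]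

/-- Base change of `Spec B` is `Spec (A₀ ⊗ B)`. -/
noncomputable def restrictIso :
    (FEt.restrict (q A A₀)).obj (ofAlg A B) ≅ ofAlg A₀ (A₀ ⊗[A] B) :=
  MorphismProperty.Over.isoMk (pbIso A A₀ B) (pbIso_hom_algebraMap A A₀ B)


@[simp]
lemma restrictIso_hom_left : (restrictIso A A₀ B).hom.left = (pbIso A A₀ B).hom := rfl

variable {A A₀ B} {B' : Type u} [CommRing B'] [Algebra A B'] [Module.Finite A B']
  [Algebra.Etale A B']

omit [Module.Finite A B] [Algebra.Etale A B] [Module.Finite A B'] [Algebra.Etale A B'] in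
lemma pbIso_natural (ψ : B' →ₐ[A] B)
    (m : pullback (Spec.map (CommRingCat.ofHom (algebraMap A B))) (q A A₀) ⟶
      pullback (Spec.map (CommRingCat.ofHom (algebraMap A B'))) (q A A₀))
    (h1 : m ≫ pullback.fst _ _ = pullback.fst _ _ ≫ Spec.map (CommRingCat.ofHom ψ.toRingHom))
    (h2 : m ≫ pullback.snd _ _ = pullback.snd _ _) :
    m ≫ (pbIso A A₀ B').hom = (pbIso A A₀ B).hom ≫
      Spec.map (CommRingCat.ofHom (Algebra.TensorProduct.map (AlgHom.id A₀ A₀) ψ).toRingHom) := by
  rw [← cancel_mono (pbIso A A₀ B').inv, Category.assoc, Iso.hom_inv_id, Category.comp_id]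
  apply pullback.hom_ext
  · -- first projection (to `Spec B'`)
    rw [h1, Category.assoc, Category.assoc, ← pbIso_hom_includeRight A A₀ B',
      Iso.inv_hom_id_assoc, ← pbIso_hom_includeRight A A₀ B, Category.assoc, ← Spec.map_comp,
      ← Spec.map_comp]
    congr 2
  · rw [h2, Category.assoc, Category.assoc, ← pbIso_hom_algebraMap A A₀ B',
      Iso.inv_hom_id_assoc, ← pbIso_hom_algebraMap A A₀ B, ← Spec.map_comp]
    congr 2
    ext x
    simp

/-- Naturality of `restrictIso`. -/
lemma restrict_map_ofAlgHom (ψ : B' →ₐ[A] B) :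
    (FEt.restrict (q A A₀)).map (ofAlgHom ψ) ≫ (restrictIso A A₀ B').hom =
      (restrictIso A A₀ B).hom ≫
        ofAlgHom (Algebra.TensorProduct.map (AlgHom.id A₀ A₀) ψ) := by
  apply MorphismProperty.Over.Hom.ext
  exact pbIso_natural ψ ((FEt.restrict (q A A₀)).map (ofAlgHom ψ)).left
    (pullback.lift_fst _ _ _) (pullback.lift_snd _ _ _)

end BaseChange


section Henselian

/-- Every connected component of `Spec A` meets `V(I)` when `I` is in the Jacobson radical. -/
lemma connectedComponent_inter_range_nonempty (A : Type u) [CommRing A] (I : Ideal A)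
    (hI : I ≤ Ideal.jacobson ⊥) (x : Spec (CommRingCat.of A)) :
    (connectedComponent x ∩
      Set.range (Spec.map (CommRingCat.ofHom (Ideal.Quotient.mk I))).base).Nonempty := by
  have hcl : IsClosed (connectedComponent x) := isClosed_connectedComponent
  obtain ⟨J, hJ⟩ := (PrimeSpectrum.isClosed_iff_zeroLocus_ideal _).mp hcl
  have hne : J ≠ ⊤ := by
    intro h
    have hx : x ∈ connectedComponent x := mem_connectedComponent
    rw [hJ, h] at hx
    simp at hx
    exact absurd hx (Set.notMem_empty _)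
  obtain ⟨m, hm, hJm⟩ := Ideal.exists_le_maximal J hne
  let y : PrimeSpectrum A := ⟨m, hm.isPrime⟩
  refine ⟨y, ?_, ?_⟩
  · rw [hJ]
    exact hJm
  · have hr : Set.range (Spec.map (CommRingCat.ofHom (Ideal.Quotient.mk I))).base =
        PrimeSpectrum.zeroLocus (RingHom.ker (Ideal.Quotient.mk I)) :=
      range_comap_of_surjective _ _ Ideal.Quotient.mk_surjective
    rw [hr, Ideal.mk_ker]
    intro a ha
    have h1 : a ∈ Ideal.jacobson (⊥ : Ideal A) := hI ha
    rw [Ideal.jacobson, Ideal.mem_sInf] at h1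
    exact h1 ⟨bot_le, hm⟩

/-- **S0239**: for a henselian pair `(A, I)`, restriction of finite étale covers from `Spec A` to
`Spec (A/I)` is an equivalence. -/
theorem restrict_isEquivalence (A : Type u) [CommRing A] (I : Ideal A) [h : HenselianRing A I] :
    (FEt.restrict (Spec.map (CommRingCat.ofHom (Ideal.Quotient.mk I)))).IsEquivalence := by
  change (FEt.restrict (q A (A ⧸ I))).IsEquivalence
  haveI : IsClosedImmersion (Spec.map (CommRingCat.ofHom (Ideal.Quotient.mk I))) :=
    IsClosedImmersion.spec_of_surjective _ Ideal.Quotient.mk_surjective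
  haveI : (FEt.restrict (q A (A ⧸ I))).Faithful :=
    Groth.Agent.H2.FEtFaithful.restrict_faithful_of_closedImmersion
      (Spec.map (CommRingCat.ofHom (Ideal.Quotient.mk I)))
      (connectedComponent_inter_range_nonempty A I h.jac)
  haveI : (FEt.restrict (q A (A ⧸ I))).Full := by
    refine ⟨fun {Y Y'} φ₀ => ?_⟩
    obtain ⟨B, _, _, _, _, ⟨e⟩⟩ := exists_iso_ofAlg A Y
    obtain ⟨B', _, _, _, _, ⟨e'⟩⟩ := exists_iso_ofAlg A Y'
    obtain ⟨χ, hχ⟩ := exists_ofAlgHom
      ((restrictIso A (A ⧸ I) B).inv ≫ (FEt.restrict (q A (A ⧸ I))).map e.inv ≫ φ₀ ≫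
        (FEt.restrict (q A (A ⧸ I))).map e'.hom ≫ (restrictIso A (A ⧸ I) B').hom)
    obtain ⟨ψ, hψ⟩ := (Groth.Agent.H3.EtaleLift.finite_etale_hom_bijective h B' B).2 χ
    refine ⟨e.hom ≫ ofAlgHom ψ ≫ e'.inv, ?_⟩
    have hnat := restrict_map_ofAlgHom (A₀ := A ⧸ I) ψ
    have hψ' : Algebra.TensorProduct.map (AlgHom.id (A ⧸ I) (A ⧸ I)) ψ = χ := hψ
    rw [hψ', hχ] at hnat
    rw [Functor.map_comp, Functor.map_comp]
    have h2 : (FEt.restrict (q A (A ⧸ I))).map (ofAlgHom ψ) =
        (FEt.restrict (q A (A ⧸ I))).map e.inv ≫ φ₀ ≫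
          (FEt.restrict (q A (A ⧸ I))).map e'.hom := by
      rw [← cancel_mono (restrictIso A (A ⧸ I) B').hom, hnat]
      simp
    rw [h2]
    simp only [Category.assoc, ← Functor.map_comp, Iso.hom_inv_id]
    simp
  haveI : (FEt.restrict (q A (A ⧸ I))).EssSurj := by
    refine ⟨fun Z => ?_⟩
    obtain ⟨C, _, _, _, _, ⟨e⟩⟩ := exists_iso_ofAlg (A ⧸ I) Z
    obtain ⟨B, _, _, hfin, het, ⟨eq⟩⟩ := Groth.Agent.S0532.result A I C
    exact ⟨ofAlg A B, ⟨restrictIso A (A ⧸ I) B ≪≫ ofAlgIso eq ≪≫ e.symm⟩⟩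
  exact { }

end Henselian

end Groth.Agent.H78.FEtSpec
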