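import Groth.Prelude.Def_W4c2invhilbsl2HJ
import Mathlib.Tactic

set_option autoImplicit false

namespace Groth.Agent.H78

open W4c2invhilbsl2

/-- general Hirzebruch–Jung recurrence with arbitrary initial values -/
def hjR (c : List ℤ) (x0 x1 : ℤ) : ℕ → ℤ
  | 0 => x0
  | 1 => x1
  | i + 2 => c.getD i 0 * hjR c x0 x1 (i + 1) - hjR c x0 x1 i

lemma hjR_zero (c : List ℤ) (x0 x1 : ℤ) : hjR c x0 x1 0 = x0 := rfl
lemma hjR_one (c : List ℤ) (x0 x1 : ℤ) : hjR c x0 x1 1 = x1 := rfl
lemma hjR_succ_succ (c : List ℤ) (x0 x1 : ℤ) (i : ℕ) :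
    hjR c x0 x1 (i + 2) = c.getD i 0 * hjR c x0 x1 (i + 1) - hjR c x0 x1 i := rfl

lemma hjP_eq (c : List ℤ) : ∀ i, hjP c i = hjR c 0 1 i
  | 0 => rfl
  | 1 => rfl
  | i + 2 => by
    rw [hjR_succ_succ, ← hjP_eq c (i + 1), ← hjP_eq c i]; rfl

lemma hjQ_eq (c : List ℤ) : ∀ i, hjQ c i = hjR c (-1) 0 i
  | 0 => rfl
  | 1 => rfl
  | i + 2 => by
    rw [hjR_succ_succ, ← hjQ_eq c (i + 1), ← hjQ_eq c i]; rfl

lemma hjR_lin (c : List ℤ) (a b x0 x1 y0 y1 : ℤ) : ∀ i,
    hjR c (a * x0 + b * y0) (a * x1 + b * y1) i = a * hjR c x0 x1 i + b * hjR c y0 y1 i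
  | 0 => rfl
  | 1 => rfl
  | i + 2 => by
    rw [hjR_succ_succ, hjR_succ_succ, hjR_succ_succ, hjR_lin c a b x0 x1 y0 y1 (i + 1),
      hjR_lin c a b x0 x1 y0 y1 i]
    ring

lemma hjR_cons_succ (a : ℤ) (c : List ℤ) (x0 x1 : ℤ) : ∀ i,
    hjR (a :: c) x0 x1 (i + 1) = hjR c x1 (a * x1 - x0) i
  | 0 => rfl
  | 1 => by
    rw [hjR_succ_succ]; rfl
  | i + 2 => by
    rw [hjR_succ_succ (a :: c), hjR_cons_succ a c x0 x1 (i + 1), hjR_cons_succ a c x0 x1 i,
      hjR_succ_succ c]
    rfl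

/-- the remainders `t Pᵢ - b Qᵢ` are the recurrence started at `(b, t)` -/
lemma hjR_bt (c : List ℤ) (b t : ℤ) (i : ℕ) : hjR c b t i = t * hjP c i - b * hjQ c i := by
  have := hjR_lin c t (-b) 0 1 (-1) 0 i
  rw [hjP_eq, hjQ_eq]
  have h0 : t * 0 + -b * -1 = b := by ring
  have h1 : t * 1 + -b * 0 = t := by ring
  rw [h0, h1] at this
  rw [this]; ring

lemma hjVal_gt_one : ∀ (c : List ℤ), c ≠ [] → (∀ x ∈ c, (2 : ℤ) ≤ x) → (1 : ℚ) < HJFrac.hjVal c
  | [], h, _ => absurd rfl h
  | [a], _, h2 => by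
    have ha : (2 : ℤ) ≤ a := h2 a (by simp)
    have : (2 : ℚ) ≤ a := by exact_mod_cast ha
    simp only [HJFrac.hjVal, inv_zero, sub_zero]
    linarith
  | a :: a' :: c, _, h2 => by
    have ha : (2 : ℤ) ≤ a := h2 a (by simp)
    have : (2 : ℚ) ≤ a := by exact_mod_cast ha
    have ih := hjVal_gt_one (a' :: c) (by simp) (fun x hx => h2 x (by simp [List.mem_cons] at hx ⊢; tauto))
    have hv : HJFrac.hjVal (a :: a' :: c) = (a : ℚ) - (HJFrac.hjVal (a' :: c))⁻¹ := rfl
    rw [hv]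
    have hinv : (HJFrac.hjVal (a' :: c))⁻¹ < 1 := inv_lt_one_of_one_lt₀ ih
    linarith

/-- Main structure lemma for HJ remainders. -/
lemma hj_main : ∀ (c : List ℤ), (∀ x ∈ c, (2 : ℤ) ≤ x) → ∀ (b t : ℤ), 0 < t → 0 < b →
    Nat.Coprime b.natAbs t.natAbs → HJFrac.hjVal c = (b : ℚ) / t →
    c ≠ [] ∧ (∀ i ≤ c.length, hjR c b t (i + 1) < hjR c b t i) ∧ hjR c b t c.length = 1 ∧
      hjR c b t (c.length + 1) = 0
  | [], _, b, t, ht, hb, _, hv => by
    exfalso
    simp only [HJFrac.hjVal] at hv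
    have : (b : ℚ) / t ≠ 0 := by
      apply div_ne_zero <;> exact_mod_cast (ne_of_gt ‹_›)
    exact this hv.symm
  | [a], h2, b, t, ht, hb, hcop, hv => by
    have ha : (2 : ℤ) ≤ a := h2 a (by simp)
    simp only [HJFrac.hjVal, inv_zero, sub_zero] at hv
    have h1 : (a : ℚ) / (1 : ℤ) = (b : ℚ) / t := by simpa using hv
    obtain ⟨hab, h1t⟩ := Rat.div_int_inj (by norm_num) ht (by simp) hcop h1
    subst hab; subst h1t
    refine ⟨by simp, ?_, ?_, ?_⟩
    · intro i hi
      simp only [List.length_singleton] at hi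
      interval_cases i
      · simp only [hjR_zero, zero_add, hjR_one]; linarith
      · rw [hjR_succ_succ]; simp only [hjR_zero, zero_add, hjR_one, List.getD_cons_zero]; linarith
    · simp [hjR_one]
    · simp only [List.length_singleton]
      rw [hjR_succ_succ]; simp [hjR_zero, hjR_one]
  | a :: a' :: c, h2, b, t, ht, hb, hcop, hv => by
    have ha : (2 : ℤ) ≤ a := h2 a (by simp)
    have h2' : ∀ x ∈ a' :: c, (2 : ℤ) ≤ x := fun x hx => h2 x (by simp [List.mem_cons] at hx ⊢; tauto)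
    have hv1 := hjVal_gt_one (a' :: c) (by simp) h2'
    set v := HJFrac.hjVal (a' :: c) with hvdef
    have hvpos : (0 : ℚ) < v := by linarith
    have hnum : 0 < v.num := Rat.num_pos.mpr hvpos
    have hden : (0 : ℤ) < v.den := by exact_mod_cast v.den_pos
    have hvq : v = (v.num : ℚ) / ((v.den : ℤ) : ℚ) := by
      have := Rat.num_div_den v
      push_cast
      exact this.symm
    have ih := hj_main (a' :: c) h2' v.num v.den hden hnum (by simpa using v.reduced) hvq
    -- b / t = a - den / num = (a * num - den) / num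
    have hnumQ : (v.num : ℚ) ≠ 0 := by exact_mod_cast (ne_of_gt hnum)
    have hdenQ : ((v.den : ℤ) : ℚ) ≠ 0 := by exact_mod_cast (ne_of_gt hden)
    have hv' : (b : ℚ) / t = ((a * v.num - v.den : ℤ) : ℚ) / (v.num : ℚ) := by
      rw [← hv]
      have : HJFrac.hjVal (a :: a' :: c) = (a : ℚ) - v⁻¹ := rfl
      rw [this]
      have hvinv : v⁻¹ = ((v.den : ℤ) : ℚ) / (v.num : ℚ) := by
        conv_lhs => rw [hvq]
        rw [inv_div]
      rw [hvinv]
      push_cast
      field_simp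
    have hcop' : Nat.Coprime (a * v.num - v.den : ℤ).natAbs v.num.natAbs := by
      have h1 : IsCoprime (a * v.num - (v.den : ℤ)) v.num := by
        have h0 : IsCoprime ((v.den : ℤ)) v.num := by
          have := v.reduced
          apply Int.isCoprime_iff_gcd_eq_one.mpr
          rw [Int.gcd_comm]
          simpa [Int.gcd] using this
        have : IsCoprime (-(v.den : ℤ) + a * v.num) v.num := (h0.neg_left).add_mul_right_left a
        rwa [neg_add_eq_sub] at this
      exact Int.isCoprime_iff_gcd_eq_one.mp h1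
    obtain ⟨hbeq, hteq⟩ := Rat.div_int_inj ht hnum hcop hcop' hv'
    obtain ⟨_, ihdec, ihlen, ihlast⟩ := ih
    have hshift : ∀ i, hjR (a :: a' :: c) b t (i + 1) = hjR (a' :: c) v.num v.den i := by
      intro i
      rw [hjR_cons_succ, hteq, hbeq]
      congr 1
      ring
    have hvlt : (v.den : ℤ) < v.num := by
      have : (1 : ℚ) < (v.num : ℚ) / ((v.den : ℤ) : ℚ) := by rw [← hvq]; exact hv1
      rw [one_lt_div (by exact_mod_cast hden)] at this
      exact_mod_cast this
    refine ⟨by simp, ?_, ?_, ?_⟩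
    · intro i hi
      cases i with
      | zero =>
        simp only [zero_add, hjR_one, hjR_zero]
        rw [hteq, hbeq]
        nlinarith
      | succ j =>
        rw [hshift, hshift]
        apply ihdec
        simp only [List.length_cons] at hi ⊢
        omega
    · have : (a :: a' :: c).length = (a' :: c).length + 1 := by simp
      rw [this, hshift]; exact ihlen
    · have : (a :: a' :: c).length + 1 = ((a' :: c).length + 1) + 1 := by simp
      rw [this, hshift]; exact ihlast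

end Groth.Agent.H78
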