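import Groth.Agent.H78.HJ

set_option autoImplicit false

namespace Groth.Agent.H78

open W4c2invhilbsl2

section
variable (p q m : ℕ)

lemma gcdK_pos (hpq : p < q) : 0 < gcdK p q m := by
  unfold gcdK
  exact Nat.gcd_pos_of_pos_right _ (by omega)

lemma gcdK_mul_bB : gcdK p q m * bB p q m = q - p := by
  unfold bB gcdK
  exact Nat.mul_div_cancel' (Nat.gcd_dvd_right _ _)

lemma gcdK_dvd_beta : gcdK p q m ∣ m * p % (q - p) := by
  unfold gcdK
  have h1 : Nat.gcd m (q - p) ∣ m * p := Dvd.dvd.mul_right (Nat.gcd_dvd_left _ _) _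
  have h2 : Nat.gcd m (q - p) ∣ q - p := Nat.gcd_dvd_right _ _
  exact (Nat.dvd_mod_iff h2).mpr h1

lemma gcdK_mul_tT (hpq : p < q) : gcdK p q m * tT p q m = q - p - m * p % (q - p) := by
  unfold tT
  apply Nat.mul_div_cancel'
  have h2 : gcdK p q m ∣ q - p := by unfold gcdK; exact Nat.gcd_dvd_right _ _
  exact (Nat.dvd_sub h2 (gcdK_dvd_beta p q m))

lemma beta_ne_zero (hpq : p < q) (hcop : Nat.Coprime p q) (hnt : ¬ (q - p ∣ m)) :
    m * p % (q - p) ≠ 0 := by
  intro h
  apply hnt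
  have hd : q - p ∣ m * p := Nat.dvd_of_mod_eq_zero h
  have hc : Nat.Coprime (q - p) p := by
    have : Nat.Coprime p (q - p) := by
      rw [Nat.Coprime, ← Nat.gcd_add_self_right, Nat.sub_add_cancel hpq.le]
      exact hcop
    exact this.symm
  exact hc.dvd_of_dvd_mul_right hd

lemma tT_pos (hpq : p < q) : 0 < tT p q m := by
  have h := gcdK_mul_tT p q m hpq
  have hlt : m * p % (q - p) < q - p := Nat.mod_lt _ (by omega)
  by_contra h0
  have : tT p q m = 0 := by omega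
  rw [this] at h
  omega

lemma tT_lt_bB (hpq : p < q) (hcop : Nat.Coprime p q) (hnt : ¬ (q - p ∣ m)) :
    tT p q m < bB p q m := by
  have h1 := gcdK_mul_tT p q m hpq
  have h2 := gcdK_mul_bB p q m
  have h3 := beta_ne_zero p q m hpq hcop hnt
  have hg := gcdK_pos p q m hpq
  have : gcdK p q m * tT p q m < gcdK p q m * bB p q m := by omega
  exact Nat.lt_of_mul_lt_mul_left this

lemma coprime_bB_tT (hpq : p < q) (hcop : Nat.Coprime p q) :
    Nat.Coprime (bB p q m) (tT p q m) := by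
  have hg := gcdK_pos p q m hpq
  have h1 := gcdK_mul_tT p q m hpq
  have h2 := gcdK_mul_bB p q m
  -- gcd (g b) (g t) = g * gcd b t ; and gcd(q-p, q-p-β) = gcd(q-p, β) = gcd(q-p, m p) = gcd(q-p,m) = g
  have hlt : m * p % (q - p) < q - p := Nat.mod_lt _ (by omega)
  have hc : Nat.Coprime (q - p) p := by
    have : Nat.Coprime p (q - p) := by
      rw [Nat.Coprime, ← Nat.gcd_add_self_right, Nat.sub_add_cancel hpq.le]
      exact hcop
    exact this.symm
  have key : Nat.gcd (q - p) (q - p - m * p % (q - p)) = gcdK p q m := by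
    rw [Nat.gcd_self_sub_right hlt.le, Nat.gcd_comm, ← Nat.gcd_rec]
    unfold gcdK
    rw [Nat.gcd_comm m]
    exact Nat.Coprime.gcd_mul_right_cancel_right m hc.symm
  have key2 : Nat.gcd (gcdK p q m * bB p q m) (gcdK p q m * tT p q m) = gcdK p q m := by
    rw [h1, h2]; exact key
  rw [Nat.gcd_mul_left] at key2
  have : gcdK p q m * Nat.gcd (bB p q m) (tT p q m) = gcdK p q m * 1 := by rw [key2, mul_one]
  exact Nat.eq_of_mul_eq_mul_left hg this

lemma mp_eq : m * p = (q - p) * alpha p q m + m * p % (q - p) := by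
  unfold alpha
  exact (Nat.div_add_mod _ _).symm

/-- `nᵢ = g (t Pᵢ - b Qᵢ)` -/
lemma nN_eq (hpq : p < q) (c : List ℤ) (i : ℕ) :
    nN p q m c i = (gcdK p q m : ℤ) * ((tT p q m : ℤ) * hjP c i - (bB p q m : ℤ) * hjQ c i) := by
  have h1 := gcdK_mul_tT p q m hpq
  have h2 := gcdK_mul_bB p q m
  have h3 := mp_eq p q m
  have hlt : m * p % (q - p) < q - p := Nat.mod_lt _ (by omega)
  have h1' : (gcdK p q m : ℤ) * tT p q m = (q : ℤ) - p - ((m * p % (q - p) : ℕ) : ℤ) := by
    have : ((gcdK p q m * tT p q m : ℕ) : ℤ) = ((q - p - m * p % (q - p) : ℕ) : ℤ) := by rw [h1]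
    push_cast at this
    rw [this]
    omega
  have h2' : (gcdK p q m : ℤ) * bB p q m = (q : ℤ) - p := by
    have : ((gcdK p q m * bB p q m : ℕ) : ℤ) = ((q - p : ℕ) : ℤ) := by rw [h2]
    push_cast at this
    rw [this]
    omega
  have h3' : (m : ℤ) * p = ((q : ℤ) - p) * alpha p q m + ((m * p % (q - p) : ℕ) : ℤ) := by
    have hh : ((m * p : ℕ) : ℤ) = (((q - p) * alpha p q m + m * p % (q - p) : ℕ) : ℤ) := by rw [← h3]
    have hqp : ((q - p : ℕ) : ℤ) = (q : ℤ) - p := by omega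
    rw [Nat.cast_add, Nat.cast_mul, Nat.cast_mul, hqp] at hh
    exact hh
  unfold nN eE lL
  push_cast
  have e1 : (gcdK p q m : ℤ) * ((tT p q m : ℤ) * hjP c i - (bB p q m : ℤ) * hjQ c i) =
      ((gcdK p q m : ℤ) * tT p q m) * hjP c i - ((gcdK p q m : ℤ) * bB p q m) * hjQ c i := by ring
  rw [e1, h1', h2']
  have : ((m * p % (q - p) : ℕ) : ℤ) = (m : ℤ) * p - ((q : ℤ) - p) * alpha p q m := by linarith
  rw [this]
  ring

end

/-- package of the HJ facts in the setting of the statements -/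
lemma hj_setting (p q m : ℕ) (hp : 0 < p) (hpq : p < q) (hcop : Nat.Coprime p q) (hm : 0 < m)
    (hnt : ¬ (q - p ∣ m)) (c : List ℤ) (hc : IsHJDigits p q m c) :
    c ≠ [] ∧
    (∀ i ≤ c.length, hjR c (bB p q m) (tT p q m) (i + 1) < hjR c (bB p q m) (tT p q m) i) ∧
    hjR c (bB p q m) (tT p q m) c.length = 1 ∧ hjR c (bB p q m) (tT p q m) (c.length + 1) = 0 := by
  obtain ⟨h2, hv⟩ := hc
  have ht := tT_pos p q m hpq
  have hb : 0 < bB p q m := lt_trans ht (tT_lt_bB p q m hpq hcop hnt)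
  have hco := coprime_bB_tT p q m hpq hcop
  apply hj_main c h2 (bB p q m) (tT p q m) (by exact_mod_cast ht) (by exact_mod_cast hb)
  · simpa using hco
  · rw [hv]; push_cast; rfl

lemma nN_eq_hjR (p q m : ℕ) (hpq : p < q) (c : List ℤ) (i : ℕ) :
    nN p q m c i = (gcdK p q m : ℤ) * hjR c (bB p q m) (tT p q m) i := by
  rw [nN_eq p q m hpq, hjR_bt]

end Groth.Agent.H78
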