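import Groth.Agent.H78.HJArith

set_option autoImplicit false

namespace Groth.Agent.H78

open W4c2invhilbsl2

lemma lattice_aux (P' P T' T x y α β : ℤ) (hP' : 0 < P') (hPP : P' < P) (hT : 0 < T) (hTT : T < T')
    (hx0 : 0 < x) (hxP : x < P) (hy0 : 0 ≤ y) (hyT : y < T')
    (hx : x = α * P' + β * P) (hy : y = α * T' + β * T) : False := by
  rcases lt_trichotomy β 0 with hβ | hβ | hβ
  · -- β ≤ -1
    have hα : -β + 1 ≤ α := by
      by_contra h
      have h' : α ≤ -β := by omega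
      have : α * P' ≤ (-β) * P' := mul_le_mul_of_nonneg_right h' hP'.le
      have : (-β) * P' ≤ (-β) * P := mul_le_mul_of_nonneg_left hPP.le (by omega)
      nlinarith
    have h1 : (-β + 1) * T' ≤ α * T' := mul_le_mul_of_nonneg_right hα (by linarith)
    have h2 : (-β) * T ≤ (-β) * T' := mul_le_mul_of_nonneg_left hTT.le (by omega)
    nlinarith
  · subst hβ
    have hα : 1 ≤ α := by
      by_contra h
      have h' : α ≤ 0 := by omega
      have : α * P' ≤ 0 := mul_nonpos_of_nonpos_of_nonneg h' hP'.le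
      linarith
    have : 1 * T' ≤ α * T' := mul_le_mul_of_nonneg_right hα (by linarith)
    linarith
  · -- β ≥ 1
    have hα : α ≤ -1 := by
      by_contra h
      have h' : 0 ≤ α := by omega
      have : 0 ≤ α * P' := mul_nonneg h' hP'.le
      have : 1 * P ≤ β * P := mul_le_mul_of_nonneg_right (by omega) (by linarith)
      linarith
    have hβ2 : -α + 1 ≤ β := by
      by_contra h
      have h' : β ≤ -α := by omega
      have h1 : β * T ≤ (-α) * T := mul_le_mul_of_nonneg_right h' hT.le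
      have h2 : (-α) * T < (-α) * T' := mul_lt_mul_of_pos_left hTT (by omega)
      nlinarith
    have h1 : (-α + 1) * P ≤ β * P := mul_le_mul_of_nonneg_right hβ2 (by linarith)
    have h2 : (-α) * P' ≤ (-α) * P := mul_le_mul_of_nonneg_left hPP.le (by omega)
    nlinarith

/-- determinant identity for `(P, Q)` -/
lemma hjPQ_det (c : List ℤ) : ∀ i, hjP c i * hjQ c (i + 1) - hjP c (i + 1) * hjQ c i = 1
  | 0 => by simp [hjP, hjQ]
  | i + 1 => by
    have ih := hjPQ_det c i
    have e1 : hjP c (i + 1 + 1) = c.getD i 0 * hjP c (i + 1) - hjP c i := rfl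
    have e2 : hjQ c (i + 1 + 1) = c.getD i 0 * hjQ c (i + 1) - hjQ c i := rfl
    rw [e1, e2]
    linarith [ih]

lemma hjP_nonneg_incr (c : List ℤ) (h2 : ∀ x ∈ c, (2 : ℤ) ≤ x) :
    ∀ i, i ≤ c.length → 0 ≤ hjP c i ∧ hjP c i + 1 ≤ hjP c (i + 1)
  | 0, _ => by simp [hjP]
  | i + 1, hi => by
    obtain ⟨h0, h1⟩ := hjP_nonneg_incr c h2 i (by omega)
    have hci : (2 : ℤ) ≤ c.getD i 0 := by
      have hlt : i < c.length := by omega
      rw [List.getD_eq_getElem _ _ hlt]
      exact h2 _ (List.getElem_mem hlt)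
    have e1 : hjP c (i + 1 + 1) = c.getD i 0 * hjP c (i + 1) - hjP c i := rfl
    refine ⟨by linarith, ?_⟩
    rw [e1]
    nlinarith

lemma hjP_pos (c : List ℤ) (h2 : ∀ x ∈ c, (2 : ℤ) ≤ x) (i : ℕ) (hi1 : 1 ≤ i) (hi : i ≤ c.length + 1) :
    0 < hjP c i := by
  obtain ⟨j, rfl⟩ : ∃ j, i = j + 1 := ⟨i - 1, by omega⟩
  have := hjP_nonneg_incr c h2 j (by omega)
  linarith

section
variable (p q m : ℕ) (hp : 0 < p) (hpq : p < q) (hcop : Nat.Coprime p q) (hm : 0 < m)
  (hnt : ¬ (q - p ∣ m)) (c : List ℤ) (hc : IsHJDigits p q m c)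
include hp hpq hcop hm hnt hc

/-- abbreviation for the remainders -/
lemma hjT_anti : ∀ i j, i ≤ j → j ≤ c.length + 1 →
    hjR c (bB p q m) (tT p q m) j ≤ hjR c (bB p q m) (tT p q m) i := by
  obtain ⟨_, hdec, _, _⟩ := hj_setting p q m hp hpq hcop hm hnt c hc
  intro i j hij
  induction j, hij using Nat.le_induction with
  | base => intro _; exact le_rfl
  | succ k hk ih =>
    intro hk1
    exact le_trans (hdec k (by omega)).le (ih (by omega))

lemma hjT_pos (i : ℕ) (hi : i ≤ c.length) : 1 ≤ hjR c (bB p q m) (tT p q m) i := by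
  obtain ⟨_, _, hlen, _⟩ := hj_setting p q m hp hpq hcop hm hnt c hc
  have := hjT_anti p q m hp hpq hcop hm hnt c hc i c.length hi (by omega)
  linarith

lemma hjT_lt_b (i : ℕ) (hi1 : 1 ≤ i) (hi : i ≤ c.length + 1) :
    hjR c (bB p q m) (tT p q m) i < bB p q m := by
  have := hjT_anti p q m hp hpq hcop hm hnt c hc 1 i hi1 hi
  rw [hjR_one] at this
  have h2 := tT_lt_bB p q m hpq hcop hnt
  have : (tT p q m : ℤ) < bB p q m := by exact_mod_cast h2
  linarith

/-- The key lower bound: for `0 < x < Pᵢ`, `(t x) mod b ≥ tᵢ₋₁`. -/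
lemma hj_lower (i : ℕ) (hi : 1 < i) (hir : i ≤ c.length) (x : ℤ) (hx0 : 0 < x) (hx : x < hjP c i) :
    hjR c (bB p q m) (tT p q m) (i - 1) ≤ Int.emod ((tT p q m : ℤ) * x) (bB p q m : ℤ) := by
  obtain ⟨j, rfl⟩ : ∃ j, i = j + 2 := ⟨i - 2, by omega⟩
  have e1 : j + 2 - 1 = j + 1 := by omega
  rw [e1]
  by_contra hlt
  push Not at hlt
  set b : ℤ := (bB p q m : ℤ) with hb
  set t : ℤ := (tT p q m : ℤ) with ht
  have hbpos : 0 < b := by
    have := tT_lt_bB p q m hpq hcop hnt
    have h0 : 0 < bB p q m := by omega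
    rw [hb]
    exact_mod_cast h0
  set y := Int.emod (t * x) b with hy
  set k := (t * x) / b with hk
  have hdiv : b * k + y = t * x := Int.mul_ediv_add_emod (t * x) b
  have hy0 : 0 ≤ y := Int.emod_nonneg _ (ne_of_gt hbpos)
  have h2 := hc.1
  have hP'pos : 0 < hjP c (j + 1) := hjP_pos c h2 (j + 1) (by omega) (by omega)
  have hPP : hjP c (j + 1) < hjP c (j + 2) := by
    have := (hjP_nonneg_incr c h2 (j + 1) (by omega)).2
    linarith
  have hT : 0 < hjR c b t (j + 2) := by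
    have := hjT_pos p q m hp hpq hcop hm hnt c hc (j + 2) hir
    linarith
  have hTT : hjR c b t (j + 2) < hjR c b t (j + 1) := by
    obtain ⟨_, hdec, _, _⟩ := hj_setting p q m hp hpq hcop hm hnt c hc
    exact hdec (j + 1) (by omega)
  have hdet := hjPQ_det c (j + 1)
  refine lattice_aux (hjP c (j + 1)) (hjP c (j + 2)) (hjR c b t (j + 1)) (hjR c b t (j + 2)) x y
    (x * hjQ c (j + 2) - k * hjP c (j + 2)) (k * hjP c (j + 1) - x * hjQ c (j + 1))
    hP'pos hPP hT hTT hx0 hx hy0 hlt ?_ ?_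
  · have : (x * hjQ c (j + 2) - k * hjP c (j + 2)) * hjP c (j + 1) +
        (k * hjP c (j + 1) - x * hjQ c (j + 1)) * hjP c (j + 2) =
        x * (hjP c (j + 1) * hjQ c (j + 1 + 1) - hjP c (j + 1 + 1) * hjQ c (j + 1)) := by ring
    rw [this, hdet, mul_one]
  · rw [hjR_bt, hjR_bt]
    have : (x * hjQ c (j + 2) - k * hjP c (j + 2)) * (t * hjP c (j + 1) - b * hjQ c (j + 1)) +
        (k * hjP c (j + 1) - x * hjQ c (j + 1)) * (t * hjP c (j + 2) - b * hjQ c (j + 2)) =
        (t * x - b * k) * (hjP c (j + 1) * hjQ c (j + 1 + 1) - hjP c (j + 1 + 1) * hjQ c (j + 1)) := by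
      ring
    rw [this, hdet, mul_one]
    linarith

end

end Groth.Agent.H78
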