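import Groth.Agent.H78.HJLattice
import Groth.Agent.S15733

set_option autoImplicit false

namespace Groth.Agent.H78

open W4c2invhilbsl2

section
variable (p q m : ℕ) (hp : 0 < p) (hpq : p < q) (hcop : Nat.Coprime p q) (hm : 0 < m)
  (hnt : ¬ (q - p ∣ m)) (c : List ℤ) (hc : IsHJDigits p q m c)

lemma eE_sub_lL (i : ℕ) : eE p q m c i - lL p q m c i = (m : ℤ) * hjP c i := by
  unfold eE lL; push_cast; ring

lemma qp_mul_lL (i : ℕ) : ((q : ℤ) - p) * lL p q m c i = nN p q m c i + (p : ℤ) * m * hjP c i := by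
  unfold nN eE lL; push_cast; ring

include hp hpq hcop hm hnt hc

lemma nN_nonneg (i : ℕ) (hi : i ≤ c.length + 1) : 0 ≤ nN p q m c i := by
  rw [nN_eq_hjR p q m hpq]
  obtain ⟨_, _, _, hlast⟩ := hj_setting p q m hp hpq hcop hm hnt c hc
  have := hjT_anti p q m hp hpq hcop hm hnt c hc i (c.length + 1) hi le_rfl
  rw [hlast] at this
  exact mul_nonneg (Int.natCast_nonneg _) this

lemma nN_lt_qp (i : ℕ) (hi1 : 1 ≤ i) (hi : i ≤ c.length + 1) : nN p q m c i < (q : ℤ) - p := by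
  rw [nN_eq_hjR p q m hpq]
  have h1 := hjT_lt_b p q m hp hpq hcop hm hnt c hc i hi1 hi
  have h2 := gcdK_mul_bB p q m
  have hg := gcdK_pos p q m hpq
  have h2' : (gcdK p q m : ℤ) * bB p q m = (q : ℤ) - p := by
    have : ((gcdK p q m * bB p q m : ℕ) : ℤ) = ((q - p : ℕ) : ℤ) := by rw [h2]
    have hqp : ((q - p : ℕ) : ℤ) = (q : ℤ) - p := by omega
    rw [Nat.cast_mul, hqp] at this
    exact this
  rw [← h2']
  exact mul_lt_mul_of_pos_left h1 (by exact_mod_cast hg)

lemma lL_nonneg (i : ℕ) (hi : i ≤ c.length + 1) : 0 ≤ lL p q m c i := by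
  have h1 := qp_mul_lL p q m c i
  have h2 := nN_nonneg p q m hp hpq hcop hm hnt c hc i hi
  have h3 : 0 ≤ hjP c i := by
    rcases Nat.eq_zero_or_pos i with h | h
    · subst h; simp [hjP]
    · exact (hjP_pos c hc.1 i h hi).le
  have h4 : (0 : ℤ) ≤ (p : ℤ) * m * hjP c i := by positivity
  have hQ : (0 : ℤ) < (q : ℤ) - p := by omega
  by_contra hneg
  push Not at hneg
  have : ((q : ℤ) - p) * lL p q m c i < 0 := mul_neg_of_pos_of_neg hQ hneg
  linarith

lemma eE_nonneg (i : ℕ) (hi : i ≤ c.length + 1) : 0 ≤ eE p q m c i := by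
  have h1 := eE_sub_lL p q m c i
  have h2 := lL_nonneg p q m hp hpq hcop hm hnt c hc i hi
  have h3 : 0 ≤ hjP c i := by
    rcases Nat.eq_zero_or_pos i with h | h
    · subst h; simp [hjP]
    · exact (hjP_pos c hc.1 i h hi).le
  have h4 : (0 : ℤ) ≤ (m : ℤ) * hjP c i := by positivity
  linarith

/-- core monomial dichotomy for weight `(nᵢ, 0)` -/
lemma core_dichotomy (i : ℕ) (hi : 1 ≤ i) (hir : i ≤ c.length) (d0 u v : ℕ)
    (hn : (d0 : ℤ) - (p : ℤ) * u + (q : ℤ) * v = nN p q m c i)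
    (hmod : (m : ℤ) ∣ (v : ℤ) - u) :
    nN p q m c i ≤ d0 ∨ (eE p q m c i ≤ u ∧ lL p q m c i ≤ v) := by
  by_contra hcon
  push Not at hcon
  obtain ⟨hd0, himp⟩ := hcon
  have hQ : (0 : ℤ) < (q : ℤ) - p := by omega
  have hp' : (0 : ℤ) < p := by exact_mod_cast hp
  have hm' : (0 : ℤ) < m := by exact_mod_cast hm
  have hnlt := nN_lt_qp p q m hp hpq hcop hm hnt c hc i hi (by omega)
  have hn0 := nN_nonneg p q m hp hpq hcop hm hnt c hc i (by omega)
  have hd0n : (0 : ℤ) ≤ d0 := Int.natCast_nonneg _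
  have hun : (0 : ℤ) ≤ u := Int.natCast_nonneg _
  have hvn : (0 : ℤ) ≤ v := Int.natCast_nonneg _
  obtain ⟨x', hx'⟩ := hmod
  -- u - v = m x with x = -x'
  set x : ℤ := -x' with hxdef
  have hux : (u : ℤ) - v = (m : ℤ) * x := by rw [hxdef]; linarith
  -- Step 1: x ≥ 1
  have hx1 : 1 ≤ x := by
    by_contra h
    have hx0 : x ≤ 0 := by omega
    have huv : (u : ℤ) ≤ v := by
      have : (m : ℤ) * x ≤ 0 := mul_nonpos_of_nonneg_of_nonpos hm'.le hx0
      linarith
    have h1 : ((q : ℤ) - p) * v ≤ nN p q m c i := by nlinarith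
    have hv0 : (v : ℤ) = 0 := by
      by_contra hv
      have : (1 : ℤ) ≤ v := by omega
      have : ((q : ℤ) - p) * 1 ≤ ((q : ℤ) - p) * v := mul_le_mul_of_nonneg_left this hQ.le
      linarith
    have hu0 : (u : ℤ) = 0 := by omega
    rw [hv0, hu0] at hn
    simp at hn
    omega
  -- d0 = n_i + p m x - (q-p) v
  have hd0eq : (d0 : ℤ) = nN p q m c i + (p : ℤ) * m * x - ((q : ℤ) - p) * v := by
    have : (u : ℤ) = v + (m : ℤ) * x := by linarith
    rw [← hn, this]; ring
  -- Step 2: x ≥ P_i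
  have hxP : hjP c i ≤ x := by
    by_contra h
    push Not at h
    have hi1 : 1 < i := by
      by_contra hi'
      have : i = 1 := by omega
      subst this
      simp [hjP] at h
      omega
    have h33 := Groth.Agent.S15733.result p q m hp hpq hcop hm hnt c hc i hi1 hir x (by omega) h
    have hmod0 : 0 ≤ Int.emod ((p : ℤ) * m * x) ((q : ℤ) - p) := Int.emod_nonneg _ (ne_of_gt hQ)
    have : Int.emod ((p : ℤ) * m * x + nN p q m c i) ((q : ℤ) - p) = d0 := by
      have e : (p : ℤ) * m * x + nN p q m c i = (d0 : ℤ) + ((q : ℤ) - p) * v := by rw [hd0eq]; ring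
      rw [e]
      show ((d0 : ℤ) + ((q : ℤ) - p) * v) % ((q : ℤ) - p) = d0
      rw [Int.add_mul_emod_self_left]
      exact Int.emod_eq_of_lt hd0n (by linarith)
    rw [this] at h33
    linarith
  -- Step 3
  have hl := qp_mul_lL p q m c i
  have hel := eE_sub_lL p q m c i
  have hvl : lL p q m c i ≤ v := by
    by_contra h
    push Not at h
    have h1 : (v : ℤ) + 1 ≤ lL p q m c i := by omega
    have h2 : ((q : ℤ) - p) * ((v : ℤ) + 1) ≤ ((q : ℤ) - p) * lL p q m c i :=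
      mul_le_mul_of_nonneg_left h1 hQ.le
    have h3 : (p : ℤ) * m * hjP c i ≤ (p : ℤ) * m * x :=
      mul_le_mul_of_nonneg_left hxP (by positivity)
    nlinarith
  have hue : eE p q m c i ≤ u := by
    have h3 : (m : ℤ) * hjP c i ≤ (m : ℤ) * x := mul_le_mul_of_nonneg_left hxP hm'.le
    linarith
  exact absurd hvl (by
    intro hh
    exact absurd (himp hue) (not_lt.mpr hh))

end

end Groth.Agent.H78
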