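import Groth.Agent.H78.HJCore

set_option autoImplicit false

namespace Groth.Agent.H78

open W4c2invhilbsl2

section
variable (p q m : ℕ) (hp : 0 < p) (hpq : p < q) (hcop : Nat.Coprime p q) (hm : 0 < m)
  (hnt : ¬ (q - p ∣ m)) (c : List ℤ) (hc : IsHJDigits p q m c)

include hp hpq hcop hm hnt hc

/-- for `0 < x < Pᵢ` (`1 < i ≤ r`): `p m x mod (q-p) = g (b - ρ)` with `ρ = t x mod b ≥ tᵢ₋₁`,
hence `(p m x) mod (q - p) ≤ (q - p) - nᵢ₋₁` and is positive. -/
lemma pmx_emod_bounds (i : ℕ) (hi : 1 < i) (hir : i ≤ c.length) (x : ℤ) (hx0 : 0 < x)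
    (hx : x < hjP c i) :
    0 < Int.emod ((p : ℤ) * m * x) ((q : ℤ) - p) ∧
      Int.emod ((p : ℤ) * m * x) ((q : ℤ) - p) ≤ ((q : ℤ) - p) - nN p q m c (i - 1) := by
  have hg := gcdK_pos p q m hpq
  have hgZ : (0 : ℤ) < (gcdK p q m : ℤ) := by exact_mod_cast hg
  have hbpos : (0 : ℤ) < (bB p q m : ℤ) := by
    have := tT_lt_bB p q m hpq hcop hnt
    have h0 : 0 < bB p q m := by omega
    exact_mod_cast h0
  have hlow := hj_lower p q m hp hpq hcop hm hnt c hc i hi hir x hx0 hx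
  have hTi0 : 1 ≤ hjR c (bB p q m) (tT p q m) (i - 1) :=
    hjT_pos p q m hp hpq hcop hm hnt c hc (i - 1) (by omega)
  rw [nN_eq_hjR p q m hpq]
  set g : ℤ := (gcdK p q m : ℤ) with hgdef
  set b : ℤ := (bB p q m : ℤ) with hb
  set t : ℤ := (tT p q m : ℤ) with ht
  set Ti := hjR c b t (i - 1) with hTi
  set ρ := Int.emod (t * x) b with hρ
  set k := (t * x) / b with hk
  have hdiv : b * k + ρ = t * x := Int.mul_ediv_add_emod (t * x) b
  have hρb : ρ < b := Int.emod_lt_of_pos _ hbpos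
  have h1 := gcdK_mul_tT p q m hpq
  have h2 := gcdK_mul_bB p q m
  have h3 := mp_eq p q m
  have hlt : m * p % (q - p) < q - p := Nat.mod_lt _ (by omega)
  have hqp : ((q - p : ℕ) : ℤ) = (q : ℤ) - p := by omega
  have h2' : g * b = (q : ℤ) - p := by
    have : ((gcdK p q m * bB p q m : ℕ) : ℤ) = ((q - p : ℕ) : ℤ) := by rw [h2]
    rw [Nat.cast_mul, hqp] at this
    exact this
  have h1' : g * t = (q : ℤ) - p - ((m * p % (q - p) : ℕ) : ℤ) := by
    have : ((gcdK p q m * tT p q m : ℕ) : ℤ) = ((q - p - m * p % (q - p) : ℕ) : ℤ) := by rw [h1]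
    rw [Nat.cast_mul, Nat.cast_sub hlt.le, hqp] at this
    exact this
  have h3' : (m : ℤ) * p = ((q : ℤ) - p) * alpha p q m + ((m * p % (q - p) : ℕ) : ℤ) := by
    have hh : ((m * p : ℕ) : ℤ) = (((q - p) * alpha p q m + m * p % (q - p) : ℕ) : ℤ) := by rw [← h3]
    rw [Nat.cast_add, Nat.cast_mul, Nat.cast_mul, hqp] at hh
    exact hh
  have hpmx : (p : ℤ) * m * x = g * (b - ρ) + ((q : ℤ) - p) * ((alpha p q m : ℤ) * x + x - k - 1) := by
    have e1 : (p : ℤ) * m * x = ((m : ℤ) * p) * x := by ring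
    rw [e1, h3']
    have e2 : ((m * p % (q - p) : ℕ) : ℤ) = (q : ℤ) - p - g * t := by linarith
    rw [e2, ← h2']
    have : g * t * x = g * (b * k + ρ) := by rw [hdiv]; ring
    linear_combination (-1 : ℤ) * this
  have hmod1 : Int.emod ((p : ℤ) * m * x) ((q : ℤ) - p) = g * (b - ρ) := by
    rw [hpmx]
    show (g * (b - ρ) + ((q : ℤ) - p) * ((alpha p q m : ℤ) * x + x - k - 1)) % ((q : ℤ) - p) = _
    rw [Int.add_mul_emod_self_left]
    apply Int.emod_eq_of_lt
    · exact mul_nonneg hgZ.le (by linarith)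
    · rw [← h2']
      exact mul_lt_mul_of_pos_left (by linarith) hgZ
  rw [hmod1]
  constructor
  · exact mul_pos hgZ (by linarith)
  · rw [← h2']
    have : g * Ti ≤ g * ρ := mul_le_mul_of_nonneg_left hlow hgZ.le
    linarith

/-- **Key lemma**: a monomial `X₁^u X₂^v` of weight `(n, 0)` with `0 < n < nᵢ₋₁`
is divisible by `X₁^eᵢ X₂^lᵢ`. -/
lemma key_lemma (i : ℕ) (hi : 1 ≤ i) (hir : i ≤ c.length) (u v : ℕ)
    (hmod : (m : ℤ) ∣ (v : ℤ) - u)
    (hpos : 0 < (q : ℤ) * v - (p : ℤ) * u)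
    (hlt : (q : ℤ) * v - (p : ℤ) * u < nN p q m c (i - 1)) :
    eE p q m c i ≤ u ∧ lL p q m c i ≤ v := by
  have hQ : (0 : ℤ) < (q : ℤ) - p := by omega
  have hp' : (0 : ℤ) < p := by exact_mod_cast hp
  have hm' : (0 : ℤ) < m := by exact_mod_cast hm
  have hun : (0 : ℤ) ≤ u := Int.natCast_nonneg _
  have hvn : (0 : ℤ) ≤ v := Int.natCast_nonneg _
  -- n_{i-1} ≤ q - p
  have hNm : nN p q m c (i - 1) ≤ (q : ℤ) - p := by
    rcases Nat.eq_or_lt_of_le hi with h | h
    · have : i - 1 = 0 := by omega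
      rw [this]
      have : nN p q m c 0 = (q : ℤ) - p := by
        unfold nN eE lL
        simp [hjP, hjQ]
        ring
      rw [this]
    · exact (nN_lt_qp p q m hp hpq hcop hm hnt c hc (i - 1) (by omega) (by omega)).le
  have hni_lt := nN_lt_qp p q m hp hpq hcop hm hnt c hc i hi (by omega)
  set n : ℤ := (q : ℤ) * v - (p : ℤ) * u with hn
  obtain ⟨x', hx'⟩ := hmod
  set x : ℤ := -x' with hxdef
  have hux : (u : ℤ) - v = (m : ℤ) * x := by rw [hxdef]; linarith
  have hu_eq : (u : ℤ) = v + (m : ℤ) * x := by linarith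
  -- (q - p) v = n + p m x
  have hv_eq : ((q : ℤ) - p) * v = n + (p : ℤ) * m * x := by
    rw [hn, hu_eq]; ring
  -- Step 1: x ≥ 1
  have hx1 : 1 ≤ x := by
    by_contra h
    have hx0 : x ≤ 0 := by omega
    have h1 : (p : ℤ) * m * x ≤ 0 := by
      have : (0 : ℤ) ≤ (p : ℤ) * m := by positivity
      exact mul_nonpos_of_nonneg_of_nonpos this hx0
    have h2 : ((q : ℤ) - p) * v < ((q : ℤ) - p) * 1 := by linarith
    have hv0 : (v : ℤ) < 1 := lt_of_mul_lt_mul_left h2 hQ.le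
    have hv0' : (v : ℤ) = 0 := by omega
    have hmx : (m : ℤ) * x ≤ 0 := mul_nonpos_of_nonneg_of_nonpos hm'.le hx0
    have hu0 : (u : ℤ) = 0 := by omega
    rw [hn, hv0', hu0] at hpos
    simp at hpos
  -- Step 2: x ≥ P_i
  have hxP : hjP c i ≤ x := by
    by_contra h
    push Not at h
    have hi1 : 1 < i := by
      by_contra hi'
      have : i = 1 := by omega
      subst this
      simp [hjP] at h
      omega
    obtain ⟨hb1, hb2⟩ := pmx_emod_bounds p q m hp hpq hcop hm hnt c hc i hi1 hir x (by omega) h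
    -- (p m x) mod (q-p) = (q - p) - n
    have hnQ : n < (q : ℤ) - p := by linarith
    have : Int.emod ((p : ℤ) * m * x) ((q : ℤ) - p) = ((q : ℤ) - p) - n := by
      have e : (p : ℤ) * m * x = (((q : ℤ) - p) - n) + ((q : ℤ) - p) * ((v : ℤ) - 1) := by
        linarith [hv_eq]
      rw [e]
      show ((((q : ℤ) - p) - n) + ((q : ℤ) - p) * ((v : ℤ) - 1)) % ((q : ℤ) - p) = _
      rw [Int.add_mul_emod_self_left]
      exact Int.emod_eq_of_lt (by linarith) (by linarith)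
    rw [this] at hb2
    linarith
  -- Step 3
  have hl := qp_mul_lL p q m c i
  have hel := eE_sub_lL p q m c i
  have hvl : lL p q m c i ≤ v := by
    by_contra h
    push Not at h
    have h1 : (v : ℤ) + 1 ≤ lL p q m c i := by omega
    have h2 : ((q : ℤ) - p) * ((v : ℤ) + 1) ≤ ((q : ℤ) - p) * lL p q m c i :=
      mul_le_mul_of_nonneg_left h1 hQ.le
    have h3 : (p : ℤ) * m * hjP c i ≤ (p : ℤ) * m * x :=
      mul_le_mul_of_nonneg_left hxP (by positivity)
    nlinarith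
  have hue : eE p q m c i ≤ u := by
    have h3 : (m : ℤ) * hjP c i ≤ (m : ℤ) * x := mul_le_mul_of_nonneg_left hxP hm'.le
    linarith
  exact ⟨hue, hvl⟩

end

end Groth.Agent.H78
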