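import Mathlib
import Groth.Agent.H3.PairIdemIntegral

/-!
# Splitting off the finite part of a quasi-finite separated scheme over a henselian pair (S0784)
-/

set_option autoImplicit false

namespace Groth.Agent.H78.HensSplitFin

open CategoryTheory CategoryTheory.Limits AlgebraicGeometry PrimeSpectrum

universe u

/-- A closed subset of `Spec A` disjoint from `V(I)` is empty when `I` lies in the Jacobson
radical. -/
theorem eq_empty_of_isClosed_of_disjoint_zeroLocus {A : Type u} [CommRing A] (I : Ideal A)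
    (hI : I ≤ Ideal.jacobson ⊥) (Z : Set (PrimeSpectrum A)) (hZ : IsClosed Z)
    (hd : ∀ x ∈ Z, ¬ I ≤ x.asIdeal) : Z = ∅ := by
  obtain ⟨J, hJ⟩ := (PrimeSpectrum.isClosed_iff_zeroLocus_ideal _).mp hZ
  by_contra hne
  have hJne : J ≠ ⊤ := by
    intro h
    apply hne
    rw [hJ, h]
    simp
  obtain ⟨m, hm, hJm⟩ := Ideal.exists_le_maximal J hJne
  let y : PrimeSpectrum A := ⟨m, hm.isPrime⟩
  have hy : y ∈ Z := by
    rw [hJ]
    exact hJm
  apply hd y hy
  intro a ha
  have h1 : a ∈ Ideal.jacobson (⊥ : Ideal A) := hI ha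
  rw [Ideal.jacobson, Ideal.mem_sInf] at h1
  exact h1 ⟨bot_le, hm⟩

/-- Over a henselian pair, a clopen subset of `V(IB) ⊆ Spec B` (`B` integral) is cut out by an
idempotent of `B`. -/
theorem exists_idempotent_basicOpen_inter {A B : Type u} [CommRing A] [CommRing B] [Algebra A B]
    [Algebra.IsIntegral A B] (I : Ideal A) (h : HenselianRing A I)
    (O F : Set (PrimeSpectrum B)) (hO : IsOpen O) (hF : IsClosed F)
    (hOF : O ∩ zeroLocus (I.map (algebraMap A B) : Set B) =
      F ∩ zeroLocus (I.map (algebraMap A B) : Set B)) :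
    ∃ e : B, IsIdempotentElem e ∧
      (basicOpen e : Set (PrimeSpectrum B)) ∩ zeroLocus (I.map (algebraMap A B) : Set B) =
        O ∩ zeroLocus (I.map (algebraMap A B) : Set B) := by
  set J := I.map (algebraMap A B) with hJ
  let c : PrimeSpectrum (B ⧸ J) → PrimeSpectrum B := PrimeSpectrum.comap (Ideal.Quotient.mk J)
  have hc : Continuous c := PrimeSpectrum.continuous_comap (Ideal.Quotient.mk J)
  have hrange : Set.range c = zeroLocus (J : Set B) := by
    have := range_comap_of_surjective (B ⧸ J) (Ideal.Quotient.mk J) Ideal.Quotient.mk_surjective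
    rw [Ideal.mk_ker] at this
    exact this
  have hpre : c ⁻¹' O = c ⁻¹' F := by
    ext x
    have hx : c x ∈ zeroLocus (J : Set B) := hrange ▸ Set.mem_range_self x
    constructor
    · intro hxO
      have : c x ∈ O ∩ zeroLocus (J : Set B) := ⟨hxO, hx⟩
      rw [hOF] at this
      exact this.1
    · intro hxF
      have : c x ∈ F ∩ zeroLocus (J : Set B) := ⟨hxF, hx⟩
      rw [← hOF] at this
      exact this.1
  have hclopen : IsClopen (c ⁻¹' O) := ⟨hpre ▸ hF.preimage hc, hO.preimage hc⟩
  obtain ⟨ebar, hebar, hS⟩ := PrimeSpectrum.isClopen_iff.mp hclopen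
  obtain ⟨b, rfl⟩ := Ideal.Quotient.mk_surjective ebar
  have hb : b * b - b ∈ J := by
    rw [← Ideal.Quotient.eq, map_mul]
    exact hebar.eq
  obtain ⟨e, he, heb⟩ := Groth.Agent.H3.exists_idempotent_lift_of_isIntegral h B b hb
  have hmk : Ideal.Quotient.mk J e = Ideal.Quotient.mk J b := Ideal.Quotient.eq.mpr heb
  refine ⟨e, he, ?_⟩
  ext p
  constructor
  · rintro ⟨hp1, hp2⟩
    refine ⟨?_, hp2⟩
    rw [← hrange] at hp2
    obtain ⟨x, rfl⟩ := hp2
    have hx : x ∈ c ⁻¹' O := by
      rw [hS]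
      change Ideal.Quotient.mk J b ∉ x.asIdeal
      rw [← hmk]
      exact hp1
    exact hx
  · rintro ⟨hp1, hp2⟩
    refine ⟨?_, hp2⟩
    rw [← hrange] at hp2
    obtain ⟨x, rfl⟩ := hp2
    have hx : x ∈ c ⁻¹' O := hp1
    rw [hS] at hx
    change e ∉ (c x).asIdeal
    have hx' : Ideal.Quotient.mk J b ∉ x.asIdeal := hx
    rw [← hmk] at hx'
    exact hx'


/-- The affine-normalization form of the splitting statement. -/
theorem exists_clopen_finite {A B : Type u} [CommRing A] [CommRing B] [Algebra A B]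
    [Algebra.IsIntegral A B] (I : Ideal A) [h : HenselianRing A I] {U : Scheme.{u}}
    (j : U ⟶ Spec (CommRingCat.of B)) [IsOpenImmersion j]
    (g : U ⟶ Spec (CommRingCat.of A))
    (hg : j ≫ Spec.map (CommRingCat.ofHom (algebraMap A B)) = g) [LocallyOfFiniteType g]
    (hfin : IsFinite (pullback.snd g (Spec.map (CommRingCat.ofHom (Ideal.Quotient.mk I))))) :
    ∃ W : U.Opens, IsClosed (W : Set U) ∧ IsFinite (W.ι ≫ g) ∧
      ∀ u : U, u ∉ W → ¬ I ≤ (g.base u : PrimeSpectrum A).asIdeal := by
  set i := Spec.map (CommRingCat.ofHom (Ideal.Quotient.mk I)) with hi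
  set π := Spec.map (CommRingCat.ofHom (algebraMap A B)) with hπ
  set Z : Set ↥(Spec (CommRingCat.of B)) :=
    (zeroLocus (I.map (algebraMap A B) : Set B) : Set (PrimeSpectrum B)) with hZ
  set VI : Set ↥(Spec (CommRingCat.of A)) := (zeroLocus (I : Set A) : Set (PrimeSpectrum A))
    with hVI
  haveI : IsClosedImmersion i := IsClosedImmersion.spec_of_surjective _ Ideal.Quotient.mk_surjective
  -- membership in `Z`
  have hmemVI : ∀ x : ↥(Spec (CommRingCat.of A)), x ∈ VI ↔ I ≤ (x : PrimeSpectrum A).asIdeal :=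
    fun x => Iff.rfl
  have hmemZ : ∀ y : ↥(Spec (CommRingCat.of B)), y ∈ Z ↔ π.base y ∈ VI := by
    intro y
    change I.map (algebraMap A B) ≤ (y : PrimeSpectrum B).asIdeal ↔
      I ≤ (y : PrimeSpectrum B).asIdeal.comap (algebraMap A B)
    exact Ideal.map_le_iff_le_comap
  have hrangei : Set.range i.base = VI := by
    have := range_comap_of_surjective (A ⧸ I) (Ideal.Quotient.mk I) Ideal.Quotient.mk_surjective
    rw [Ideal.mk_ker] at this
    exact this
  -- `T₀`
  have e1 : (pullback.fst g i ≫ j) ≫ π = pullback.snd g i ≫ i := by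
    rw [Category.assoc, hg, pullback.condition]
  haveI : UniversallyClosed ((pullback.fst g i ≫ j) ≫ π) := by rw [e1]; infer_instance
  haveI : UniversallyClosed (pullback.fst g i ≫ j) := UniversallyClosed.of_comp_of_isSeparated _ π
  have hT₀closed : IsClosed (Set.range (pullback.fst g i ≫ j).base) :=
    (pullback.fst g i ≫ j).isClosedMap.isClosed_range
  have hpre : g.base ⁻¹' VI = j.base ⁻¹' Z := by
    ext u
    change g.base u ∈ VI ↔ j.base u ∈ Z
    rw [hmemZ, ← hg]
    rfl
  have hT₀ : Set.range (pullback.fst g i ≫ j).base = Set.range j.base ∩ Z := by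
    rw [Scheme.Hom.comp_base, TopCat.coe_comp, Set.range_comp, Scheme.Pullback.range_fst, hrangei,
      hpre, Set.image_preimage_eq_inter_range, Set.inter_comm]
  -- the idempotent
  have hside : Set.range j.base ∩ Z = Set.range (pullback.fst g i ≫ j).base ∩ Z := by
    rw [hT₀, Set.inter_assoc, Set.inter_self]
  obtain ⟨e, he, hOe⟩ := exists_idempotent_basicOpen_inter I h (Set.range j.base)
    (Set.range (pullback.fst g i ≫ j).base) j.isOpenEmbedding.isOpen_range hT₀closed hside
  set De : Set ↥(Spec (CommRingCat.of B)) := (basicOpen e : Set (PrimeSpectrum B)) with hDe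
  have hOe' : De ∩ Z = Set.range j.base ∩ Z := hOe
  have heclosed : IsClosed (basicOpen e : Set (PrimeSpectrum B)) :=
    (PrimeSpectrum.isClopen_iff.mpr ⟨e, he, rfl⟩).1
  -- `D(e) ⊆ range j`
  have hsub : (basicOpen e : Set (PrimeSpectrum B)) ⊆ Set.range j.base := by
    have hZ'closed : IsClosed ((basicOpen e : Set (PrimeSpectrum B)) ∩ (Set.range j.base)ᶜ) :=
      heclosed.inter j.isOpenEmbedding.isOpen_range.isClosed_compl
    have himg := PrimeSpectrum.isClosedMap_comap_of_isIntegral (algebraMap A B)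
      (algebraMap_isIntegral_iff.mpr inferInstance) _ hZ'closed
    have hempty := eq_empty_of_isClosed_of_disjoint_zeroLocus I h.jac _ himg (by
      rintro x ⟨y, ⟨hy1, hy2⟩, rfl⟩ hIx
      have hyZ : y ∈ Z := (hmemZ y).mpr hIx
      have : y ∈ De ∩ Z := ⟨hy1, hyZ⟩
      rw [hOe'] at this
      exact hy2 this.1)
    intro y hy
    by_contra hny
    have : PrimeSpectrum.comap (algebraMap A B) y ∈ (∅ : Set (PrimeSpectrum A)) := by
      rw [← hempty]
      exact ⟨y, ⟨hy, hny⟩, rfl⟩
    exact this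
  -- `W`
  let V : (Spec (CommRingCat.of B)).Opens := basicOpen e
  refine ⟨j ⁻¹ᵁ V, ?_, ?_, ?_⟩
  · exact heclosed.preimage j.continuous
  · have hrange : Set.range ((j ⁻¹ᵁ V).ι ≫ j).base = De := by
      rw [Scheme.Hom.comp_base, TopCat.coe_comp, Set.range_comp, Scheme.Opens.range_ι]
      change j.base '' (j.base ⁻¹' De) = _
      rw [Set.image_preimage_eq_inter_range, Set.inter_eq_left]
      exact hsub
    haveI : IsClosedImmersion ((j ⁻¹ᵁ V).ι ≫ j) :=
      IsClosedImmersion.of_isPreimmersion _ (hrange ▸ heclosed)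
    haveI : IsIntegralHom π :=
      IsIntegralHom.SpecMap_iff.mpr (algebraMap_isIntegral_iff.mpr inferInstance)
    rw [IsFinite.iff_isIntegralHom_and_locallyOfFiniteType]
    refine ⟨?_, inferInstance⟩
    rw [← hg, ← Category.assoc]
    infer_instance
  · intro u hu hIu
    apply hu
    change j.base u ∈ (basicOpen e : Set (PrimeSpectrum B))
    have h1 : j.base u ∈ Set.range j.base ∩ Z := by
      refine ⟨Set.mem_range_self u, (hmemZ _).mpr ?_⟩
      rw [← hg] at hIu
      exact hIu
    rw [← hOe'] at h1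
    exact h1.1

/-- Étale morphisms are locally quasi-finite. -/
theorem locallyQuasiFinite_of_etale {X Y : Scheme.{u}} (f : X ⟶ Y) [Etale f] :
    LocallyQuasiFinite f := by
  refine ⟨fun {U} hU {V} hV e => ?_⟩
  have h1 : (f.appLE U V e).hom.Etale := Etale.etale_appLE f hU hV e
  algebraize [(f.appLE U V e).hom]
  change Algebra.QuasiFinite Γ(Y, U) Γ(X, V)
  haveI : Algebra.Etale Γ(Y, U) Γ(X, V) := RingHom.etale_algebraMap.mp (by
    rw [RingHom.algebraMap_toAlgebra]; exact h1)
  infer_instance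

/-- S0784: splitting off the finite part over a henselian pair. -/
theorem main (A : Type u) [CommRing A] (I : Ideal A) [HenselianRing A I]
    {U : Scheme.{u}} (g : U ⟶ Spec (CommRingCat.of A)) [QuasiCompact g] [IsSeparated g] [Etale g]
    (hfin : IsFinite (pullback.snd g (Spec.map (CommRingCat.ofHom (Ideal.Quotient.mk I))))) :
    ∃ W : U.Opens, IsClosed (W : Set U) ∧ IsFinite (W.ι ≫ g) ∧
      ∀ u : U, u ∉ W → ¬ I ≤ (g.base u : PrimeSpectrum A).asIdeal := by
  haveI : LocallyQuasiFinite g := locallyQuasiFinite_of_etale g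
  let N := g.normalization
  let π : N ⟶ Spec (CommRingCat.of A) := g.fromNormalization
  haveI : IsAffine N := isAffine_of_isAffineHom π
  let φ : CommRingCat.of A ⟶ Γ(N, ⊤) := (Scheme.ΓSpecIso (CommRingCat.of A)).inv ≫ π.appTop
  letI : Algebra A Γ(N, ⊤) := φ.hom.toAlgebra
  have hcomp : N.isoSpec.hom ≫ Spec.map φ = π := by
    rw [Spec.map_comp, Scheme.isoSpec_hom, ← Scheme.toSpecΓ_naturality_assoc,
      toSpecΓ_SpecMap_ΓSpecIso_inv, Category.comp_id]
  have hint : IsIntegralHom (Spec.map φ) := by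
    have h1 : Spec.map φ = N.isoSpec.inv ≫ π := by rw [← hcomp, Iso.inv_hom_id_assoc]
    rw [h1]
    infer_instance
  haveI : Algebra.IsIntegral A Γ(N, ⊤) := by
    rw [IsIntegralHom.SpecMap_iff] at hint
    exact algebraMap_isIntegral_iff.mp hint
  have hφ : CommRingCat.ofHom (algebraMap A Γ(N, ⊤)) = φ := rfl
  refine exists_clopen_finite (B := Γ(N, ⊤)) I (g.toNormalization ≫ N.isoSpec.hom) g ?_ hfin
  rw [hφ, Category.assoc, hcomp]
  exact g.toNormalization_fromNormalization

end Groth.Agent.H78.HensSplitFin
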