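import Mathlib

set_option autoImplicit false

namespace Groth.Agent.H78

open DirectSum

variable {R : Type*} {A : Type*} [CommRing R] [CommRing A] [Algebra R A]
  (𝒜 : ℕ → Submodule R A) [GradedRing 𝒜]

/-- a homogeneous ideal not contained in `Q` has a homogeneous element outside `Q` -/
lemma exists_homog_notMem {J : Ideal A} (hJ : J.IsHomogeneous 𝒜) (Q : Ideal A) (h : ¬ J ≤ Q) :
    ∃ (j : A) (n : ℕ), j ∈ 𝒜 n ∧ j ∈ J ∧ j ∉ Q := by
  classical
  obtain ⟨r, hrJ, hrQ⟩ := Set.not_subset.mp h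
  by_contra hcon
  push Not at hcon
  apply hrQ
  rw [← DirectSum.sum_support_decompose 𝒜 r]
  apply Ideal.sum_mem
  intro i _
  exact hcon _ i (SetLike.coe_mem _) (hJ i hrJ)

/-- if the irrelevant ideal is not contained in `Q`, there is a homogeneous element of positive
degree outside `Q` -/
lemma exists_homog_pos_notMem (Q : Ideal A)
    (h : ¬ (HomogeneousIdeal.irrelevant 𝒜).toIdeal ≤ Q) :
    ∃ (j : A) (n : ℕ), 0 < n ∧ j ∈ 𝒜 n ∧ j ∉ Q := by
  classical
  obtain ⟨r, hrJ, hrQ⟩ := Set.not_subset.mp h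
  by_contra hcon
  push Not at hcon
  apply hrQ
  rw [← DirectSum.sum_support_decompose 𝒜 r]
  apply Ideal.sum_mem
  intro i _
  rcases Nat.eq_zero_or_pos i with h0 | hpos
  · subst h0
    have : (decompose 𝒜 r 0 : A) = 0 := (HomogeneousIdeal.mem_irrelevant_iff 𝒜 r).mp hrJ
    rw [this]
    exact Q.zero_mem
  · exact hcon _ i hpos (SetLike.coe_mem _)

theorem homog_prime_avoidance (J : Ideal A) (hJ : J.IsHomogeneous 𝒜) (s : Finset (Ideal A))
    (hs : ∀ P ∈ s, P.IsPrime ∧ P.IsHomogeneous 𝒜 ∧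
      ¬ (HomogeneousIdeal.irrelevant 𝒜).toIdeal ≤ P ∧ ¬ J ≤ P) :
    ∃ (z : A) (n : ℕ), 0 < n ∧ z ∈ 𝒜 n ∧ z ∈ J ∧ ∀ P ∈ s, z ∉ P := by
  classical
  induction hn : s.card generalizing s with
  | zero =>
    rw [Finset.card_eq_zero] at hn
    subst hn
    exact ⟨0, 1, Nat.one_pos, Submodule.zero_mem _, J.zero_mem, by simp⟩
  | succ n ih =>
    have hne : s.Nonempty := by
      rw [← Finset.card_pos]; omega
    obtain ⟨Q, hQ⟩ := s.exists_minimal hne
    have hQs : Q ∈ s := hQ.1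
    obtain ⟨hQprime, hQhom, hQirr, hQJ⟩ := hs Q hQs
    set t := s.erase Q with ht
    have htcard : t.card = n := by
      rw [ht, Finset.card_erase_of_mem hQs]; omega
    have hts : ∀ P ∈ t, P ∈ s := fun P hP => Finset.mem_of_mem_erase hP
    obtain ⟨z, a, ha, hza, hzJ, hz⟩ := ih t (fun P hP => hs P (hts P hP)) htcard
    by_cases hzQ : z ∈ Q
    · obtain ⟨j₁, n₁, hj₁n, hj₁J, hj₁Q⟩ := exists_homog_notMem 𝒜 hJ Q hQJ
      obtain ⟨j₂, n₂, hn₂, hj₂n, hj₂Q⟩ := exists_homog_pos_notMem 𝒜 Q hQirr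
      -- homogeneous y_P ∈ P \ Q
      have hPQ : ∀ P ∈ t, ∃ y : A, ∃ d : ℕ, y ∈ 𝒜 d ∧ y ∈ P ∧ y ∉ Q := by
        intro P hP
        have hPs := hts P hP
        have hne' : P ≠ Q := Finset.ne_of_mem_erase hP
        have : ¬ P ≤ Q := by
          intro hle
          have := hQ.2 hPs hle
          exact hne' (le_antisymm hle this)
        exact exists_homog_notMem 𝒜 (hs P hPs).2.1 Q this
      choose! yf df hyf using hPQ
      set y := ∏ P ∈ t, yf P with hy
      set dy := ∑ P ∈ t, df P with hdy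
      have hyd : y ∈ 𝒜 dy := by
        rw [hy, hdy]
        exact SetLike.prod_mem_graded 𝒜 (fun P => df P) (fun P => yf P)
          (fun P hP => (hyf P hP).1)
      have hyQ : y ∉ Q := by
        rw [hy, Ideal.IsPrime.prod_mem_iff (hp := hQprime)]
        rintro ⟨P, hP, hmem⟩
        exact (hyf P hP).2.2 hmem
      have hyP : ∀ P ∈ t, y ∈ P := by
        intro P hP
        rw [hy]
        exact Ideal.mem_of_dvd _ (Finset.dvd_prod_of_mem yf hP) (hyf P hP).2.1
      -- w = y * j₁ * j₂ : homogeneous of degree b = dy + n₁ + n₂ > 0, in J, ∉ Q, ∈ P for P ∈ t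
      set w := y * j₁ * j₂ with hw
      set b := dy + n₁ + n₂ with hb
      have hwb : w ∈ 𝒜 b := SetLike.mul_mem_graded (SetLike.mul_mem_graded hyd hj₁n) hj₂n
      have hbpos : 0 < b := by omega
      have hwJ : w ∈ J := J.mul_mem_right _ (J.mul_mem_left _ hj₁J)
      have hwQ : w ∉ Q := by
        intro hmem
        rcases hQprime.mem_or_mem hmem with h1 | h1
        · rcases hQprime.mem_or_mem h1 with h2 | h2
          · exact hyQ h2
          · exact hj₁Q h2
        · exact hj₂Q h1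
      have hwP : ∀ P ∈ t, w ∈ P := fun P hP =>
        P.mul_mem_right _ (P.mul_mem_right _ (hyP P hP))
      refine ⟨z ^ b + w ^ a, a * b, Nat.mul_pos ha hbpos, ?_, ?_, ?_⟩
      · apply Submodule.add_mem
        · have := SetLike.pow_mem_graded b hza
          rwa [smul_eq_mul, mul_comm] at this
        · have := SetLike.pow_mem_graded a hwb
          rwa [smul_eq_mul] at this
      · exact J.add_mem (J.pow_mem_of_mem hzJ b hbpos) (J.pow_mem_of_mem hwJ a ha)
      · intro P hP hmem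
        by_cases hPQ' : P = Q
        · subst hPQ'
          have h1 : z ^ b ∈ P := P.pow_mem_of_mem hzQ b hbpos
          have h2 : w ^ a ∈ P := by
            have := P.sub_mem hmem h1
            simpa using this
          exact hwQ (hQprime.mem_of_pow_mem _ h2)
        · have hPt : P ∈ t := Finset.mem_erase.mpr ⟨hPQ', hP⟩
          have hPprime := (hs P hP).1
          have h2 : w ^ a ∈ P := P.pow_mem_of_mem (hwP P hPt) a ha
          have h1 : z ^ b ∈ P := by
            have := P.sub_mem hmem h2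
            simpa using this
          exact hz P hPt (hPprime.mem_of_pow_mem _ h1)
    · refine ⟨z, a, ha, hza, hzJ, ?_⟩
      intro P hP
      by_cases hPQ' : P = Q
      · subst hPQ'; exact hzQ
      · exact hz P (Finset.mem_erase.mpr ⟨hPQ', hP⟩)

/-- version for arbitrary primes -/
theorem homog_prime_avoidance' (J : Ideal A) (hJ : J.IsHomogeneous 𝒜) (P : Finset (Ideal A))
    (hP : ∀ p ∈ P, p.IsPrime ∧ ¬ (HomogeneousIdeal.irrelevant 𝒜).toIdeal ≤ p ∧ ¬ J ≤ p) :
    ∃ (z : A) (n : ℕ), 0 < n ∧ z ∈ 𝒜 n ∧ z ∈ J ∧ ∀ p ∈ P, z ∉ p := by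
  classical
  set s := P.image (fun p => (p.homogeneousCore 𝒜).toIdeal) with hs
  have hs' : ∀ Q ∈ s, Q.IsPrime ∧ Q.IsHomogeneous 𝒜 ∧
      ¬ (HomogeneousIdeal.irrelevant 𝒜).toIdeal ≤ Q ∧ ¬ J ≤ Q := by
    intro Q hQ
    obtain ⟨p, hp, rfl⟩ := Finset.mem_image.mp hQ
    obtain ⟨h1, h2, h3⟩ := hP p hp
    refine ⟨h1.homogeneousCore, (p.homogeneousCore 𝒜).isHomogeneous, ?_, ?_⟩
    · exact fun hle => h2 (hle.trans (Ideal.toIdeal_homogeneousCore_le 𝒜 p))
    · exact fun hle => h3 (hle.trans (Ideal.toIdeal_homogeneousCore_le 𝒜 p))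
  obtain ⟨z, n, hn, hzn, hzJ, hz⟩ := homog_prime_avoidance 𝒜 J hJ s hs'
  refine ⟨z, n, hn, hzn, hzJ, ?_⟩
  intro p hp hmem
  apply hz _ (Finset.mem_image_of_mem _ hp)
  exact Ideal.mem_homogeneousCore_of_homogeneous_of_mem ⟨n, hzn⟩ hmem

end Groth.Agent.H78
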