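import Mathlib

set_option autoImplicit false

namespace Groth.Agent.H78

open PowerSeries

universe u

/-- An idempotent power series with zero constant coefficient is zero. -/
lemma ps_idem_zero {R : Type*} [CommRing R] (g : R⟦X⟧) (hg : g * g = g)
    (h0 : constantCoeff g = 0) : g = 0 := by
  ext n
  induction n using Nat.strong_induction_on with
  | _ n ih =>
    rw [map_zero]
    have h1 : coeff n g = coeff n (g * g) := by rw [hg]
    rw [coeff_mul] at h1
    rw [h1]
    apply Finset.sum_eq_zero
    rintro ⟨i, j⟩ hij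
    have hij : i + j = n := Finset.HasAntidiagonal.mem_antidiagonal.mp hij
    simp only
    by_cases hi : i < n
    · have := ih i hi
      rw [map_zero] at this
      rw [this, zero_mul]
    · have hj : j = 0 := by omega
      subst hj
      rw [coeff_zero_eq_constantCoeff_apply, h0, mul_zero]

/-- Idempotent power series are constant. -/
lemma ps_idem {R : Type*} [CommRing R] (f : R⟦X⟧) (hf : f * f = f) :
    IsIdempotentElem (constantCoeff f) ∧ f = C (constantCoeff f) := by
  set ε := constantCoeff f with hε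
  have hε2 : ε * ε = ε := by
    have := congrArg constantCoeff hf
    rwa [map_mul] at this
  refine ⟨hε2, ?_⟩
  have hC : (C ε : R⟦X⟧) * C ε = C ε := by rw [← map_mul, hε2]
  have h1 : f * (1 - C ε) = 0 := by
    apply ps_idem_zero
    · calc f * (1 - C ε) * (f * (1 - C ε)) = (f * f) * (1 - 2 * C ε + C ε * C ε) := by ring
        _ = f * (1 - C ε) := by rw [hf, hC]; ring
    · rw [map_mul, map_sub, map_one, constantCoeff_C, ← hε, mul_sub, mul_one, hε2, sub_self]
  have h2 : (1 - f) * C ε = 0 := by
    apply ps_idem_zero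
    · calc (1 - f) * C ε * ((1 - f) * C ε) = (1 - 2 * f + f * f) * (C ε * C ε) := by ring
        _ = (1 - f) * C ε := by rw [hf, hC]; ring
    · rw [map_mul, map_sub, map_one, constantCoeff_C, ← hε, sub_mul, one_mul, hε2, sub_self]
  calc f = f * (1 - C ε) + C ε - (1 - f) * C ε := by ring
    _ = C ε := by rw [h1, h2]; ring

/-- the key lemma: `f² = X^m f` forces `f = X^m ε` with `ε` idempotent -/
lemma ps_key (m : ℕ) : ∀ (R : Type u) [CommRing R] (f : R⟦X⟧), f * f = X ^ m * f →
    ∃ ε : R, IsIdempotentElem ε ∧ f = X ^ m * C ε := by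
  induction m with
  | zero =>
    intro R _ f hf
    rw [pow_zero, one_mul] at hf
    obtain ⟨h1, h2⟩ := ps_idem f hf
    exact ⟨_, h1, by rw [pow_zero, one_mul]; exact h2⟩
  | succ m ih =>
    intro R _ f hf
    set a := constantCoeff f with ha
    have ha2 : a * a = 0 := by
      have := congrArg constantCoeff hf
      rw [map_mul, map_mul, map_pow, constantCoeff_X, zero_pow (Nat.succ_ne_zero m), zero_mul] at this
      exact this
    set I : Ideal R := Ideal.span {a} with hI
    set φ : R⟦X⟧ →+* (R ⧸ I)⟦X⟧ := PowerSeries.map (Ideal.Quotient.mk I) with hφ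
    have hφ0 : constantCoeff (φ f) = 0 := by
      rw [hφ, ← coeff_zero_eq_constantCoeff_apply, coeff_map, coeff_zero_eq_constantCoeff_apply,
        ← ha]
      exact Ideal.Quotient.eq_zero_iff_mem.mpr (Ideal.subset_span rfl)
    obtain ⟨g, hg⟩ := X_dvd_iff.mpr hφ0
    have hg2 : g * g = X ^ m * g := by
      have h1 : φ f * φ f = X ^ (m + 1) * φ f := by
        rw [← map_mul, hf, map_mul, map_pow, hφ, map_X]
      rw [hg] at h1
      apply X_pow_mul_cancel (k := 2)
      calc X ^ 2 * (g * g) = X * g * (X * g) := by ring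
        _ = X ^ (m + 1) * (X * g) := h1
        _ = X ^ 2 * (X ^ m * g) := by ring
    obtain ⟨ε', hε', hgε⟩ := ih (R ⧸ I) g hg2
    -- lift the idempotent
    have hker : ∀ x ∈ RingHom.ker (Ideal.Quotient.mk I), IsNilpotent x := by
      intro x hx
      rw [Ideal.mk_ker, hI, Ideal.mem_span_singleton'] at hx
      obtain ⟨r, rfl⟩ := hx
      exact ⟨2, by rw [pow_two]; calc r * a * (r * a) = r * r * (a * a) := by ring
        _ = 0 := by rw [ha2, mul_zero]⟩
    obtain ⟨ε, hε, hεε'⟩ := exists_isIdempotentElem_eq_of_ker_isNilpotent (Ideal.Quotient.mk I)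
      hker ε' (RingHom.mem_range.mpr (Ideal.Quotient.mk_surjective ε')) hε'
    refine ⟨ε, hε, ?_⟩
    set y : R⟦X⟧ := X ^ (m + 1) * C ε with hy
    set x : R⟦X⟧ := f - y with hx
    have hφx : φ x = 0 := by
      rw [hx, map_sub, hg, hgε, hy, map_mul, map_pow, hφ, map_X, map_C, hεε']
      ring
    have hxI : ∀ n, ∃ r, coeff n x = r * a := by
      intro n
      have := congrArg (coeff n) hφx
      rw [hφ, coeff_map, map_zero] at this
      have := (Ideal.Quotient.eq_zero_iff_mem (I := I)).mp this
      rw [hI, Ideal.mem_span_singleton'] at this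
      obtain ⟨r, hr⟩ := this
      exact ⟨r, hr.symm⟩
    have hxx : x * x = 0 := by
      ext n
      rw [coeff_mul, map_zero]
      apply Finset.sum_eq_zero
      rintro ⟨i, j⟩ _
      obtain ⟨r, hr⟩ := hxI i
      obtain ⟨r', hr'⟩ := hxI j
      simp only
      rw [hr, hr']
      calc r * a * (r' * a) = r * r' * (a * a) := by ring
        _ = 0 := by rw [ha2, mul_zero]
    have hyy : y * y = X ^ (m + 1) * y := by
      rw [hy]
      calc X ^ (m + 1) * C ε * (X ^ (m + 1) * C ε) = X ^ (m + 1) * (X ^ (m + 1) * (C ε * C ε)) := by ring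
        _ = X ^ (m + 1) * (X ^ (m + 1) * C ε) := by rw [← map_mul, hε.eq]
    have hfxy : f = y + x := by rw [hx]; ring
    have h3 : x * (X ^ (m + 1) * C (2 * ε - 1)) = 0 := by
      have e1 : (y + x) * (y + x) = X ^ (m + 1) * (y + x) := by rw [← hfxy]; exact hf
      have e2 : (y + x) * (y + x) = y * y + 2 * (x * y) + x * x := by ring
      rw [e2, hyy, hxx] at e1
      have e3 : 2 * (x * y) = X ^ (m + 1) * x := by linear_combination e1
      rw [map_sub, map_mul, map_one]
      have : (C (2 : R) : R⟦X⟧) = 2 := by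
        rw [map_ofNat]
      rw [this]
      calc x * (X ^ (m + 1) * (2 * C ε - 1)) = 2 * (x * (X ^ (m + 1) * C ε)) - X ^ (m + 1) * x := by ring
        _ = 0 := by rw [← hy, e3]; ring
    have h4 : X ^ (m + 1) * x = 0 := by
      have hu : (C (2 * ε - 1) : R⟦X⟧) * C (2 * ε - 1) = 1 := by
        rw [← map_mul]
        have : (2 * ε - 1) * (2 * ε - 1) = 1 := by
          calc (2 * ε - 1) * (2 * ε - 1) = 4 * (ε * ε) - 4 * ε + 1 := by ring
            _ = 1 := by rw [hε.eq]; ring
        rw [this, map_one]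
      calc X ^ (m + 1) * x = x * (X ^ (m + 1) * C (2 * ε - 1)) * C (2 * ε - 1) := by
            rw [mul_assoc, mul_assoc, hu]; ring
        _ = 0 := by rw [h3, zero_mul]
    have h5 : x = 0 := by
      apply X_pow_mul_cancel (k := m + 1)
      rw [h4, mul_zero]
    rw [hfxy, h5, add_zero]


open HahnSeries in
theorem laurent_idem (R : Type u) [CommRing R] (e : LaurentSeries R) (he : IsIdempotentElem e) :
    ∃ r : R, IsIdempotentElem r ∧ HahnSeries.C r = e := by
  have hsplit : single e.order 1 * ofPowerSeries ℤ R e.powerSeriesPart = e :=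
    LaurentSeries.single_order_mul_powerSeriesPart e
  set n := e.order with hn
  set f := e.powerSeriesPart with hf
  have he' : e * e = e := he
  rcases le_or_gt 0 n with h | h
  · obtain ⟨k, hk⟩ : ∃ k : ℕ, n = k := ⟨n.toNat, (Int.toNat_of_nonneg h).symm⟩
    have e1 : e = ofPowerSeries ℤ R (X ^ k * f) := by
      rw [map_mul, ofPowerSeries_X_pow, ← hk, hsplit]
    have e2 : (X ^ k * f) * (X ^ k * f) = X ^ k * f := by
      apply ofPowerSeries_injective (Γ := ℤ)
      rw [map_mul, ← e1, he']
    obtain ⟨h1, h2⟩ := ps_idem _ e2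
    refine ⟨_, h1, ?_⟩
    rw [e1, h2, ofPowerSeries_C, constantCoeff_C]
  · obtain ⟨m, hm⟩ : ∃ m : ℕ, n = -(m : ℤ) := ⟨(-n).toNat, by
      rw [Int.toNat_of_nonneg (by omega)]; ring⟩
    have hinv : (single n (1 : R)) * single (m : ℤ) 1 = 1 := by
      rw [single_mul_single, hm, neg_add_cancel, mul_one]
      rfl
    have e2 : f * f = X ^ m * f := by
      apply ofPowerSeries_injective (Γ := ℤ)
      rw [map_mul, map_mul, ofPowerSeries_X_pow]
      have h3 : (single n 1 * ofPowerSeries ℤ R f) * (single n 1 * ofPowerSeries ℤ R f) =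
          single n 1 * ofPowerSeries ℤ R f := by rw [hsplit, he']
      calc ofPowerSeries ℤ R f * ofPowerSeries ℤ R f
          = (single n (1 : R) * single (m : ℤ) 1) * (single n (1 : R) * single (m : ℤ) 1) *
              (ofPowerSeries ℤ R f * ofPowerSeries ℤ R f) := by rw [hinv]; ring
        _ = single (m : ℤ) 1 * single (m : ℤ) 1 * ((single n 1 * ofPowerSeries ℤ R f) *
              (single n 1 * ofPowerSeries ℤ R f)) := by ring
        _ = single (m : ℤ) 1 * single (m : ℤ) 1 * (single n 1 * ofPowerSeries ℤ R f) := by rw [h3]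
        _ = (single n (1 : R) * single (m : ℤ) 1) * (single (m : ℤ) 1 * ofPowerSeries ℤ R f) := by ring
        _ = single (m : ℤ) 1 * ofPowerSeries ℤ R f := by rw [hinv, one_mul]
    obtain ⟨ε, hε, hfε⟩ := ps_key m R f e2
    refine ⟨ε, hε, ?_⟩
    rw [← hsplit, hfε, map_mul, ofPowerSeries_X_pow, ofPowerSeries_C, ← mul_assoc, hinv, one_mul]

end Groth.Agent.H78
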