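import Mathlib

set_option autoImplicit false

namespace Groth.Agent.H78

open PowerSeries

universe u

section
variable {R : Type*} [CommRing R]

/-- For a prime `𝔭` and power series `F G` with `F * G = X^N`, the products of coefficients
below the anti-diagonal lie in `𝔭`. -/
lemma coeff_mul_mem_prime (F G : R⟦X⟧) (N : ℕ) (h : F * G = X ^ N) (𝔭 : Ideal R) [h𝔭 : 𝔭.IsPrime]
    (i j : ℕ) (hij : i + j < N) : coeff i F * coeff j G ∈ 𝔭 := by
  classical
  have h1 : (1 : R) ∉ 𝔭 := fun h1 => h𝔭.ne_top ((Ideal.eq_top_iff_one _).mpr h1)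
  have hN : coeff N (F * G) = 1 := by rw [h, coeff_X_pow_self]
  have hexF : ∃ n, coeff n F ∉ 𝔭 := by
    by_contra hcon
    push Not at hcon
    apply h1
    rw [← hN, coeff_mul]
    exact Ideal.sum_mem _ (fun p _ => Ideal.mul_mem_right _ _ (hcon p.1))
  have hexG : ∃ n, coeff n G ∉ 𝔭 := by
    by_contra hcon
    push Not at hcon
    apply h1
    rw [← hN, coeff_mul]
    exact Ideal.sum_mem _ (fun p _ => Ideal.mul_mem_left _ _ (hcon p.2))
  set n := Nat.find hexF with hn
  set n' := Nat.find hexG with hn'
  have hnF : coeff n F ∉ 𝔭 := Nat.find_spec hexF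
  have hnG : coeff n' G ∉ 𝔭 := Nat.find_spec hexG
  have hminF : ∀ k < n, coeff k F ∈ 𝔭 := fun k hk => by
    by_contra hc; exact Nat.find_min hexF hk hc
  have hminG : ∀ k < n', coeff k G ∈ 𝔭 := fun k hk => by
    by_contra hc; exact Nat.find_min hexG hk hc
  have hsum : coeff (n + n') (F * G) ∉ 𝔭 := by
    rw [coeff_mul]
    have hmem : (n, n') ∈ Finset.HasAntidiagonal.antidiagonal (n + n') := Finset.HasAntidiagonal.mem_antidiagonal.mpr rfl
    rw [← Finset.add_sum_erase _ _ hmem]
    intro hc
    have hrest : ∑ x ∈ (Finset.HasAntidiagonal.antidiagonal (n + n')).erase (n, n'), coeff x.1 F * coeff x.2 G ∈ 𝔭 := by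
      apply Ideal.sum_mem
      rintro ⟨a, b⟩ hab
      rw [Finset.mem_erase, Finset.HasAntidiagonal.mem_antidiagonal] at hab
      obtain ⟨hne, hab⟩ := hab
      simp only at hab ⊢
      rcases lt_trichotomy a n with hlt | heq | hgt
      · exact Ideal.mul_mem_right _ _ (hminF a hlt)
      · exfalso; apply hne; subst heq; congr 1; omega
      · exact Ideal.mul_mem_left _ _ (hminG b (by omega))
    have := (Ideal.add_mem_iff_left 𝔭 hrest).mp hc
    rcases h𝔭.mem_or_mem this with h2 | h2
    · exact hnF h2
    · exact hnG h2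
  have hnn : n + n' = N := by
    by_contra hne
    apply hsum
    rw [h, coeff_X_pow, if_neg hne]
    exact 𝔭.zero_mem
  rcases lt_or_ge i n with hi | hi
  · exact Ideal.mul_mem_right _ _ (hminF i hi)
  · exact Ideal.mul_mem_left _ _ (hminG j (by omega))

variable [IsReduced R]

lemma coeff_mul_eq_zero (F G : R⟦X⟧) (N : ℕ) (h : F * G = X ^ N)
    (i j : ℕ) (hij : i + j < N) : coeff i F * coeff j G = 0 := by
  have : coeff i F * coeff j G ∈ nilradical R := by
    rw [nilradical_eq_sInf, Ideal.mem_sInf]
    intro 𝔭 h𝔭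
    have : 𝔭.IsPrime := h𝔭
    exact coeff_mul_mem_prime F G N h 𝔭 i j hij
  exact IsReduced.eq_zero _ (mem_nilradical.mp this)

variable [Nontrivial R]

theorem ps_unit_key (hconn : ∀ e : R, IsIdempotentElem e → e = 0 ∨ e = 1)
    (F G : R⟦X⟧) (N : ℕ) (h : F * G = X ^ N) :
    ∃ k ≤ N, ∃ U : R⟦X⟧, IsUnit U ∧ F = X ^ k * U := by
  classical
  have hz := coeff_mul_eq_zero F G N h
  set ε : ℕ → R := fun k => coeff k F * coeff (N - k) G with hε
  have hsum : ∑ k ∈ Finset.range (N + 1), ε k = 1 := by
    have hN : coeff N (F * G) = 1 := by rw [h, coeff_X_pow_self]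
    rw [coeff_mul, Finset.Nat.sum_antidiagonal_eq_sum_range_succ
      (fun i j => coeff i F * coeff j G)] at hN
    exact hN
  have horth : ∀ k k', k < k' → k' ≤ N → ε k * ε k' = 0 := by
    intro k k' hkk' hk'
    have := hz k (N - k') (by omega)
    calc ε k * ε k' = (coeff k F * coeff (N - k') G) * (coeff (N - k) G * coeff k' F) := by
          simp only [hε]; ring
      _ = 0 := by rw [this, zero_mul]
  have hidem : ∀ k ∈ Finset.range (N + 1), IsIdempotentElem (ε k) := by
    intro k hk
    rw [Finset.mem_range] at hk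
    have : ε k * ∑ k' ∈ Finset.range (N + 1), ε k' = ε k * ε k := by
      rw [Finset.mul_sum]
      apply Finset.sum_eq_single k
      · intro k' hk' hne
        rw [Finset.mem_range] at hk'
        rcases lt_or_gt_of_ne hne with hlt | hgt
        · rw [mul_comm]; exact horth k' k hlt (by omega)
        · exact horth k k' hgt (by omega)
      · intro hk'
        exact absurd (Finset.mem_range.mpr hk) hk'
    rw [hsum, mul_one] at this
    exact this.symm
  have hex : ∃ k ∈ Finset.range (N + 1), ε k = 1 := by
    by_contra hcon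
    push Not at hcon
    have : ∑ k ∈ Finset.range (N + 1), ε k = 0 := by
      apply Finset.sum_eq_zero
      intro k hk
      rcases hconn _ (hidem k hk) with h0 | h1
      · exact h0
      · exact absurd h1 (hcon k hk)
    rw [hsum] at this
    exact one_ne_zero this
  obtain ⟨k₀, hk₀, hk₀1⟩ := hex
  rw [Finset.mem_range] at hk₀
  have hlow : ∀ i < k₀, coeff i F = 0 := by
    intro i hi
    have := hz i (N - k₀) (by omega)
    calc coeff i F = coeff i F * ε k₀ := by rw [hk₀1, mul_one]
      _ = (coeff i F * coeff (N - k₀) G) * coeff k₀ F := by simp only [hε]; ring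
      _ = 0 := by rw [this, zero_mul]
  obtain ⟨U, hU⟩ := X_pow_dvd_iff.mpr hlow
  refine ⟨k₀, by omega, U, ?_, hU⟩
  rw [isUnit_iff_constantCoeff]
  have hc : constantCoeff U = coeff k₀ F := by
    rw [hU, ← coeff_zero_eq_constantCoeff_apply]
    have := coeff_X_pow_mul U k₀ 0
    rw [zero_add] at this
    exact this.symm
  rw [hc]
  exact IsUnit.of_mul_eq_one _ hk₀1

end


open HahnSeries in
lemma single_mul_ofPS_inj {R : Type u} [CommRing R] [Nontrivial R] (n n' : ℤ) (u u' : (PowerSeries R)ˣ)
    (h : single n (1 : R) * ofPowerSeries ℤ R (u : PowerSeries R) =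
      single n' (1 : R) * ofPowerSeries ℤ R (u' : PowerSeries R)) : n = n' ∧ u = u' := by
  have hcoeff : ∀ (k : ℤ) (v : PowerSeries R) (i : ℤ),
      (single k (1 : R) * ofPowerSeries ℤ R v).coeff i = (ofPowerSeries ℤ R v).coeff (i - k) := by
    intro k v i
    rw [coeff_single_mul, one_mul]
  have hunit : ∀ v : (PowerSeries R)ˣ, constantCoeff (v : PowerSeries R) ≠ 0 := by
    intro v
    have : IsUnit (constantCoeff (v : PowerSeries R)) :=
      isUnit_iff_constantCoeff.mp v.isUnit
    exact this.ne_zero
  have hzero : ∀ (v : PowerSeries R), (ofPowerSeries ℤ R v).coeff 0 = constantCoeff v := by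
    intro v
    have := PowerSeries.coeff_coe (v) (0 : ℤ)
    simpa using this
  have hneg : ∀ (v : PowerSeries R) (i : ℤ), i < 0 → (ofPowerSeries ℤ R v).coeff i = 0 := by
    intro v i hi
    have := PowerSeries.coeff_coe (v) i
    rw [if_pos hi] at this
    exact this
  have hnn : n = n' := by
    rcases lt_trichotomy n n' with hlt | heq | hgt
    · exfalso
      have := congrArg (fun x => x.coeff n) h
      simp only [hcoeff] at this
      rw [sub_self, hzero, hneg _ _ (by omega)] at this
      exact hunit u this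
    · exact heq
    · exfalso
      have := congrArg (fun x => x.coeff n') h
      simp only [hcoeff] at this
      rw [sub_self, hzero, hneg _ _ (by omega)] at this
      exact hunit u' this.symm
  refine ⟨hnn, ?_⟩
  subst hnn
  have hinv : single (-n) (1 : R) * single n (1 : R) = 1 := by
    rw [single_mul_single, neg_add_cancel, mul_one]; rfl
  have h2 : ofPowerSeries ℤ R (u : PowerSeries R) = ofPowerSeries ℤ R (u' : PowerSeries R) := by
    calc ofPowerSeries ℤ R (u : PowerSeries R)
        = single (-n) (1 : R) * (single n (1 : R) * ofPowerSeries ℤ R (u : PowerSeries R)) := by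
          rw [← mul_assoc, hinv, one_mul]
      _ = single (-n) (1 : R) * (single n (1 : R) * ofPowerSeries ℤ R (u' : PowerSeries R)) := by rw [h]
      _ = _ := by rw [← mul_assoc, hinv, one_mul]
  exact Units.ext (ofPowerSeries_injective h2)

open HahnSeries in
theorem laurent_unit (R : Type u) [CommRing R]
    [IsReduced R] [Nontrivial R] (hconn : ∀ e : R, IsIdempotentElem e → e = 0 ∨ e = 1)
    (f : (LaurentSeries R)ˣ) :
    ∃! p : ℤ × (PowerSeries R)ˣ,
      (f : LaurentSeries R) = single p.1 (1 : R) * ofPowerSeries ℤ R (p.2 : PowerSeries R) := by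
  set g : LaurentSeries R := ((f⁻¹ : (LaurentSeries R)ˣ) : LaurentSeries R) with hg
  have hfg : (f : LaurentSeries R) * g = 1 := by rw [hg]; exact f.mul_inv
  set a := (f : LaurentSeries R).order with ha
  set b := g.order with hb
  set F := (f : LaurentSeries R).powerSeriesPart with hF
  set G := g.powerSeriesPart with hG
  have hf : single a 1 * ofPowerSeries ℤ R F = (f : LaurentSeries R) :=
    LaurentSeries.single_order_mul_powerSeriesPart _
  have hg' : single b 1 * ofPowerSeries ℤ R G = g :=
    LaurentSeries.single_order_mul_powerSeriesPart _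
  have hprod : single (a + b) (1 : R) * ofPowerSeries ℤ R (F * G) = 1 := by
    rw [← hfg, ← hf, ← hg', map_mul]
    rw [show single (a + b) (1 : R) = single a 1 * single b 1 by
      rw [single_mul_single, mul_one]]
    ring
  have hinv : single (-(a + b)) (1 : R) * single (a + b) (1 : R) = 1 := by
    rw [single_mul_single, neg_add_cancel, mul_one]; rfl
  have hFG : ofPowerSeries ℤ R (F * G) = single (-(a + b)) (1 : R) := by
    calc ofPowerSeries ℤ R (F * G)
        = single (-(a + b)) (1 : R) * (single (a + b) (1 : R) * ofPowerSeries ℤ R (F * G)) := by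
          rw [← mul_assoc, hinv, one_mul]
      _ = single (-(a + b)) (1 : R) := by rw [hprod, mul_one]
  have hc : 0 ≤ -(a + b) := by
    by_contra hneg
    push Not at hneg
    have := congrArg (fun x => x.coeff (-(a + b))) hFG
    simp only [coeff_single_same] at this
    have h0 := PowerSeries.coeff_coe (F * G) (-(a + b))
    rw [if_pos hneg] at h0
    rw [h0] at this
    exact zero_ne_one this
  obtain ⟨N, hN⟩ : ∃ N : ℕ, -(a + b) = N := ⟨(-(a + b)).toNat, (Int.toNat_of_nonneg hc).symm⟩
  have hFG' : F * G = X ^ N := by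
    apply ofPowerSeries_injective (Γ := ℤ)
    rw [hFG, hN, ofPowerSeries_X_pow]
  obtain ⟨k, _, U, hU, hFU⟩ := ps_unit_key hconn F G N hFG'
  have hex : (f : LaurentSeries R) = single (a + k) (1 : R) * ofPowerSeries ℤ R (hU.unit : PowerSeries R) := by
    rw [IsUnit.unit_spec, ← hf, hFU, map_mul, ofPowerSeries_X_pow, ← mul_assoc, single_mul_single,
      mul_one]
  refine ⟨(a + k, hU.unit), hex, ?_⟩
  rintro ⟨n', u'⟩ hp
  simp only at hp
  rw [hex] at hp
  obtain ⟨h1, h2⟩ := single_mul_ofPS_inj _ _ _ _ hp
  rw [Prod.mk.injEq]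
  exact ⟨h1.symm, h2.symm⟩

end Groth.Agent.H78
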