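import Mathlib

set_option autoImplicit false

namespace Groth.Agent.H78

open Module

variable {A : Type*} [CommRing A]

/-- `ℓ(A/(J, ab)) ≤ ℓ(A/(J, a)) + ℓ(A/(J, b))`. -/
lemma length_quot_mul_le (J : Ideal A) (a b : A) :
    Module.length A (A ⧸ (J ⊔ Ideal.span {a * b})) ≤
      Module.length A (A ⧸ (J ⊔ Ideal.span {a})) + Module.length A (A ⧸ (J ⊔ Ideal.span {b})) := by
  set I₁ : Ideal A := J ⊔ Ideal.span {a} with hI₁
  set I₂ : Ideal A := J ⊔ Ideal.span {b} with hI₂
  set I₁₂ : Ideal A := J ⊔ Ideal.span {a * b} with hI₁₂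
  have h12 : I₁₂ ≤ I₁ := by
    apply sup_le le_sup_left
    rw [Ideal.span_singleton_le_iff_mem]
    apply Ideal.mem_sup_right
    rw [Ideal.mem_span_singleton]
    exact ⟨b, rfl⟩
  let g : (A ⧸ I₁₂) →ₗ[A] (A ⧸ I₁) := Submodule.mapQ I₁₂ I₁ LinearMap.id h12
  have hg : Function.Surjective g := by
    intro x
    obtain ⟨y, rfl⟩ := Submodule.Quotient.mk_surjective _ x
    exact ⟨Submodule.Quotient.mk y, rfl⟩
  have h2 : I₂ ≤ Submodule.comap (LinearMap.mulLeft A a) I₁₂ := by
    intro x hx
    rw [Submodule.mem_comap, LinearMap.mulLeft_apply]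
    rw [hI₂] at hx
    obtain ⟨j, hj, z, hz, rfl⟩ := Submodule.mem_sup.mp hx
    obtain ⟨c, rfl⟩ := Ideal.mem_span_singleton'.mp hz
    rw [mul_add]
    apply Ideal.add_mem
    · exact Ideal.mem_sup_left (Ideal.mul_mem_left _ _ hj)
    · apply Ideal.mem_sup_right
      rw [Ideal.mem_span_singleton']
      exact ⟨c, by ring⟩
  let f' : (A ⧸ I₂) →ₗ[A] (A ⧸ I₁₂) := Submodule.mapQ I₂ I₁₂ (LinearMap.mulLeft A a) h2
  have hker : LinearMap.ker g ≤ LinearMap.range f' := by
    intro x hx
    obtain ⟨y, rfl⟩ := Submodule.Quotient.mk_surjective _ x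
    rw [LinearMap.mem_ker] at hx
    have hy : y ∈ I₁ := by
      have : g (Submodule.Quotient.mk y) = Submodule.Quotient.mk y := rfl
      rw [this] at hx
      exact (Submodule.Quotient.mk_eq_zero _).mp hx
    rw [hI₁] at hy
    obtain ⟨j, hj, z, hz, rfl⟩ := Submodule.mem_sup.mp hy
    obtain ⟨c, rfl⟩ := Ideal.mem_span_singleton'.mp hz
    refine ⟨Submodule.Quotient.mk c, ?_⟩
    have : f' (Submodule.Quotient.mk c) = Submodule.Quotient.mk (a * c) := rfl
    rw [this, Submodule.Quotient.eq]
    have : a * c - (j + c * a) = -j := by ring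
    rw [this]
    exact Ideal.mem_sup_left (neg_mem hj)
  have e1 := Module.length_eq_add_of_exact (LinearMap.ker g).subtype g
    (Submodule.subtype_injective _) hg (LinearMap.exact_subtype_ker_map g)
  rw [e1, add_comm]
  gcongr
  calc Module.length A (LinearMap.ker g) ≤ Module.length A (LinearMap.range f') :=
        Module.length_le_of_injective (Submodule.inclusion hker) (Submodule.inclusion_injective hker)
    _ ≤ Module.length A (A ⧸ I₂) :=
        Module.length_le_of_surjective f'.rangeRestrict (LinearMap.surjective_rangeRestrict f')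


lemma length_quot_congr {I I' : Ideal A} (h : I = I') :
    Module.length A (A ⧸ I) = Module.length A (A ⧸ I') := by
  subst h; rfl

lemma length_quot_prod_le {G : Type*} (t : Finset G) (J : Ideal A) (f : G → A) :
    Module.length A (A ⧸ (J ⊔ Ideal.span {∏ σ ∈ t, f σ})) ≤
      ∑ σ ∈ t, Module.length A (A ⧸ (J ⊔ Ideal.span {f σ})) := by
  classical
  induction t using Finset.induction_on with
  | empty =>
    have : J ⊔ Ideal.span {∏ σ ∈ (∅ : Finset G), f σ} = ⊤ := by
      rw [Finset.prod_empty, Ideal.span_singleton_one, sup_top_eq]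
    rw [length_quot_congr this, Finset.sum_empty, nonpos_iff_eq_zero, Module.length_eq_zero_iff]
    infer_instance
  | insert x t hx ih =>
    rw [Finset.prod_insert hx, Finset.sum_insert hx]
    refine (length_quot_mul_le J _ _).trans ?_
    gcongr

/-- The main combinatorial bound. -/
lemma length_quot_norms_le {ι G : Type*} [Fintype G] [Nonempty G] [DecidableEq ι]
    (y : ι → G → A) (C : ℕ∞) (s : Finset ι) :
    ∀ J : Ideal A,
      (∀ τ : ι → G, Module.length A (A ⧸ (J ⊔ Ideal.span ((fun i => y i (τ i)) '' (s : Set ι)))) ≤ C) →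
      Module.length A (A ⧸ (J ⊔ Ideal.span ((fun i => ∏ σ, y i σ) '' (s : Set ι)))) ≤
        (Fintype.card G : ℕ∞) ^ s.card * C := by
  induction s using Finset.induction_on with
  | empty =>
    intro J h
    obtain ⟨σ₀⟩ := ‹Nonempty G›
    have := h (fun _ => σ₀)
    have e : J ⊔ Ideal.span ((fun i => y i σ₀) '' ((∅ : Finset ι) : Set ι)) =
        J ⊔ Ideal.span ((fun i => ∏ σ, y i σ) '' ((∅ : Finset ι) : Set ι)) := by
      simp
    rw [length_quot_congr e] at this
    simpa using this
  | insert i₀ s hi₀ ih =>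
    intro J h
    have e1 : J ⊔ Ideal.span ((fun i => ∏ σ, y i σ) '' ((insert i₀ s : Finset ι) : Set ι)) =
        (J ⊔ Ideal.span ((fun i => ∏ σ, y i σ) '' (s : Set ι))) ⊔ Ideal.span {∏ σ, y i₀ σ} := by
      rw [Finset.coe_insert, Set.image_insert_eq, Set.insert_eq, Ideal.span_union, sup_assoc]
      congr 1
      exact sup_comm _ _
    rw [e1]
    refine (length_quot_prod_le Finset.univ _ (y i₀)).trans ?_
    have hbound : ∀ σ ∈ (Finset.univ : Finset G),
        Module.length A (A ⧸ ((J ⊔ Ideal.span ((fun i => ∏ σ, y i σ) '' (s : Set ι))) ⊔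
          Ideal.span {y i₀ σ})) ≤ (Fintype.card G : ℕ∞) ^ s.card * C := by
      intro σ _
      have e2 : (J ⊔ Ideal.span ((fun i => ∏ σ, y i σ) '' (s : Set ι))) ⊔ Ideal.span {y i₀ σ} =
          (J ⊔ Ideal.span {y i₀ σ}) ⊔ Ideal.span ((fun i => ∏ σ, y i σ) '' (s : Set ι)) := by
        rw [sup_assoc, sup_assoc]
        congr 1
        exact sup_comm _ _
      rw [e2]
      apply ih
      intro τ
      have := h (Function.update τ i₀ σ)
      have e3 : J ⊔ Ideal.span ((fun i => y i (Function.update τ i₀ σ i)) ''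
          ((insert i₀ s : Finset ι) : Set ι)) =
          (J ⊔ Ideal.span {y i₀ σ}) ⊔ Ideal.span ((fun i => y i (τ i)) '' (s : Set ι)) := by
        rw [Finset.coe_insert, Set.image_insert_eq, Set.insert_eq, Ideal.span_union, sup_assoc]
        congr 2
        · simp
        · congr 1
          apply Set.image_congr
          intro i hi
          have : i ≠ i₀ := fun h => hi₀ (h ▸ hi)
          simp [Function.update_of_ne this]
      rw [e3] at this
      exact this
    refine (Finset.sum_le_sum hbound).trans ?_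
    rw [Finset.sum_const, Finset.card_univ, Finset.card_insert_of_notMem hi₀, pow_succ, nsmul_eq_mul]
    exact le_of_eq (by ring)

end Groth.Agent.H78
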