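import Mathlib.RingTheory.MvPolynomial.Basic
import Mathlib.RingTheory.Ideal.Span
import Mathlib.Tactic

set_option autoImplicit false

namespace Groth.Agent.H78

open MvPolynomial

variable {k : Type*} [CommRing k]

/-- the monomial `X₀^d0 X₁^d1 X₂^d2` -/
noncomputable abbrev mon3 (k : Type*) [CommRing k] (d0 d1 d2 : ℕ) : MvPolynomial (Fin 3) k :=
  X (0 : Fin 3) ^ d0 * X (1 : Fin 3) ^ d1 * X (2 : Fin 3) ^ d2

/-- same `n`, same `c`, and `d2 ≤ e2`: the difference is a multiple of `X₀^(q-p) - X₁X₂` -/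
lemma mon3_sub_mem_aux (p q : ℕ) (hpq : p < q) (d0 d1 d2 e0 e1 e2 : ℕ)
    (hn : (e0 : ℤ) - (p : ℤ) * e1 + (q : ℤ) * e2 = (d0 : ℤ) - (p : ℤ) * d1 + (q : ℤ) * d2)
    (hc : (d1 : ℤ) - d2 = (e1 : ℤ) - e2) (hle : d2 ≤ e2) :
    (mon3 k d0 d1 d2 - mon3 k e0 e1 e2) ∈
      Ideal.span {(X (0 : Fin 3) ^ (q - p) - X (1 : Fin 3) * X (2 : Fin 3) : MvPolynomial (Fin 3) k)} := by
  obtain ⟨j, rfl⟩ : ∃ j, e2 = d2 + j := ⟨e2 - d2, by omega⟩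
  have he1 : e1 = d1 + j := by push_cast at hc; omega
  subst he1
  have hd0 : d0 = e0 + (q - p) * j := by
    have hqp : ((q - p : ℕ) : ℤ) = (q : ℤ) - p := by omega
    have : (d0 : ℤ) = e0 + ((q - p : ℕ) : ℤ) * j := by
      rw [hqp]; push_cast at hn; linarith
    exact_mod_cast this
  subst hd0
  have key : mon3 k (e0 + (q - p) * j) d1 d2 - mon3 k e0 (d1 + j) (d2 + j) =
      (X (0 : Fin 3) ^ e0 * X (1 : Fin 3) ^ d1 * X (2 : Fin 3) ^ d2) *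
        ((X (0 : Fin 3) ^ (q - p)) ^ j - (X (1 : Fin 3) * X (2 : Fin 3)) ^ j) := by
    simp only [mon3]
    ring
  rw [key]
  apply Ideal.mul_mem_left
  obtain ⟨r, hr⟩ := sub_dvd_pow_sub_pow (X (0 : Fin 3) ^ (q - p) : MvPolynomial (Fin 3) k)
    (X (1 : Fin 3) * X (2 : Fin 3)) j
  rw [hr]
  exact Ideal.mul_mem_right _ _ (Ideal.subset_span rfl)

lemma mon3_sub_mem (p q : ℕ) (hpq : p < q) (d0 d1 d2 e0 e1 e2 : ℕ)
    (hn : (e0 : ℤ) - (p : ℤ) * e1 + (q : ℤ) * e2 = (d0 : ℤ) - (p : ℤ) * d1 + (q : ℤ) * d2)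
    (hc : (d1 : ℤ) - d2 = (e1 : ℤ) - e2) :
    (mon3 k d0 d1 d2 - mon3 k e0 e1 e2) ∈
      Ideal.span {(X (0 : Fin 3) ^ (q - p) - X (1 : Fin 3) * X (2 : Fin 3) : MvPolynomial (Fin 3) k)} := by
  rcases le_total d2 e2 with h | h
  · exact mon3_sub_mem_aux p q hpq d0 d1 d2 e0 e1 e2 hn hc h
  · have := mon3_sub_mem_aux (k := k) p q hpq e0 e1 e2 d0 d1 d2 hn.symm hc.symm h
    have e : mon3 k d0 d1 d2 - mon3 k e0 e1 e2 = -(mon3 k e0 e1 e2 - mon3 k d0 d1 d2) := by ring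
    rw [e]
    exact (Ideal.neg_mem_iff _).mpr this

end Groth.Agent.H78
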