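import Mathlib
import Groth.Prelude.Def_Hens2
import Groth.Agent.H78.HensFinEt

/-!
# Pair henselizations of finitely presented algebras with finite reduction (S17596, S17597)
-/

namespace Groth.Agent.H78.PairHensFin

open Hens2

universe u

/-- Two henselizations of the same pair are isomorphic. -/
theorem nonempty_algEquiv_of_isPairHenselization {R : Type u} [CommRing R] (J : Ideal R)
    {B₁ B₂ : Type u} [CommRing B₁] [CommRing B₂] [Algebra R B₁] [Algebra R B₂]
    (h₁ : IsPairHenselization R J B₁) (h₂ : IsPairHenselization R J B₂) :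
    Nonempty (B₁ ≃ₐ[R] B₂) := by
  obtain ⟨g₁₂, hg₁₂, -⟩ := h₁.2 B₂ (J.map (algebraMap R B₂)) (algebraMap R B₂) h₂.1 le_rfl
  obtain ⟨g₂₁, hg₂₁, -⟩ := h₂.2 B₁ (J.map (algebraMap R B₁)) (algebraMap R B₁) h₁.1 le_rfl
  have hid₁ : g₂₁.comp g₁₂ = RingHom.id B₁ := by
    obtain ⟨g, -, huniq⟩ := h₁.2 B₁ (J.map (algebraMap R B₁)) (algebraMap R B₁) h₁.1 le_rfl
    rw [huniq (g₂₁.comp g₁₂) (by
        change (g₂₁.comp g₁₂).comp (algebraMap R B₁) = algebraMap R B₁
        rw [RingHom.comp_assoc, hg₁₂, hg₂₁]),
      huniq (RingHom.id B₁) (RingHom.id_comp _)]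
  have hid₂ : g₁₂.comp g₂₁ = RingHom.id B₂ := by
    obtain ⟨g, -, huniq⟩ := h₂.2 B₂ (J.map (algebraMap R B₂)) (algebraMap R B₂) h₂.1 le_rfl
    rw [huniq (g₁₂.comp g₂₁) (by
        change (g₁₂.comp g₂₁).comp (algebraMap R B₂) = algebraMap R B₂
        rw [RingHom.comp_assoc, hg₂₁, hg₁₂]),
      huniq (RingHom.id B₂) (RingHom.id_comp _)]
  let f₁₂ : B₁ →ₐ[R] B₂ := { g₁₂ with commutes' := fun r => RingHom.congr_fun hg₁₂ r }
  let f₂₁ : B₂ →ₐ[R] B₁ := { g₂₁ with commutes' := fun r => RingHom.congr_fun hg₂₁ r }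
  exact ⟨AlgEquiv.ofAlgHom f₁₂ f₂₁ (AlgHom.ext fun x => RingHom.congr_fun hid₂ x)
    (AlgHom.ext fun x => RingHom.congr_fun hid₁ x)⟩

/-- The finite part `R/(1 - e₀)` is a henselization of the pair `(R, IR)`. -/
theorem isPairHenselization_quotient_idempotent {A R : Type u} [CommRing A] [CommRing R]
    [Algebra A R] (I : Ideal A) (h : HenselianRing A I) (e₀ : R) (he₀ : IsIdempotentElem e₀)
    (h1e : 1 - e₀ ∈ I.map (algebraMap A R))
    (hint : Algebra.IsIntegral A (R ⧸ Ideal.span {1 - e₀})) :
    IsPairHenselization R (I.map (algebraMap A R)) (R ⧸ Ideal.span {1 - e₀}) := by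
  constructor
  · have := Groth.Agent.H3.henselianRing_of_isIntegral h (R ⧸ Ideal.span {1 - e₀})
    rwa [Ideal.map_map, ← IsScalarTower.algebraMap_eq]
  · intro C _ J f hC hle
    have hf0 : f (1 - e₀) = 0 := by
      have hidem : IsIdempotentElem (f e₀) := he₀.map f
      have hmem : f e₀ - 1 ∈ Ideal.jacobson (⊥ : Ideal C) := by
        apply hC.jac
        apply hle
        have := Ideal.mem_map_of_mem f h1e
        rw [map_sub, map_one] at this
        have h2 := Ideal.neg_mem_iff _ |>.mpr this
        rwa [neg_sub] at h2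
      have := Groth.Agent.H3.idempotent_eq_of_sub_mem_jacobson hidem IsIdempotentElem.one hmem
      rw [map_sub, map_one, this, sub_self]
    have hker : ∀ a ∈ Ideal.span {1 - e₀}, f a = 0 := by
      intro a ha
      obtain ⟨c, rfl⟩ := Ideal.mem_span_singleton'.mp ha
      rw [map_mul, hf0, mul_zero]
    refine ⟨Ideal.Quotient.lift _ f hker, ?_, ?_⟩
    · ext x
      simp
    · intro g hg
      apply Ideal.Quotient.ringHom_ext
      refine RingHom.ext fun x => ?_
      have := RingHom.congr_fun hg x
      simpa using this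

/-- The reduction of `R` is a quotient of the reduction of a henselization of `(R, IR)`. -/
theorem finite_quotient_of_isPairHenselization {A R B : Type u} [CommRing A] [CommRing R]
    [CommRing B] [Algebra A R] [Algebra R B] [Algebra A B] [IsScalarTower A R B] (I : Ideal A)
    (hB : IsPairHenselization R (I.map (algebraMap A R)) B)
    (hfin : (Ideal.quotientMap (I.map (algebraMap A B)) (algebraMap A B)
      Ideal.le_comap_map).Finite) :
    Module.Finite (A ⧸ I) (R ⧸ I.map (algebraMap A R)) := by
  set J := I.map (algebraMap A R) with hJ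
  haveI : HenselianRing (R ⧸ J) ⊥ := inferInstance
  obtain ⟨g, hg, -⟩ := hB.2 (R ⧸ J) ⊥ (Ideal.Quotient.mk J) inferInstance
    (by rw [Ideal.map_quotient_self])
  have hgalg : ∀ r : R, g (algebraMap R B r) = Ideal.Quotient.mk J r :=
    fun r => RingHom.congr_fun hg r
  have hker : ∀ b ∈ I.map (algebraMap A B), g b = 0 := by
    intro b hb
    have hle : I.map (algebraMap A B) ≤ RingHom.ker g := by
      rw [Ideal.map_le_iff_le_comap]
      intro a ha
      rw [Ideal.mem_comap, RingHom.mem_ker, IsScalarTower.algebraMap_apply A R B, hgalg,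
        Ideal.Quotient.eq_zero_iff_mem]
      exact Ideal.mem_map_of_mem _ ha
    exact hle hb
  let gbar : B ⧸ I.map (algebraMap A B) →+* R ⧸ J := Ideal.Quotient.lift _ g hker
  have hsurj : Function.Surjective gbar := by
    intro y
    obtain ⟨r, rfl⟩ := Ideal.Quotient.mk_surjective y
    exact ⟨Ideal.Quotient.mk _ (algebraMap R B r), (Ideal.Quotient.lift_mk _ _ _).trans (hgalg r)⟩
  have h1 : (gbar.comp (Ideal.quotientMap (I.map (algebraMap A B)) (algebraMap A B)
      Ideal.le_comap_map)).Finite := (RingHom.Finite.of_surjective gbar hsurj).comp hfin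
  have h2 : gbar.comp (Ideal.quotientMap (I.map (algebraMap A B)) (algebraMap A B)
      Ideal.le_comap_map) = algebraMap (A ⧸ I) (R ⧸ J) := by
    apply Ideal.Quotient.ringHom_ext
    refine RingHom.ext fun a => ?_
    simp only [RingHom.coe_comp, Function.comp_apply, Ideal.quotientMap_mk, gbar,
      Ideal.Quotient.lift_mk]
    rw [IsScalarTower.algebraMap_apply A R B, hgalg]
    rfl
  rw [h2] at h1
  exact RingHom.finite_algebraMap.mp h1

/-- S17596 in library form. -/
theorem finite_and_finitePresentation {A R B : Type u} [CommRing A] [CommRing R]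
    [CommRing B] [Algebra A R] [Algebra.FinitePresentation A R] [Algebra R B] [Algebra A B]
    [IsScalarTower A R B] (I : Ideal A) (h : HenselianRing A I)
    (hB : IsPairHenselization R (I.map (algebraMap A R)) B)
    (hfin : (Ideal.quotientMap (I.map (algebraMap A B)) (algebraMap A B)
      Ideal.le_comap_map).Finite) :
    Module.Finite A B ∧ Algebra.FinitePresentation A B := by
  have hfinR := finite_quotient_of_isPairHenselization I hB hfin
  obtain ⟨e₀, he₀, h1e, hint⟩ :=
    HensFinEt.exists_idempotent_isIntegral_quotient (B₀ := R) I h hfinR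
  have hR₁ := isPairHenselization_quotient_idempotent I h e₀ he₀ h1e hint
  obtain ⟨eq⟩ := nonempty_algEquiv_of_isPairHenselization _ hR₁ hB
  let eqA : (R ⧸ Ideal.span {1 - e₀}) ≃ₐ[A] B := eq.restrictScalars A
  haveI : Module.Finite A (R ⧸ Ideal.span {1 - e₀}) := Algebra.IsIntegral.finite
  haveI : Algebra.FinitePresentation A (R ⧸ Ideal.span {1 - e₀}) := by
    haveI : Algebra.FinitePresentation R (R ⧸ Ideal.span {1 - e₀}) :=
      Algebra.FinitePresentation.quotient ⟨{1 - e₀}, by simp⟩
    exact Algebra.FinitePresentation.trans A R _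
  exact ⟨Module.Finite.equiv eqA.toLinearEquiv, Algebra.FinitePresentation.equiv eqA⟩

/-- S17597 in library form. -/
theorem surjective_of_quotient_surjective {A R B : Type u} [CommRing A] [CommRing R]
    [CommRing B] [Algebra A R] [Algebra.FinitePresentation A R] [Algebra R B] [Algebra A B]
    [IsScalarTower A R B] (I : Ideal A) (h : HenselianRing A I)
    (hB : IsPairHenselization R (I.map (algebraMap A R)) B)
    (hsurj : Function.Surjective (Ideal.quotientMap (I.map (algebraMap A B)) (algebraMap A B)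
      Ideal.le_comap_map)) :
    Function.Surjective (algebraMap A B) := by
  haveI hfin : Module.Finite A B :=
    (finite_and_finitePresentation I h hB (RingHom.Finite.of_surjective _ hsurj)).1
  have htop : (⊤ : Submodule A B) ≤ LinearMap.range (Algebra.linearMap A B) := by
    apply Submodule.le_of_le_smul_of_le_jacobson_bot Module.Finite.fg_top h.jac
    intro b _
    obtain ⟨abar, ha⟩ := hsurj (Ideal.Quotient.mk _ b)
    obtain ⟨a, rfl⟩ := Ideal.Quotient.mk_surjective abar
    rw [Ideal.quotientMap_mk, Ideal.Quotient.eq] at ha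
    have hb : b = algebraMap A B a - (algebraMap A B a - b) := by ring
    rw [hb]
    apply Submodule.sub_mem
    · exact Submodule.mem_sup_left ⟨a, rfl⟩
    · apply Submodule.mem_sup_right
      rw [Ideal.smul_top_eq_map]
      exact ha
  intro b
  obtain ⟨a, ha⟩ := htop (Submodule.mem_top : b ∈ ⊤)
  exact ⟨a, ha⟩

end Groth.Agent.H78.PairHensFin
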