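import Groth.Agent.H78.RankOne

set_option autoImplicit false

namespace Groth.Agent.H78

open MvPolynomial W4c2invhilbsl2

variable (k : Type*) [Field k] (p q m : ℕ)

lemma mk_monomial5 (I : Ideal (MvPolynomial (Fin 5) k)) (d : Fin 5 →₀ ℕ) :
    Ideal.Quotient.mk I (monomial d (1 : k)) =
      Ideal.Quotient.mk I (X 0) ^ d 0 * Ideal.Quotient.mk I (X 1) ^ d 1 *
        Ideal.Quotient.mk I (X 2) ^ d 2 * Ideal.Quotient.mk I (X 3) ^ d 3 *
        Ideal.Quotient.mk I (X 4) ^ d 4 := by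
  rw [monomial_eq, Finsupp.prod_fintype _ _ (fun i => by simp), Fin.prod_univ_five]
  simp only [map_one, one_mul, map_mul, map_pow]

lemma smul_quot5 (I : Ideal (MvPolynomial (Fin 5) k)) (c : k) (x : MvPolynomial (Fin 5) k ⧸ I) :
    c • x = algebraMap k (MvPolynomial (Fin 5) k ⧸ I) c * x := Algebra.smul_def c x

theorem S15727_main (hpq : p < q) (s : k) (ν : ℤ × ZMod m) :
    Module.rank k (piece k (wt5 p q m) (idealI k p q m s) ν) ≤ 1 := by
  apply rank_piece_le_one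
  intro d e hd he hne
  set I := idealI k p q m s with hI
  set x0 := Ideal.Quotient.mk I (X 0) with hx0
  set x1 := Ideal.Quotient.mk I (X 1) with hx1
  set x2 := Ideal.Quotient.mk I (X 2) with hx2
  set x3 := Ideal.Quotient.mk I (X 3) with hx3
  set x4 := Ideal.Quotient.mk I (X 4) with hx4
  have hF : x0 ^ (q - p) = x1 * x4 := by
    rw [hx0, hx1, hx4, ← map_pow, ← map_mul]
    apply Ideal.Quotient.eq.mpr
    apply Ideal.subset_span
    simp
  have h2 : x2 = 0 := by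
    rw [hx2]
    apply Ideal.Quotient.eq_zero_iff_mem.mpr
    apply Ideal.subset_span
    simp
  have h3 : x3 = 0 := by
    rw [hx3]
    apply Ideal.Quotient.eq_zero_iff_mem.mpr
    apply Ideal.subset_span
    simp
  have hG : x0 ^ (m * p) * x1 ^ m = algebraMap k _ s := by
    have : Ideal.Quotient.mk I (C s) = Ideal.Quotient.mk I (X 0 ^ (m * p) * X 1 ^ m) := by
      apply Ideal.Quotient.eq.mpr
      apply Ideal.subset_span
      simp
    rw [hx0, hx1, ← map_pow, ← map_pow, ← map_mul, ← this]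
    rfl
  have hmd := mk_monomial5 k I d
  have hme := mk_monomial5 k I e
  rw [← hx0, ← hx1, ← hx2, ← hx3, ← hx4] at hmd hme
  -- e has no X2, X3
  have he2 : e 2 = 0 := by
    by_contra h
    apply hne
    rw [hme, h2, zero_pow h]; ring
  have he3 : e 3 = 0 := by
    by_contra h
    apply hne
    rw [hme, h3, zero_pow h]; ring
  by_cases hd2 : d 2 = 0
  swap
  · exact ⟨0, by rw [hmd, h2, zero_pow hd2]; simp⟩
  by_cases hd3 : d 3 = 0
  swap
  · exact ⟨0, by rw [hmd, h3, zero_pow hd3]; simp⟩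
  rw [hd2, hd3, pow_zero, pow_zero, mul_one, mul_one] at hmd
  rw [he2, he3, pow_zero, pow_zero, mul_one, mul_one] at hme
  -- weights
  have w1d := wt5_weight_fst p q m d
  have w1e := wt5_weight_fst p q m e
  have w2d := wt5_weight_snd p q m d
  have w2e := wt5_weight_snd p q m e
  rw [hd] at w1d w2d
  rw [he] at w1e w2e
  rw [hd2, hd3] at w1d w2d
  rw [he2, he3] at w1e w2e
  simp only [Nat.cast_zero, add_zero, zero_add] at w1d w1e w2d w2e
  have hn : (e 0 : ℤ) - (p : ℤ) * (e 1 : ℤ) + (q : ℤ) * (e 4 : ℤ) =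
      (d 0 : ℤ) - (p : ℤ) * (d 1 : ℤ) + (q : ℤ) * (d 4 : ℤ) := by rw [← w1d, ← w1e]
  have hcc : (m : ℤ) ∣ ((d 1 : ℤ) - d 4) - ((e 1 : ℤ) - e 4) := by
    have := w2d.symm.trans w2e
    rw [ZMod.intCast_eq_intCast_iff_dvd_sub] at this
    convert this using 1
    ring
  obtain ⟨u, hu⟩ := hcc
  rcases le_or_gt 0 u with hu0 | hu0
  · obtain ⟨t, rfl⟩ : ∃ t : ℕ, u = t := ⟨u.toNat, by omega⟩
    have := gen_shift x0 x1 x4 p q m hpq (d 0) (d 1) (d 4) (e 0) (e 1) (e 4) t hn hu hF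
    refine ⟨s ^ t, ?_⟩
    rw [hmd, hme, this, hG, smul_quot5, map_pow]
    ring
  · obtain ⟨t, ht⟩ : ∃ t : ℕ, -u = t := ⟨(-u).toNat, by omega⟩
    have hu' : ((e 1 : ℤ) - e 4) - ((d 1 : ℤ) - d 4) = (m : ℤ) * t := by
      rw [← ht]; linarith
    have := gen_shift x0 x1 x4 p q m hpq (e 0) (e 1) (e 4) (d 0) (d 1) (d 4) t hn.symm hu' hF
    rw [hG] at this
    have hst : s ^ t ≠ 0 := by
      intro h0
      apply hne
      rw [hme, this, (map_pow (algebraMap k (MvPolynomial (Fin 5) k ⧸ I)) s t).symm, h0,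
        RingHom.map_zero, mul_zero]
    refine ⟨(s ^ t)⁻¹, ?_⟩
    rw [hmd, hme, this, smul_quot5, (map_pow (algebraMap k (MvPolynomial (Fin 5) k ⧸ I)) s t).symm]
    have : (algebraMap k (MvPolynomial (Fin 5) k ⧸ I)) (s ^ t)⁻¹ *
        (x0 ^ d 0 * x1 ^ d 1 * x4 ^ d 4 * (algebraMap k (MvPolynomial (Fin 5) k ⧸ I)) (s ^ t)) =
        (algebraMap k (MvPolynomial (Fin 5) k ⧸ I) ((s ^ t)⁻¹ * s ^ t)) * (x0 ^ d 0 * x1 ^ d 1 * x4 ^ d 4) := by
      rw [map_mul]; ring
    rw [this, inv_mul_cancel₀ hst, RingHom.map_one, one_mul]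

end Groth.Agent.H78
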