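import Groth.Agent.H78.Rank27

set_option autoImplicit false

namespace Groth.Agent.H78

open MvPolynomial W4c2invhilbsl2

variable (k : Type*) [Field k] (p q m : ℕ)

theorem S15728_main (hpq : p < q) (hcop : Nat.Coprime p q) (hm : 0 < m) (s : k) (ν : ℤ × ZMod m) :
    Module.rank k (piece k (wt5 p q m) (idealJ k p q m s) ν) ≤ 1 := by
  apply rank_piece_le_one
  intro d e hd he hne
  set I := idealJ k p q m s with hI
  set x0 := Ideal.Quotient.mk I (X 0) with hx0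
  set x1 := Ideal.Quotient.mk I (X 1) with hx1
  set x2 := Ideal.Quotient.mk I (X 2) with hx2
  set x3 := Ideal.Quotient.mk I (X 3) with hx3
  set x4 := Ideal.Quotient.mk I (X 4) with hx4
  set g := Nat.gcd m (q - p) with hg
  set a := m / g with ha
  have h0 : x0 ^ g = 0 := by
    rw [hx0, ← map_pow]
    apply Ideal.Quotient.eq_zero_iff_mem.mpr
    apply Ideal.subset_span
    simp [hg]
  have h2 : x2 = 0 := by
    rw [hx2]
    apply Ideal.Quotient.eq_zero_iff_mem.mpr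
    apply Ideal.subset_span
    simp
  have h4 : x4 = 0 := by
    rw [hx4]
    apply Ideal.Quotient.eq_zero_iff_mem.mpr
    apply Ideal.subset_span
    simp
  have hG : x1 ^ (a * q) * x3 ^ (a * p) = algebraMap k _ s := by
    have : Ideal.Quotient.mk I (C s) = Ideal.Quotient.mk I (X 1 ^ (a * q) * X 3 ^ (a * p)) := by
      apply Ideal.Quotient.eq.mpr
      apply Ideal.subset_span
      simp [ha, hg]
    rw [hx1, hx3, ← map_pow, ← map_pow, ← map_mul, ← this]
    rfl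
  have hmd := mk_monomial5 k I d
  have hme := mk_monomial5 k I e
  rw [← hx0, ← hx1, ← hx2, ← hx3, ← hx4] at hmd hme
  have hx0pow : ∀ n, g ≤ n → x0 ^ n = 0 := by
    intro n hn
    obtain ⟨j, rfl⟩ : ∃ j, n = g + j := ⟨n - g, by omega⟩
    rw [pow_add, h0, zero_mul]
  have he2 : e 2 = 0 := by
    by_contra h
    apply hne
    rw [hme, h2, zero_pow h]; ring
  have he4 : e 4 = 0 := by
    by_contra h
    apply hne
    rw [hme, h4, zero_pow h]; ring
  have he0 : e 0 < g := by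
    by_contra h
    apply hne
    rw [hme, hx0pow (e 0) (by omega)]; ring
  by_cases hd2 : d 2 = 0
  swap
  · exact ⟨0, by rw [hmd, h2, zero_pow hd2]; simp⟩
  by_cases hd4 : d 4 = 0
  swap
  · exact ⟨0, by rw [hmd, h4, zero_pow hd4]; simp⟩
  by_cases hd0 : d 0 < g
  swap
  · exact ⟨0, by rw [hmd, hx0pow (d 0) (by omega)]; simp⟩
  rw [hd2, hd4, pow_zero, pow_zero, mul_one, mul_one] at hmd
  rw [he2, he4, pow_zero, pow_zero, mul_one, mul_one] at hme
  have w1d := wt5_weight_fst p q m d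
  have w1e := wt5_weight_fst p q m e
  have w2d := wt5_weight_snd p q m d
  have w2e := wt5_weight_snd p q m e
  rw [hd] at w1d w2d
  rw [he] at w1e w2e
  rw [hd2, hd4] at w1d w2d
  rw [he2, he4] at w1e w2e
  simp only [Nat.cast_zero, add_zero, zero_add] at w1d w1e w2d w2e
  have hn : (e 0 : ℤ) - (p : ℤ) * (e 1 : ℤ) + (q : ℤ) * (e 3 : ℤ) =
      (d 0 : ℤ) - (p : ℤ) * (d 1 : ℤ) + (q : ℤ) * (d 3 : ℤ) := by rw [← w1d, ← w1e]
  have hcc : (m : ℤ) ∣ ((d 1 : ℤ) - d 3) - ((e 1 : ℤ) - e 3) := by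
    have := w2d.symm.trans w2e
    rw [ZMod.intCast_eq_intCast_iff_dvd_sub] at this
    convert this using 1
    ring
  have hcc' : (m : ℤ) ∣ ((e 1 : ℤ) - e 3) - ((d 1 : ℤ) - d 3) := by
    obtain ⟨u, hu⟩ := hcc
    exact ⟨-u, by linarith⟩
  rcases le_total ((d 1 : ℤ) - d 3) ((e 1 : ℤ) - e 3) with hle | hle
  · obtain ⟨t, h0', h1', h3'⟩ := keyJ p q m hpq hcop hm (d 0) (d 1) (d 3) (e 0) (e 1) (e 3) hn hcc
      hd0 he0 hle
    have hrel : x0 ^ e 0 * x1 ^ e 1 * x3 ^ e 3 =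
        x0 ^ d 0 * x1 ^ d 1 * x3 ^ d 3 * (algebraMap k (MvPolynomial (Fin 5) k ⧸ I) s) ^ t := by
      rw [h0', h1', h3', ← hG]
      ring
    have hst : s ^ t ≠ 0 := by
      intro hz
      apply hne
      rw [hme, hrel, (map_pow (algebraMap k (MvPolynomial (Fin 5) k ⧸ I)) s t).symm, hz,
        RingHom.map_zero, mul_zero]
    refine ⟨(s ^ t)⁻¹, ?_⟩
    rw [hmd, hme, hrel, smul_quot5, (map_pow (algebraMap k (MvPolynomial (Fin 5) k ⧸ I)) s t).symm]
    have : (algebraMap k (MvPolynomial (Fin 5) k ⧸ I)) (s ^ t)⁻¹ *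
        (x0 ^ d 0 * x1 ^ d 1 * x3 ^ d 3 * (algebraMap k (MvPolynomial (Fin 5) k ⧸ I)) (s ^ t)) =
        (algebraMap k (MvPolynomial (Fin 5) k ⧸ I) ((s ^ t)⁻¹ * s ^ t)) * (x0 ^ d 0 * x1 ^ d 1 * x3 ^ d 3) := by
      rw [RingHom.map_mul]; ring
    rw [this, inv_mul_cancel₀ hst, RingHom.map_one, one_mul]
  · obtain ⟨t, h0', h1', h3'⟩ := keyJ p q m hpq hcop hm (e 0) (e 1) (e 3) (d 0) (d 1) (d 3) hn.symm
      hcc' he0 hd0 hle
    refine ⟨s ^ t, ?_⟩
    rw [hmd, hme, smul_quot5, RingHom.map_pow, ← hG, h0', h1', h3']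
    ring

end Groth.Agent.H78
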