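import Groth.Agent.H78.WH

set_option autoImplicit false

namespace Groth.Agent.H78

open MvPolynomial W4c2invhilbsl2

/-- abstract criterion: if all monomials of weight `ν` are proportional modulo `I`, the weight
piece of the quotient has rank at most one -/
lemma rank_piece_le_one {σ : Type*} {M : Type*} [AddCommMonoid M] (k : Type*) [Field k] (w : σ → M)
    (I : Ideal (MvPolynomial σ k)) (ν : M)
    (H : ∀ d e : σ →₀ ℕ, Finsupp.weight w d = ν → Finsupp.weight w e = ν →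
      Ideal.Quotient.mk I (monomial e 1) ≠ 0 →
      ∃ c : k, Ideal.Quotient.mk I (monomial d 1) = c • Ideal.Quotient.mk I (monomial e 1)) :
    Module.rank k (piece k w I ν) ≤ 1 := by
  rw [rank_submodule_le_one_iff']
  by_cases h : ∃ e : σ →₀ ℕ, Finsupp.weight w e = ν ∧ Ideal.Quotient.mk I (monomial e (1 : k)) ≠ 0
  · obtain ⟨e, he, hne⟩ := h
    refine ⟨Ideal.Quotient.mk I (monomial e 1), ?_⟩
    rintro x ⟨f, hf, rfl⟩
    have hf' : f.IsWeightedHomogeneous w ν := hf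
    refine IsWeightedHomogeneous.induction_on
      (motive := fun f _ => (Ideal.Quotient.mkₐ k I).toLinearMap f ∈
        Submodule.span k {Ideal.Quotient.mk I (monomial e (1 : k))}) ?_ ?_ ?_ hf'
    · simp
    · intro f g _ _ hf hg
      rw [map_add]; exact Submodule.add_mem _ hf hg
    · intro d r hd
      obtain ⟨c, hc⟩ := H d e hd he hne
      have : (Ideal.Quotient.mkₐ k I).toLinearMap (monomial d r) =
          (r * c) • Ideal.Quotient.mk I (monomial e (1 : k)) := by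
        have e1 : (monomial d r : MvPolynomial σ k) = r • monomial d (1 : k) := by
          rw [smul_monomial, smul_eq_mul, mul_one]
        rw [e1, map_smul, mul_smul, ← hc]
        rfl
      rw [this]
      exact Submodule.smul_mem _ _ (Submodule.mem_span_singleton_self _)
  · push Not at h
    refine ⟨0, ?_⟩
    rintro x ⟨f, hf, rfl⟩
    have hf' : f.IsWeightedHomogeneous w ν := hf
    refine IsWeightedHomogeneous.induction_on
      (motive := fun f _ => (Ideal.Quotient.mkₐ k I).toLinearMap f ∈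
        Submodule.span k {(0 : MvPolynomial σ k ⧸ I)}) ?_ ?_ ?_ hf'
    · simp
    · intro f g _ _ hf hg
      rw [map_add]; exact Submodule.add_mem _ hf hg
    · intro d r hd
      have e1 : (monomial d r : MvPolynomial σ k) = r • monomial d (1 : k) := by
        rw [smul_monomial, smul_eq_mul, mul_one]
      have : (Ideal.Quotient.mkₐ k I).toLinearMap (monomial d r) = 0 := by
        rw [e1, map_smul]
        have := h d hd
        change r • Ideal.Quotient.mk I (monomial d 1) = 0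
        rw [this, smul_zero]
      rw [this]
      exact Submodule.zero_mem _

section gen
variable {R : Type*} [CommRing R]

lemma gen_eq_aux (x0 x1 x2 : R) (p q : ℕ) (hpq : p < q) (d0 d1 d2 e0 e1 e2 : ℕ)
    (hn : (e0 : ℤ) - (p : ℤ) * e1 + (q : ℤ) * e2 = (d0 : ℤ) - (p : ℤ) * d1 + (q : ℤ) * d2)
    (hc : (d1 : ℤ) - d2 = (e1 : ℤ) - e2) (hle : d2 ≤ e2) (hF : x0 ^ (q - p) = x1 * x2) :
    x0 ^ d0 * x1 ^ d1 * x2 ^ d2 = x0 ^ e0 * x1 ^ e1 * x2 ^ e2 := by
  obtain ⟨j, rfl⟩ : ∃ j, e2 = d2 + j := ⟨e2 - d2, by omega⟩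
  have he1 : e1 = d1 + j := by push_cast at hc; omega
  subst he1
  have hd0 : d0 = e0 + (q - p) * j := by
    have hqp : ((q - p : ℕ) : ℤ) = (q : ℤ) - p := by omega
    have : (d0 : ℤ) = e0 + ((q - p : ℕ) : ℤ) * j := by
      rw [hqp]; push_cast at hn; linarith
    exact_mod_cast this
  subst hd0
  rw [pow_add, pow_mul, hF]
  ring

lemma gen_eq (x0 x1 x2 : R) (p q : ℕ) (hpq : p < q) (d0 d1 d2 e0 e1 e2 : ℕ)
    (hn : (e0 : ℤ) - (p : ℤ) * e1 + (q : ℤ) * e2 = (d0 : ℤ) - (p : ℤ) * d1 + (q : ℤ) * d2)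
    (hc : (d1 : ℤ) - d2 = (e1 : ℤ) - e2) (hF : x0 ^ (q - p) = x1 * x2) :
    x0 ^ d0 * x1 ^ d1 * x2 ^ d2 = x0 ^ e0 * x1 ^ e1 * x2 ^ e2 := by
  rcases le_total d2 e2 with h | h
  · exact gen_eq_aux x0 x1 x2 p q hpq d0 d1 d2 e0 e1 e2 hn hc h hF
  · exact (gen_eq_aux x0 x1 x2 p q hpq e0 e1 e2 d0 d1 d2 hn.symm hc.symm h hF).symm

lemma gen_shift (x0 x1 x2 : R) (p q m : ℕ) (hpq : p < q) (d0 d1 d2 e0 e1 e2 t : ℕ)
    (hn : (e0 : ℤ) - (p : ℤ) * e1 + (q : ℤ) * e2 = (d0 : ℤ) - (p : ℤ) * d1 + (q : ℤ) * d2)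
    (hc : ((d1 : ℤ) - d2) - ((e1 : ℤ) - e2) = (m : ℤ) * t) (hF : x0 ^ (q - p) = x1 * x2) :
    x0 ^ d0 * x1 ^ d1 * x2 ^ d2 = x0 ^ e0 * x1 ^ e1 * x2 ^ e2 * (x0 ^ (m * p) * x1 ^ m) ^ t := by
  have e : x0 ^ e0 * x1 ^ e1 * x2 ^ e2 * (x0 ^ (m * p) * x1 ^ m) ^ t =
      x0 ^ (e0 + m * p * t) * x1 ^ (e1 + m * t) * x2 ^ e2 := by ring
  rw [e]
  apply gen_eq x0 x1 x2 p q hpq _ _ _ _ _ _ _ _ hF
  · push_cast; linarith
  · push_cast; linarith

end gen

/-- arithmetic behind the ideals `J_s` -/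
lemma keyJ (p q m : ℕ) (hpq : p < q) (hcop : Nat.Coprime p q) (hm : 0 < m)
    (d0 d1 d2 e0 e1 e2 : ℕ)
    (hn : (e0 : ℤ) - (p : ℤ) * e1 + (q : ℤ) * e2 = (d0 : ℤ) - (p : ℤ) * d1 + (q : ℤ) * d2)
    (hcc : (m : ℤ) ∣ ((d1 : ℤ) - d2) - ((e1 : ℤ) - e2))
    (hd0 : d0 < Nat.gcd m (q - p)) (he0 : e0 < Nat.gcd m (q - p))
    (hle : (d1 : ℤ) - d2 ≤ (e1 : ℤ) - e2) :
    ∃ s : ℕ, e0 = d0 ∧ e1 = d1 + m / Nat.gcd m (q - p) * q * s ∧
      e2 = d2 + m / Nat.gcd m (q - p) * p * s := by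
  set g := Nat.gcd m (q - p) with hgdef
  set a := m / g with hadef
  set b := (q - p) / g with hbdef
  have hgpos : 0 < g := Nat.gcd_pos_of_pos_left _ hm
  have hma : m = g * a := (Nat.mul_div_cancel' (Nat.gcd_dvd_left m (q - p))).symm
  have hqb : q - p = g * b := (Nat.mul_div_cancel' (Nat.gcd_dvd_right m (q - p))).symm
  have hbpos : 0 < b := by
    rcases Nat.eq_zero_or_pos b with h | h
    · rw [h, mul_zero] at hqb; omega
    · exact h
  have hab : Nat.Coprime a b := Nat.coprime_div_gcd_div_gcd hgpos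
  have hQp : Nat.Coprime (q - p) p := by
    have : Nat.Coprime p (q - p) := by
      rw [Nat.Coprime, ← Nat.gcd_add_self_right, Nat.sub_add_cancel hpq.le]
      exact hcop
    exact this.symm
  have hbp : Nat.Coprime b p := Nat.Coprime.coprime_dvd_left ⟨g, by rw [hqb, mul_comm]⟩ hQp
  have hbpa : IsCoprime (b : ℤ) ((p : ℤ) * a) := by
    have : Nat.Coprime b (p * a) := Nat.Coprime.mul_right hbp hab.symm
    have := Nat.isCoprime_iff_coprime.mpr this
    simpa using this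
  have hqpZ : ((q - p : ℕ) : ℤ) = (q : ℤ) - p := by omega
  have hqbZ : (q : ℤ) - p = (g : ℤ) * b := by rw [← hqpZ, hqb]; push_cast; ring
  have hmaZ : (m : ℤ) = (g : ℤ) * a := by rw [hma]; push_cast; ring
  have hgZ : (0 : ℤ) < g := by exact_mod_cast hgpos
  have hbZ : (0 : ℤ) < b := by exact_mod_cast hbpos
  obtain ⟨u, hu⟩ := hcc
  have hdiff : (d0 : ℤ) - e0 = (g : ℤ) * ((p : ℤ) * a * u - b * ((d2 : ℤ) - e2)) := by
    have h1 : (d0 : ℤ) - e0 = (p : ℤ) * (((d1 : ℤ) - d2) - ((e1 : ℤ) - e2)) - ((q : ℤ) - p) * ((d2 : ℤ) - e2) := by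
      linarith
    rw [h1, hu, hqbZ, hmaZ]; ring
  have hz : (p : ℤ) * a * u - b * ((d2 : ℤ) - e2) = 0 := by
    have hdvd : (g : ℤ) ∣ (d0 : ℤ) - e0 := ⟨_, hdiff⟩
    have habs : |(d0 : ℤ) - e0| < g := by
      rw [abs_lt]; constructor <;> omega
    have h0 := Int.eq_zero_of_abs_lt_dvd hdvd habs
    rw [h0] at hdiff
    rcases mul_eq_zero.mp hdiff.symm with h | h
    · omega
    · exact h
  have hde : e0 = d0 := by
    have : (d0 : ℤ) - e0 = 0 := by rw [hdiff, hz, mul_zero]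
    omega
  have hbdvd : (b : ℤ) ∣ (-u) := by
    apply hbpa.dvd_of_dvd_mul_left
    refine ⟨(e2 : ℤ) - d2, ?_⟩
    linarith
  obtain ⟨s', hs'⟩ := hbdvd
  have hmZ : (0 : ℤ) < m := by exact_mod_cast hm
  have hs'0 : 0 ≤ s' := by
    by_contra h
    have h1 : s' ≤ -1 := by omega
    have h2 : (b : ℤ) * s' ≤ (b : ℤ) * (-1) := mul_le_mul_of_nonneg_left h1 hbZ.le
    have h3 : -u ≤ -1 := by linarith
    have h4 : (m : ℤ) * (-u) ≤ (m : ℤ) * (-1) := mul_le_mul_of_nonneg_left h3 hmZ.le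
    have : ((e1 : ℤ) - e2) - ((d1 : ℤ) - d2) = (m : ℤ) * (-u) := by rw [mul_neg, ← hu]; ring
    linarith
  obtain ⟨s, rfl⟩ : ∃ s : ℕ, s' = s := ⟨s'.toNat, by omega⟩
  have he2 : (e2 : ℤ) - d2 = (p : ℤ) * a * s := by
    have : (b : ℤ) * ((e2 : ℤ) - d2) = (b : ℤ) * ((p : ℤ) * a * s) := by
      have hu' : u = -((b : ℤ) * s) := by linarith
      rw [hu'] at hz
      linarith
    exact mul_left_cancel₀ (ne_of_gt hbZ) this
  have hcc : ((e1 : ℤ) - e2) - ((d1 : ℤ) - d2) = (m : ℤ) * b * s := by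
    have hu' : u = -((b : ℤ) * s) := by linarith
    have : ((e1 : ℤ) - e2) - ((d1 : ℤ) - d2) = -((m : ℤ) * u) := by rw [← hu]; ring
    rw [this, hu']; ring
  have he1 : (e1 : ℤ) - d1 = (a : ℤ) * q * s := by
    have : (e1 : ℤ) - d1 = (m : ℤ) * b * s + (p : ℤ) * a * s := by linarith
    rw [this, hmaZ]
    have : (q : ℤ) = (g : ℤ) * b + p := by linarith
    rw [this]; ring
  refine ⟨s, hde, ?_, ?_⟩
  · have : (e1 : ℤ) = ((d1 + a * q * s : ℕ) : ℤ) := by push_cast; linarith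
    exact_mod_cast this
  · have : (e2 : ℤ) = ((d2 + a * p * s : ℕ) : ℤ) := by push_cast; linarith
    exact_mod_cast this

lemma wt5_weight_snd (p q m : ℕ) (d : Fin 5 →₀ ℕ) :
    (Finsupp.weight (wt5 p q m) d).2 =
      (((d 3 : ℤ) + d 4 - ((d 1 : ℤ) + d 2) : ℤ) : ZMod m) := by
  rw [Finsupp.weight_eq_sum, Fin.sum_univ_five]
  simp [wt5]
  ring

end Groth.Agent.H78
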