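import Groth.Prelude.Def_W4c2invhilbsl2
import Mathlib.Tactic

set_option autoImplicit false

namespace Groth.Agent.H78

open MvPolynomial W4c2invhilbsl2

section split
variable {σ : Type*} {M : Type*} [AddCommMonoid M] {k : Type*} [CommSemiring k]

lemma split_exp (d : σ →₀ ℕ) (i : σ) (n : ℕ) (h : n ≤ d i) :
    d - Finsupp.single i n + Finsupp.single i n = d := by
  classical
  apply tsub_add_cancel_of_le
  intro j
  by_cases hj : i = j
  · subst hj; simpa using h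
  · simp [Finsupp.single_apply, hj]

lemma split_monomial (d : σ →₀ ℕ) (i : σ) (n : ℕ) (h : n ≤ d i) (c : k) :
    monomial d c = monomial (d - Finsupp.single i n) c * X i ^ n := by
  rw [← monomial_add_single, split_exp d i n h]

lemma split_weight (w : σ → M) (d : σ →₀ ℕ) (i : σ) (n : ℕ) (h : n ≤ d i) :
    Finsupp.weight w d = Finsupp.weight w (d - Finsupp.single i n) + n • w i := by
  conv_lhs => rw [← split_exp d i n h]
  rw [map_add, Finsupp.weight_single]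

end split

variable (p q m : ℕ)

lemma wt5_weight_fst (d : Fin 5 →₀ ℕ) :
    (Finsupp.weight (wt5 p q m) d).1 =
      (d 0 : ℤ) - (p : ℤ) * ((d 1 : ℤ) + d 2) + (q : ℤ) * ((d 3 : ℤ) + d 4) := by
  rw [Finsupp.weight_eq_sum, Fin.sum_univ_five]
  simp [wt5, Prod.fst_add]
  ring

lemma wt3_weight_fst (d : Fin 3 →₀ ℕ) :
    (Finsupp.weight (wt3 p q m) d).1 = (d 0 : ℤ) - (p : ℤ) * (d 1 : ℤ) + (q : ℤ) * (d 2 : ℤ) := by
  rw [Finsupp.weight_eq_sum, Fin.sum_univ_three]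
  simp [wt3, Prod.fst_add]
  ring

lemma wt3_weight_snd (d : Fin 3 →₀ ℕ) :
    (Finsupp.weight (wt3 p q m) d).2 = ((d 2 : ℕ) : ZMod m) - ((d 1 : ℕ) : ZMod m) := by
  rw [Finsupp.weight_eq_sum, Fin.sum_univ_three]
  simp [wt3, Prod.snd_add]
  ring

lemma wt5_zero : wt5 p q m 0 = ((1 : ℤ), (0 : ZMod m)) := rfl
lemma wt5_one : wt5 p q m 1 = (-(p : ℤ), (-1 : ZMod m)) := rfl
lemma wt5_two : wt5 p q m 2 = (-(p : ℤ), (-1 : ZMod m)) := rfl
lemma wt5_three : wt5 p q m 3 = ((q : ℤ), (1 : ZMod m)) := rfl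
lemma wt5_four : wt5 p q m 4 = ((q : ℤ), (1 : ZMod m)) := rfl
lemma wt3_zero : wt3 p q m 0 = ((1 : ℤ), (0 : ZMod m)) := rfl
lemma wt3_one : wt3 p q m 1 = (-(p : ℤ), (-1 : ZMod m)) := rfl
lemma wt3_two : wt3 p q m 2 = ((q : ℤ), (1 : ZMod m)) := rfl

end Groth.Agent.H78
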