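import Groth.Agent.H78.HJCore
import Groth.Agent.H78.WH

set_option autoImplicit false

namespace Groth.Agent.H78

open MvPolynomial W4c2invhilbsl2

variable (k : Type*) [Field k]

section
variable (p q m : ℕ) (hp : 0 < p) (hpq : p < q) (hcop : Nat.Coprime p q) (hm : 0 < m)
  (hnt : ¬ (q - p ∣ m)) (c : List ℤ) (hc : IsHJDigits p q m c)

lemma smul_wt_one (n : ℕ) :
    n • ((-(p : ℤ), (-1 : ZMod m)) : ℤ × ZMod m) = (-(p : ℤ) * n, -((n : ℕ) : ZMod m)) := by
  ext <;> simp
  ring

lemma smul_wt_two (n : ℕ) :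
    n • (((q : ℤ), (1 : ZMod m)) : ℤ × ZMod m) = ((q : ℤ) * n, ((n : ℕ) : ZMod m)) := by
  ext <;> simp
  ring

include hp hpq hcop hm hnt hc

/-- weight of `X₁^eᵢ X₂^lᵢ` part -/
lemma wt_EL (i : ℕ) (hi : i ≤ c.length + 1) :
    ((-(p : ℤ) * ((eE p q m c i).toNat : ℤ), -(((eE p q m c i).toNat : ℕ) : ZMod m)) : ℤ × ZMod m) +
      ((q : ℤ) * ((lL p q m c i).toNat : ℤ), (((lL p q m c i).toNat : ℕ) : ZMod m)) =
      (nN p q m c i, (0 : ZMod m)) := by
  have hE := eE_nonneg p q m hp hpq hcop hm hnt c hc i hi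
  have hL := lL_nonneg p q m hp hpq hcop hm hnt c hc i hi
  have hE' : ((eE p q m c i).toNat : ℤ) = eE p q m c i := Int.toNat_of_nonneg hE
  have hL' : ((lL p q m c i).toNat : ℤ) = lL p q m c i := Int.toNat_of_nonneg hL
  ext
  · simp only [Prod.fst_add]
    rw [hE', hL']
    unfold nN; ring
  · simp only [Prod.snd_add]
    have h1 : (((eE p q m c i).toNat : ℕ) : ZMod m) = ((eE p q m c i : ℤ) : ZMod m) := by
      rw [← hE']; simp
    have h2 : (((lL p q m c i).toNat : ℕ) : ZMod m) = ((lL p q m c i : ℤ) : ZMod m) := by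
      rw [← hL']; simp
    rw [h1, h2]
    have := eE_sub_lL p q m c i
    have h3 : ((eE p q m c i : ℤ) : ZMod m) - ((lL p q m c i : ℤ) : ZMod m) = 0 := by
      rw [← Int.cast_sub, this]; simp
    linear_combination (-1 : ZMod m) * h3

theorem S15729_main (i : ℕ) (hi : 1 ≤ i) (hir : i ≤ c.length)
    (f : MvPolynomial (Fin 3) k)
    (hf : f ∈ weightedHomogeneousSubmodule k (wt3 p q m) (nN p q m c i, (0 : ZMod m))) :
    ∃ a b : MvPolynomial (Fin 3) k, a ∈ weightedHomogeneousSubmodule k (wt3 p q m) 0 ∧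
      b ∈ weightedHomogeneousSubmodule k (wt3 p q m) 0 ∧
      f = a * X (0 : Fin 3) ^ (nN p q m c i).toNat +
        b * (X (1 : Fin 3) ^ (eE p q m c i).toNat * X (2 : Fin 3) ^ (lL p q m c i).toNat) := by
  rw [mem_weightedHomogeneousSubmodule] at hf
  have hN := nN_nonneg p q m hp hpq hcop hm hnt c hc i (by omega)
  have hE := eE_nonneg p q m hp hpq hcop hm hnt c hc i (by omega)
  have hL := lL_nonneg p q m hp hpq hcop hm hnt c hc i (by omega)
  have hN' : ((nN p q m c i).toNat : ℤ) = nN p q m c i := Int.toNat_of_nonneg hN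
  have hE' : ((eE p q m c i).toNat : ℤ) = eE p q m c i := Int.toNat_of_nonneg hE
  have hL' : ((lL p q m c i).toNat : ℤ) = lL p q m c i := Int.toNat_of_nonneg hL
  refine IsWeightedHomogeneous.induction_on
    (motive := fun f _ => ∃ a b : MvPolynomial (Fin 3) k,
      a ∈ weightedHomogeneousSubmodule k (wt3 p q m) 0 ∧
      b ∈ weightedHomogeneousSubmodule k (wt3 p q m) 0 ∧
      f = a * X (0 : Fin 3) ^ (nN p q m c i).toNat +
        b * (X (1 : Fin 3) ^ (eE p q m c i).toNat * X (2 : Fin 3) ^ (lL p q m c i).toNat)) ?_ ?_ ?_ hf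
  · exact ⟨0, 0, Submodule.zero_mem _, Submodule.zero_mem _, by simp⟩
  · rintro f g _ _ ⟨a, b, ha, hb, rfl⟩ ⟨a', b', ha', hb', rfl⟩
    exact ⟨a + a', b + b', Submodule.add_mem _ ha ha', Submodule.add_mem _ hb hb', by ring⟩
  · intro d r hd
    have h1 := wt3_weight_fst p q m d
    have h2 := wt3_weight_snd p q m d
    rw [hd] at h1 h2
    simp only at h1 h2
    have hmod : (m : ℤ) ∣ (d 2 : ℤ) - (d 1 : ℤ) := by
      have : (((d 2 : ℤ) - (d 1 : ℤ) : ℤ) : ZMod m) = 0 := by
        push_cast; exact h2.symm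
      exact (ZMod.intCast_zmod_eq_zero_iff_dvd _ _).mp this
    rcases core_dichotomy p q m hp hpq hcop hm hnt c hc i hi hir (d 0) (d 1) (d 2) h1.symm hmod with
      h | ⟨hu, hv⟩
    · have h0 : (nN p q m c i).toNat ≤ d 0 := by
        have : ((nN p q m c i).toNat : ℤ) ≤ d 0 := by rw [hN']; exact h
        exact_mod_cast this
      refine ⟨monomial (d - Finsupp.single 0 (nN p q m c i).toNat) r, 0, ?_, Submodule.zero_mem _, ?_⟩
      · rw [mem_weightedHomogeneousSubmodule]
        apply isWeightedHomogeneous_monomial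
        have := split_weight (wt3 p q m) d 0 (nN p q m c i).toNat h0
        rw [hd, wt3_zero] at this
        have e : (nN p q m c i).toNat • (((1 : ℤ), (0 : ZMod m)) : ℤ × ZMod m) =
            (nN p q m c i, (0 : ZMod m)) := by
          ext <;> simp [hN']
        rw [e] at this
        exact (add_eq_right.mp this.symm)
      · rw [zero_mul, add_zero]
        exact split_monomial d 0 _ h0 r
    · have hu' : (eE p q m c i).toNat ≤ d 1 := by
        have : ((eE p q m c i).toNat : ℤ) ≤ d 1 := by rw [hE']; exact hu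
        exact_mod_cast this
      have hv' : (lL p q m c i).toNat ≤ d 2 := by
        have : ((lL p q m c i).toNat : ℤ) ≤ d 2 := by rw [hL']; exact hv
        exact_mod_cast this
      set d' := d - Finsupp.single 1 (eE p q m c i).toNat with hd'
      have hv'' : (lL p q m c i).toNat ≤ d' 2 := by
        rw [hd', Finsupp.coe_tsub, Pi.sub_apply, Finsupp.single_apply, if_neg (by decide)]
        exact hv'
      refine ⟨0, monomial (d' - Finsupp.single 2 (lL p q m c i).toNat) r, Submodule.zero_mem _, ?_, ?_⟩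
      · rw [mem_weightedHomogeneousSubmodule]
        apply isWeightedHomogeneous_monomial
        have e1 := split_weight (wt3 p q m) d 1 _ hu'
        have e2 := split_weight (wt3 p q m) d' 2 _ hv''
        rw [← hd', e2, hd, wt3_one, wt3_two, smul_wt_one, smul_wt_two, add_assoc,
          add_comm ((q : ℤ) * _, _), wt_EL p q m hp hpq hcop hm hnt c hc i (by omega)] at e1
        exact (add_eq_right.mp e1.symm)
      · rw [zero_mul, zero_add, split_monomial d 1 _ hu' r, ← hd', split_monomial d' 2 _ hv'' r]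
        ring

end

end Groth.Agent.H78
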