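import Groth.Agent.H78.HJKey
import Groth.Agent.H78.RankOne
import Groth.Agent.H78.W3HJ

set_option autoImplicit false

namespace Groth.Agent.H78

open MvPolynomial W4c2invhilbsl2

variable (k : Type*) [Field k]

lemma mk_monomial3 (I : Ideal (MvPolynomial (Fin 3) k)) (d : Fin 3 →₀ ℕ) :
    Ideal.Quotient.mk I (monomial d (1 : k)) =
      Ideal.Quotient.mk I (X 0) ^ d 0 * Ideal.Quotient.mk I (X 1) ^ d 1 *
        Ideal.Quotient.mk I (X 2) ^ d 2 := by
  rw [monomial_eq, Finsupp.prod_fintype _ _ (fun i => by simp), Fin.prod_univ_three]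
  simp only [map_one, one_mul, map_mul, map_pow]

lemma smul_quot3 (I : Ideal (MvPolynomial (Fin 3) k)) (c : k) (x : MvPolynomial (Fin 3) k ⧸ I) :
    c • x = algebraMap k (MvPolynomial (Fin 3) k ⧸ I) c * x := Algebra.smul_def c x

section
variable (p q m : ℕ) (hp : 0 < p) (hpq : p < q) (hcop : Nat.Coprime p q) (hm : 0 < m)
  (hnt : ¬ (q - p ∣ m)) (c : List ℤ) (hc : IsHJDigits p q m c)

/-- weight-zero monomials vanish modulo any ideal containing `idealK` -/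
lemma wt0_mono_zero (I : Ideal (MvPolynomial (Fin 3) k)) (hI : idealK k p q m ≤ I) (a u v : ℕ)
    (hne : ¬ (a = 0 ∧ u = 0 ∧ v = 0))
    (hw : (a : ℤ) - (p : ℤ) * u + (q : ℤ) * v = 0) (hmod : (m : ℤ) ∣ (v : ℤ) - u) :
    Ideal.Quotient.mk I (X 0) ^ a * Ideal.Quotient.mk I (X 1) ^ u *
        Ideal.Quotient.mk I (X 2) ^ v = 0 := by
  classical
  set d : Fin 3 →₀ ℕ := Finsupp.single 0 a + Finsupp.single 1 u + Finsupp.single 2 v with hd
  have hd0 : d 0 = a := by simp [hd]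
  have hd1 : d 1 = u := by simp [hd]
  have hd2 : d 2 = v := by simp [hd]
  have hmem : monomial d (1 : k) ∈ idealK k p q m := by
    apply Ideal.subset_span
    refine ⟨d, ?_, ?_, rfl⟩
    · intro h0
      apply hne
      have e0 : d 0 = 0 := by rw [h0]; rfl
      have e1 : d 1 = 0 := by rw [h0]; rfl
      have e2 : d 2 = 0 := by rw [h0]; rfl
      exact ⟨by rw [← hd0, e0], by rw [← hd1, e1], by rw [← hd2, e2]⟩
    · ext
      · rw [wt3_weight_fst, hd0, hd1, hd2]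
        exact hw
      · rw [wt3_weight_snd, hd1, hd2]
        have : (((v : ℤ) - u : ℤ) : ZMod m) = 0 :=
          (ZMod.intCast_zmod_eq_zero_iff_dvd _ m).mpr hmod
        push_cast at this
        exact this
  have := Ideal.Quotient.eq_zero_iff_mem.mpr (hI hmem)
  rw [mk_monomial3, hd0, hd1, hd2] at this
  exact this

include hp hpq hcop hm hnt hc

theorem rank_idealL_le_one (i : ℕ) (hi : 1 ≤ i) (hir : i ≤ c.length) (s : k) (ν : ℤ × ZMod m) :
    Module.rank k (piece k (wt3 p q m) (idealL k p q m c i s) ν) ≤ 1 := by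
  apply rank_piece_le_one
  intro d e hd he hne
  set I := idealL k p q m c i s with hI
  have hKI : idealK k p q m ≤ I := le_sup_right
  set x0 := Ideal.Quotient.mk I (X 0) with hx0
  set x1 := Ideal.Quotient.mk I (X 1) with hx1
  set x2 := Ideal.Quotient.mk I (X 2) with hx2
  have hNm := nN_nonneg p q m hp hpq hcop hm hnt c hc (i - 1) (by omega)
  have hN := nN_nonneg p q m hp hpq hcop hm hnt c hc i (by omega)
  have hE := eE_nonneg p q m hp hpq hcop hm hnt c hc i (by omega)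
  have hL := lL_nonneg p q m hp hpq hcop hm hnt c hc i (by omega)
  have hNm' : ((nN p q m c (i - 1)).toNat : ℤ) = nN p q m c (i - 1) := Int.toNat_of_nonneg hNm
  have hN' : ((nN p q m c i).toNat : ℤ) = nN p q m c i := Int.toNat_of_nonneg hN
  have hE' : ((eE p q m c i).toNat : ℤ) = eE p q m c i := Int.toNat_of_nonneg hE
  have hL' : ((lL p q m c i).toNat : ℤ) = lL p q m c i := Int.toNat_of_nonneg hL
  set Nm := (nN p q m c (i - 1)).toNat with hNmdef
  set N := (nN p q m c i).toNat with hNdef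
  set E := (eE p q m c i).toNat with hEdef
  set L := (lL p q m c i).toNat with hLdef
  have hQ : (0 : ℤ) < (q : ℤ) - p := by omega
  have hp' : (0 : ℤ) < p := by exact_mod_cast hp
  -- N > 0
  have hNpos : 0 < N := by
    have h1 : (1 : ℤ) ≤ hjR c (bB p q m) (tT p q m) i :=
      hjT_pos p q m hp hpq hcop hm hnt c hc i hir
    have h2 := nN_eq_hjR p q m hpq c i
    have hg := gcdK_pos p q m hpq
    have hgZ : (0 : ℤ) < (gcdK p q m : ℤ) := by exact_mod_cast hg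
    have : (0 : ℤ) < nN p q m c i := by rw [h2]; exact mul_pos hgZ (by linarith)
    have : (0 : ℤ) < (N : ℤ) := by rw [hN']; exact this
    exact_mod_cast this
  -- Nm ≤ q - p
  have hNmle : (Nm : ℤ) ≤ (q : ℤ) - p := by
    rw [hNm']
    rcases Nat.eq_or_lt_of_le hi with h | h
    · have : i - 1 = 0 := by omega
      rw [this]
      have : nN p q m c 0 = (q : ℤ) - p := by
        unfold nN eE lL
        simp [hjP, hjQ]
        ring
      rw [this]
    · exact (nN_lt_qp p q m hp hpq hcop hm hnt c hc (i - 1) (by omega) (by omega)).le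
  -- weight of X1^E X2^L is (N, 0)
  have hwEL : (q : ℤ) * L - (p : ℤ) * E = N := by
    rw [hE', hL', hN']; unfold nN; ring
  have hmodEL : (m : ℤ) ∣ (L : ℤ) - E := by
    rw [hE', hL']
    have := eE_sub_lL p q m c i
    exact ⟨-hjP c i, by linarith⟩
  -- relations
  have h0 : x0 ^ Nm = 0 := by
    rw [hx0, ← map_pow]
    apply Ideal.Quotient.eq_zero_iff_mem.mpr
    apply Ideal.mem_sup_left
    apply Ideal.subset_span
    exact Set.mem_insert _ _
  have hx0pow : ∀ n, Nm ≤ n → x0 ^ n = 0 := by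
    intro n hn
    obtain ⟨j, rfl⟩ : ∃ j, n = Nm + j := ⟨n - Nm, by omega⟩
    rw [pow_add, h0, zero_mul]
  have hs : x1 ^ E * x2 ^ L = algebraMap k _ s * x0 ^ N := by
    have : Ideal.Quotient.mk I (C s * X 0 ^ N) = Ideal.Quotient.mk I (X 1 ^ E * X 2 ^ L) := by
      apply Ideal.Quotient.eq.mpr
      apply Ideal.mem_sup_left
      apply Ideal.subset_span
      exact Set.mem_insert_of_mem _ (Set.mem_singleton _)
    rw [hx1, hx2, hx0, ← map_pow, ← map_pow, ← map_pow, ← map_mul, ← this, map_mul]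
    rfl
  have hK : ∀ a u v : ℕ, ¬ (a = 0 ∧ u = 0 ∧ v = 0) →
      (a : ℤ) - (p : ℤ) * u + (q : ℤ) * v = 0 → (m : ℤ) ∣ (v : ℤ) - u →
      x0 ^ a * x1 ^ u * x2 ^ v = 0 := fun a u v => wt0_mono_zero k p q m I hKI a u v
  -- Lemma B1
  have B1 : ∀ n : ℕ, ∀ u v : ℕ, (m : ℤ) ∣ (v : ℤ) - u → (q : ℤ) * v - (p : ℤ) * u = n → n < Nm →
      ∃ c' : k, x1 ^ u * x2 ^ v = algebraMap k _ c' * x0 ^ n := by
    intro n
    induction n using Nat.strong_induction_on with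
    | _ n ih =>
      intro u v hmod hw hlt
      rcases Nat.eq_zero_or_pos n with hn0 | hnpos
      · subst hn0
        by_cases huv : u = 0 ∧ v = 0
        · refine ⟨1, ?_⟩
          rw [huv.1, huv.2]; simp
        · refine ⟨0, ?_⟩
          have := hK 0 u v (by tauto) (by push_cast at hw ⊢; linarith) hmod
          rw [pow_zero, one_mul] at this
          rw [this]; simp
      · have hkey := key_lemma p q m hp hpq hcop hm hnt c hc i hi hir u v hmod
          (by rw [hw]; exact_mod_cast hnpos) (by rw [hw, ← hNm']; exact_mod_cast hlt)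
        obtain ⟨hEu, hLv⟩ := hkey
        have hEu' : E ≤ u := by
          have : (E : ℤ) ≤ u := by rw [hE']; exact hEu
          exact_mod_cast this
        have hLv' : L ≤ v := by
          have : (L : ℤ) ≤ v := by rw [hL']; exact hLv
          exact_mod_cast this
        obtain ⟨u₁, rfl⟩ : ∃ u₁, u = u₁ + E := ⟨u - E, by omega⟩
        obtain ⟨v₁, rfl⟩ : ∃ v₁, v = v₁ + L := ⟨v - L, by omega⟩
        have hmod1 : (m : ℤ) ∣ (v₁ : ℤ) - u₁ := by
          have e : (v₁ : ℤ) - u₁ = (((v₁ + L : ℕ) : ℤ) - ((u₁ + E : ℕ) : ℤ)) - ((L : ℤ) - E) := by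
            push_cast; ring
          rw [e]
          exact dvd_sub hmod hmodEL
        have hw1 : (q : ℤ) * v₁ - (p : ℤ) * u₁ = (n : ℤ) - N := by
          push_cast at hw
          linarith
        have hsplit : x1 ^ (u₁ + E) * x2 ^ (v₁ + L) =
            algebraMap k _ s * (x0 ^ N * x1 ^ u₁ * x2 ^ v₁) := by
          rw [pow_add, pow_add]
          calc x1 ^ u₁ * x1 ^ E * (x2 ^ v₁ * x2 ^ L) = (x1 ^ E * x2 ^ L) * (x1 ^ u₁ * x2 ^ v₁) := by ring
            _ = algebraMap k _ s * (x0 ^ N * x1 ^ u₁ * x2 ^ v₁) := by rw [hs]; ring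
        rcases lt_or_ge n N with hnN | hnN
        · -- x0^N x1^u₁ x2^v₁ = x0^n * (weight-zero monomial)
          refine ⟨0, ?_⟩
          obtain ⟨j, hj⟩ : ∃ j, N = n + j := ⟨N - n, by omega⟩
          have hz := hK j u₁ v₁ (by omega) (by rw [hj] at hw1; push_cast at hw1 ⊢; linarith) hmod1
          rw [hsplit]
          have : x0 ^ N * x1 ^ u₁ * x2 ^ v₁ = x0 ^ n * (x0 ^ j * x1 ^ u₁ * x2 ^ v₁) := by
            rw [hj, pow_add]; ring
          rw [this, hz]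
          simp
        · obtain ⟨n₁, rfl⟩ : ∃ n₁, n = n₁ + N := ⟨n - N, by omega⟩
          obtain ⟨c', hc'⟩ := ih n₁ (by omega) u₁ v₁ hmod1 (by push_cast at hw1 ⊢; linarith) (by omega)
          refine ⟨s * c', ?_⟩
          rw [hsplit, map_mul]
          have : x0 ^ N * x1 ^ u₁ * x2 ^ v₁ = x0 ^ N * (x1 ^ u₁ * x2 ^ v₁) := by ring
          rw [this, hc', pow_add]
          ring
  -- now the case analysis
  have hmd := mk_monomial3 k I d
  have hme := mk_monomial3 k I e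
  rw [← hx0, ← hx1, ← hx2] at hmd hme
  have w1d := wt3_weight_fst p q m d
  have w1e := wt3_weight_fst p q m e
  have w2d := wt3_weight_snd p q m d
  have w2e := wt3_weight_snd p q m e
  rw [hd] at w1d w2d
  rw [he] at w1e w2e
  -- first components agree
  have hw1 : (d 0 : ℤ) - (p : ℤ) * d 1 + (q : ℤ) * d 2 = (e 0 : ℤ) - (p : ℤ) * e 1 + (q : ℤ) * e 2 := by
    rw [← w1d, ← w1e]
  have hw2 : (m : ℤ) ∣ ((d 2 : ℤ) - d 1) - ((e 2 : ℤ) - e 1) := by
    have h := w2d.symm.trans w2e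
    have : ((((d 2 : ℤ) - d 1) - ((e 2 : ℤ) - e 1) : ℤ) : ZMod m) = 0 := by
      push_cast
      linear_combination h
    exact (ZMod.intCast_zmod_eq_zero_iff_dvd _ m).mp this
  have he0 : e 0 < Nm := by
    by_contra h
    apply hne
    rw [hme, hx0pow (e 0) (by omega)]; ring
  have hne' : x0 ^ e 0 * x1 ^ e 1 * x2 ^ e 2 ≠ 0 := by rw [← hme]; exact hne
  simp only [smul_quot3]
  rw [hmd, hme]
  -- Case A
  have caseA : e 1 ≤ d 1 → e 2 ≤ d 2 → ∃ c' : k, x0 ^ d 0 * x1 ^ d 1 * x2 ^ d 2 =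
      algebraMap k _ c' * (x0 ^ e 0 * x1 ^ e 1 * x2 ^ e 2) := by
    intro h1 h2
    obtain ⟨δ₁, hδ₁⟩ : ∃ δ₁, d 1 = e 1 + δ₁ := ⟨d 1 - e 1, by omega⟩
    obtain ⟨δ₂, hδ₂⟩ : ∃ δ₂, d 2 = e 2 + δ₂ := ⟨d 2 - e 2, by omega⟩
    have hmodδ : (m : ℤ) ∣ (δ₂ : ℤ) - δ₁ := by
      have e' : (δ₂ : ℤ) - δ₁ = ((d 2 : ℤ) - d 1) - ((e 2 : ℤ) - e 1) := by
        rw [hδ₁, hδ₂]; push_cast; ring
      rw [e']; exact hw2
    rw [hδ₁, hδ₂] at hw1 ⊢
    push_cast at hw1
    rcases le_or_gt (e 0) (d 0) with h0' | h0'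
    · by_cases hz : d 0 = e 0 ∧ δ₁ = 0 ∧ δ₂ = 0
      · refine ⟨1, ?_⟩
        rw [hz.1, hz.2.1, hz.2.2]; simp
      · refine ⟨0, ?_⟩
        obtain ⟨j, hj⟩ : ∃ j, d 0 = e 0 + j := ⟨d 0 - e 0, by omega⟩
        have hz' := hK j δ₁ δ₂ (by omega) (by rw [hj] at hw1; push_cast at hw1; linarith) hmodδ
        rw [hj, pow_add, pow_add, pow_add]
        have : x0 ^ e 0 * x0 ^ j * (x1 ^ e 1 * x1 ^ δ₁) * (x2 ^ e 2 * x2 ^ δ₂) =
            (x0 ^ e 0 * x1 ^ e 1 * x2 ^ e 2) * (x0 ^ j * x1 ^ δ₁ * x2 ^ δ₂) := by ring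
        rw [this, hz']; simp
    · obtain ⟨n, hn⟩ : ∃ n, e 0 = d 0 + n := ⟨e 0 - d 0, by omega⟩
      obtain ⟨c', hc'⟩ := B1 n δ₁ δ₂ hmodδ (by rw [hn] at hw1; push_cast at hw1; linarith) (by omega)
      refine ⟨c', ?_⟩
      rw [hn, pow_add, pow_add, pow_add]
      calc x0 ^ d 0 * (x1 ^ e 1 * x1 ^ δ₁) * (x2 ^ e 2 * x2 ^ δ₂)
          = x0 ^ d 0 * x1 ^ e 1 * x2 ^ e 2 * (x1 ^ δ₁ * x2 ^ δ₂) := by ring
        _ = _ := by rw [hc']; ring
  -- Case B
  have caseB : d 1 ≤ e 1 → d 2 ≤ e 2 → ∃ c' : k, x0 ^ d 0 * x1 ^ d 1 * x2 ^ d 2 =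
      algebraMap k _ c' * (x0 ^ e 0 * x1 ^ e 1 * x2 ^ e 2) := by
    intro h1 h2
    obtain ⟨δ₁, hδ₁⟩ : ∃ δ₁, e 1 = d 1 + δ₁ := ⟨e 1 - d 1, by omega⟩
    obtain ⟨δ₂, hδ₂⟩ : ∃ δ₂, e 2 = d 2 + δ₂ := ⟨e 2 - d 2, by omega⟩
    have hmodδ : (m : ℤ) ∣ (δ₂ : ℤ) - δ₁ := by
      have e' : (δ₂ : ℤ) - δ₁ = -(((d 2 : ℤ) - d 1) - ((e 2 : ℤ) - e 1)) := by
        rw [hδ₁, hδ₂]; push_cast; ring
      rw [e']; exact (dvd_neg).mpr hw2
    rw [hδ₁, hδ₂] at hw1 hne' ⊢
    push_cast at hw1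
    rcases le_or_gt (d 0) (e 0) with h0' | h0'
    · by_cases hz : e 0 = d 0 ∧ δ₁ = 0 ∧ δ₂ = 0
      · refine ⟨1, ?_⟩
        rw [hz.1, hz.2.1, hz.2.2]; simp
      · exfalso
        apply hne'
        obtain ⟨j, hj⟩ : ∃ j, e 0 = d 0 + j := ⟨e 0 - d 0, by omega⟩
        have hz' := hK j δ₁ δ₂ (by omega) (by rw [hj] at hw1; push_cast at hw1; linarith) hmodδ
        rw [hj, pow_add, pow_add, pow_add]
        have : x0 ^ d 0 * x0 ^ j * (x1 ^ d 1 * x1 ^ δ₁) * (x2 ^ d 2 * x2 ^ δ₂) =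
            (x0 ^ d 0 * x1 ^ d 1 * x2 ^ d 2) * (x0 ^ j * x1 ^ δ₁ * x2 ^ δ₂) := by ring
        rw [this, hz']; simp
    · obtain ⟨n, hn⟩ : ∃ n, d 0 = e 0 + n := ⟨d 0 - e 0, by omega⟩
      rcases le_or_gt Nm n with hbig | hsmall
      · refine ⟨0, ?_⟩
        rw [hx0pow (d 0) (by omega)]; simp
      · obtain ⟨c', hc'⟩ := B1 n δ₁ δ₂ hmodδ (by rw [hn] at hw1; push_cast at hw1; linarith) hsmall
        have hrel : x0 ^ e 0 * x1 ^ (d 1 + δ₁) * x2 ^ (d 2 + δ₂) =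
            algebraMap k _ c' * (x0 ^ d 0 * x1 ^ d 1 * x2 ^ d 2) := by
          rw [hn, pow_add, pow_add, pow_add]
          calc x0 ^ e 0 * (x1 ^ d 1 * x1 ^ δ₁) * (x2 ^ d 2 * x2 ^ δ₂)
              = x0 ^ e 0 * x1 ^ d 1 * x2 ^ d 2 * (x1 ^ δ₁ * x2 ^ δ₂) := by ring
            _ = _ := by rw [hc']; ring
        have hc0 : c' ≠ 0 := by
          intro h
          apply hne'
          rw [hrel, h]; simp
        refine ⟨c'⁻¹, ?_⟩
        rw [hrel, ← mul_assoc, ← RingHom.map_mul, inv_mul_cancel₀ hc0, RingHom.map_one, one_mul]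
  -- Case C
  have caseC : e 1 < d 1 → d 2 < e 2 → ∃ c' : k, x0 ^ d 0 * x1 ^ d 1 * x2 ^ d 2 =
      algebraMap k _ c' * (x0 ^ e 0 * x1 ^ e 1 * x2 ^ e 2) := by
    intro h1 h2
    refine ⟨0, ?_⟩
    have : (Nm : ℤ) ≤ d 0 := by
      have a1 : (1 : ℤ) ≤ (d 1 : ℤ) - e 1 := by omega
      have a2 : (1 : ℤ) ≤ (e 2 : ℤ) - d 2 := by omega
      have b1 : (p : ℤ) * 1 ≤ (p : ℤ) * ((d 1 : ℤ) - e 1) := mul_le_mul_of_nonneg_left a1 hp'.le
      have b2 : (q : ℤ) * 1 ≤ (q : ℤ) * ((e 2 : ℤ) - d 2) := mul_le_mul_of_nonneg_left a2 (by positivity)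
      have : (0 : ℤ) ≤ e 0 := Int.natCast_nonneg _
      linarith
    have hd0' : Nm ≤ d 0 := by exact_mod_cast this
    rw [hx0pow (d 0) hd0']; simp
  -- Case D
  have caseD : d 1 < e 1 → e 2 < d 2 → False := by
    intro h1 h2
    have : (Nm : ℤ) ≤ e 0 := by
      have a1 : (1 : ℤ) ≤ (e 1 : ℤ) - d 1 := by omega
      have a2 : (1 : ℤ) ≤ (d 2 : ℤ) - e 2 := by omega
      have b1 : (p : ℤ) * 1 ≤ (p : ℤ) * ((e 1 : ℤ) - d 1) := mul_le_mul_of_nonneg_left a1 hp'.le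
      have b2 : (q : ℤ) * 1 ≤ (q : ℤ) * ((d 2 : ℤ) - e 2) := mul_le_mul_of_nonneg_left a2 (by positivity)
      have : (0 : ℤ) ≤ d 0 := Int.natCast_nonneg _
      linarith
    have he0' : Nm ≤ e 0 := by exact_mod_cast this
    omega
  rcases le_or_gt (e 1) (d 1) with h1 | h1 <;> rcases le_or_gt (e 2) (d 2) with h2 | h2
  · exact caseA h1 h2
  · rcases Nat.eq_or_lt_of_le h1 with h1e | h1lt
    · exact caseB (by omega) (by omega)
    · exact caseC h1lt h2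
  · rcases Nat.eq_or_lt_of_le h2 with h2e | h2lt
    · exact caseB (by omega) (by omega)
    · exact (caseD h1 h2lt).elim
  · exact caseB (by omega) (by omega)

end

end Groth.Agent.H78
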