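import Mathlib

set_option autoImplicit false

namespace Groth.Agent.H78

open TensorProduct Module

variable {k A V ι : Type*} [Field k] [CommRing A] [Algebra k A] [AddCommGroup V] [Module k V]

/-- if `∑ σ(cᵢ) eᵢ = 0` for all `σ ∈ S` and a basis `e`, then all `cᵢ` lie in `⋂ ker σ`. -/
lemma coeff_mem_iInf_ker (e : Basis ι k V) (S : Set (A →ₐ[k] k)) (c : ι →₀ A)
    (h : ∀ σ ∈ S, (c.sum fun i a => σ a • e i) = 0) (i : ι) :
    c i ∈ ⨅ σ ∈ S, RingHom.ker (σ : A →+* k) := by
  simp only [Ideal.mem_iInf, RingHom.mem_ker]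
  intro σ hσ
  have h1 := h σ hσ
  have h2 : (Finsupp.linearCombination k e) (c.mapRange σ (map_zero σ)) = 0 := by
    rw [Finsupp.linearCombination_apply, Finsupp.sum_mapRange_index (by simp)]
    exact h1
  have h3 := (linearIndependent_iff.mp e.linearIndependent) _ h2
  have := DFunLike.congr_fun h3 i
  simpa using this

end Groth.Agent.H78

namespace Groth.Agent.H78

open TensorProduct Module

section
variable {k B B' ι : Type*} [Field k] [CommRing B] [Algebra k B] [CommRing B'] [Algebra k B']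

lemma coeff_eq_zero_of_sum {V : Type*} [AddCommGroup V] [Module k V] (e : Basis ι k V)
    (σ : B →ₐ[k] k) (c : ι →₀ B) (h : (c.sum fun i a => σ a • e i) = 0) (i : ι) : σ (c i) = 0 := by
  have h2 : (Finsupp.linearCombination k e) (c.mapRange σ (map_zero σ)) = 0 := by
    rw [Finsupp.linearCombination_apply, Finsupp.sum_mapRange_index (by simp)]
    exact h
  have h3 := (linearIndependent_iff.mp e.linearIndependent) _ h2
  have := DFunLike.congr_fun h3 i
  simpa using this

/-- If the rational points `T`, `T'` separate elements of `B`, `B'`, then the product points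
separate elements of `B ⊗ B'`. -/
lemma tensor_separated (T : Set (B →ₐ[k] k)) (T' : Set (B' →ₐ[k] k))
    (hT : ∀ b : B, (∀ τ ∈ T, τ b = 0) → b = 0) (hT' : ∀ b : B', (∀ τ ∈ T', τ b = 0) → b = 0)
    (y : B ⊗[k] B')
    (hy : ∀ τ ∈ T, ∀ τ' ∈ T', Algebra.TensorProduct.lmul' (S := k) k
      (Algebra.TensorProduct.map τ τ' y) = 0) : y = 0 := by
  classical
  set e' := Basis.ofVectorSpace k B' with he'
  obtain ⟨c, rfl⟩ := TensorProduct.eq_repr_basis_right e' y
  have hc : c = 0 := by
    ext j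
    rw [Finsupp.zero_apply]
    apply hT
    intro τ hτ
    apply coeff_eq_zero_of_sum e' τ c
    apply hT'
    intro τ' hτ'
    have := hy τ hτ τ' hτ'
    rw [Finsupp.sum, map_sum, map_sum] at this
    rw [Finsupp.sum, map_sum, ← this]
    apply Finset.sum_congr rfl
    intro j _
    simp
  rw [hc]
  simp

end

end Groth.Agent.H78

namespace Groth.Agent.H78

open TensorProduct Module

theorem iInf_ker_tensor {k A A' : Type*} [Field k] [CommRing A] [Algebra k A]
    [CommRing A'] [Algebra k A']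
    (S : Set (A →ₐ[k] k)) (S' : Set (A' →ₐ[k] k)) :
    (⨅ σ ∈ S, ⨅ σ' ∈ S', RingHom.ker ((Algebra.TensorProduct.lmul' (S := k) k).comp
        (Algebra.TensorProduct.map σ σ'))) =
      Ideal.map (Algebra.TensorProduct.includeLeft : A →ₐ[k] A ⊗[k] A') (⨅ σ ∈ S, RingHom.ker σ) ⊔
        Ideal.map (Algebra.TensorProduct.includeRight : A' →ₐ[k] A ⊗[k] A')
          (⨅ σ' ∈ S', RingHom.ker σ') := by
  classical
  set I : Ideal A := ⨅ σ ∈ S, RingHom.ker σ with hI
  set I' : Ideal A' := ⨅ σ' ∈ S', RingHom.ker σ' with hI'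
  set q := Ideal.Quotient.mkₐ k I with hq
  set q' := Ideal.Quotient.mkₐ k I' with hq'
  have hqs : Function.Surjective q := Ideal.Quotient.mkₐ_surjective k I
  have hqs' : Function.Surjective q' := Ideal.Quotient.mkₐ_surjective k I'
  have hker := Algebra.TensorProduct.map_ker q q' hqs hqs'
  have e1 : RingHom.ker q = I := Ideal.Quotient.mkₐ_ker k I
  have e2 : RingHom.ker q' = I' := Ideal.Quotient.mkₐ_ker k I'
  rw [e1, e2] at hker
  rw [← hker]
  -- descended points
  have hSI : ∀ σ ∈ S, ∀ a ∈ I, σ a = 0 := by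
    intro σ hσ a ha
    rw [hI] at ha
    simp only [Ideal.mem_iInf, RingHom.mem_ker] at ha
    exact ha σ hσ
  have hSI' : ∀ σ ∈ S', ∀ a ∈ I', σ a = 0 := by
    intro σ hσ a ha
    rw [hI'] at ha
    simp only [Ideal.mem_iInf, RingHom.mem_ker] at ha
    exact ha σ hσ
  set T : Set ((A ⧸ I) →ₐ[k] k) := {τ | τ.comp q ∈ S} with hT
  set T' : Set ((A' ⧸ I') →ₐ[k] k) := {τ | τ.comp q' ∈ S'} with hT'
  have hTsep : ∀ b : A ⧸ I, (∀ τ ∈ T, τ b = 0) → b = 0 := by
    intro b hb
    obtain ⟨a, rfl⟩ := hqs b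
    have : a ∈ I := by
      rw [hI]
      simp only [Ideal.mem_iInf, RingHom.mem_ker]
      intro σ hσ
      have hmem : Ideal.Quotient.liftₐ I σ (hSI σ hσ) ∈ T := by
        show (Ideal.Quotient.liftₐ I σ (hSI σ hσ)).comp q ∈ S
        rw [hq, Ideal.Quotient.liftₐ_comp]; exact hσ
      have := hb _ hmem
      exact this
    exact Ideal.Quotient.eq_zero_iff_mem.mpr this
  have hTsep' : ∀ b : A' ⧸ I', (∀ τ ∈ T', τ b = 0) → b = 0 := by
    intro b hb
    obtain ⟨a, rfl⟩ := hqs' b
    have : a ∈ I' := by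
      rw [hI']
      simp only [Ideal.mem_iInf, RingHom.mem_ker]
      intro σ hσ
      have hmem : Ideal.Quotient.liftₐ I' σ (hSI' σ hσ) ∈ T' := by
        show (Ideal.Quotient.liftₐ I' σ (hSI' σ hσ)).comp q' ∈ S'
        rw [hq', Ideal.Quotient.liftₐ_comp]; exact hσ
      have := hb _ hmem
      exact this
    exact Ideal.Quotient.eq_zero_iff_mem.mpr this
  ext x
  simp only [Ideal.mem_iInf, RingHom.mem_ker]
  constructor
  · intro hx
    apply tensor_separated T T' hTsep hTsep'
    intro τ hτ τ' hτ'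
    have := hx (τ.comp q) hτ (τ'.comp q') hτ'
    rw [Algebra.TensorProduct.map_comp] at this
    exact this
  · intro hx σ hσ σ' hσ'
    have e3 : σ = (Ideal.Quotient.liftₐ I σ (hSI σ hσ)).comp q := by
      rw [hq, Ideal.Quotient.liftₐ_comp]
    have e4 : σ' = (Ideal.Quotient.liftₐ I' σ' (hSI' σ' hσ')).comp q' := by
      rw [hq', Ideal.Quotient.liftₐ_comp]
    rw [e3, e4, Algebra.TensorProduct.map_comp]
    simp only [AlgHom.comp_apply]
    have hx' : (Algebra.TensorProduct.map q q') x = 0 := hx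
    rw [hx', map_zero, map_zero]

end Groth.Agent.H78
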