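import Groth.Agent.H78.WH

set_option autoImplicit false

namespace Groth.Agent.H78

open MvPolynomial W4c2invhilbsl2

variable (k : Type*) [Field k] (p q m : ℕ)

/-- the hypersurface equation -/
noncomputable abbrev hyp5 : MvPolynomial (Fin 5) k :=
  X (0 : Fin 5) ^ (q - p) - X 1 * X 4 + X 2 * X 3

lemma smul_wt0 (n : ℕ) : n • (((1 : ℤ), (0 : ZMod m)) : ℤ × ZMod m) = ((n : ℤ), (0 : ZMod m)) := by
  ext <;> simp

/-- removing one variable of weight `ν` from a monomial of weight `ν` leaves weight zero -/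
lemma mono_div_var_wt0 {σ : Type*} {M : Type*} [AddCommGroup M] (w : σ → M) (d : σ →₀ ℕ) (i : σ)
    (hi : 1 ≤ d i) (hd : Finsupp.weight w d = w i) (r : k) :
    monomial (d - Finsupp.single i 1) r ∈ weightedHomogeneousSubmodule k w 0 := by
  rw [mem_weightedHomogeneousSubmodule]
  apply isWeightedHomogeneous_monomial
  have := split_weight w d i 1 hi
  rw [hd, one_smul] at this
  exact (add_eq_right.mp this.symm)

theorem S15724_part1 (hp : 0 < p) (f : MvPolynomial (Fin 5) k)
    (hf : f ∈ weightedHomogeneousSubmodule k (wt5 p q m) (wt5 p q m 1)) :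
    ∃ a b : MvPolynomial (Fin 5) k, a ∈ weightedHomogeneousSubmodule k (wt5 p q m) 0 ∧
      b ∈ weightedHomogeneousSubmodule k (wt5 p q m) 0 ∧
      f - (a * X (1 : Fin 5) + b * X (2 : Fin 5)) ∈ Ideal.span {hyp5 k p q} := by
  rw [mem_weightedHomogeneousSubmodule] at hf
  refine IsWeightedHomogeneous.induction_on
    (motive := fun f _ => ∃ a b : MvPolynomial (Fin 5) k,
      a ∈ weightedHomogeneousSubmodule k (wt5 p q m) 0 ∧
      b ∈ weightedHomogeneousSubmodule k (wt5 p q m) 0 ∧
      f - (a * X (1 : Fin 5) + b * X (2 : Fin 5)) ∈ Ideal.span {hyp5 k p q}) ?_ ?_ ?_ hf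
  · exact ⟨0, 0, Submodule.zero_mem _, Submodule.zero_mem _, by simp⟩
  · rintro f g _ _ ⟨a, b, ha, hb, h⟩ ⟨a', b', ha', hb', h'⟩
    refine ⟨a + a', b + b', Submodule.add_mem _ ha ha', Submodule.add_mem _ hb hb', ?_⟩
    have := Ideal.add_mem _ h h'
    convert this using 1
    ring
  · intro d r hd
    have h1 := wt5_weight_fst p q m d
    rw [hd, wt5_one] at h1
    simp only at h1
    have hp' : (0 : ℤ) < p := by exact_mod_cast hp
    have h12 : 1 ≤ d 1 ∨ 1 ≤ d 2 := by
      by_contra h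
      push Not at h
      have h10 : d 1 = 0 := by omega
      have h20 : d 2 = 0 := by omega
      rw [h10, h20] at h1
      simp only [Nat.cast_zero, add_zero, mul_zero, sub_zero] at h1
      have : (0 : ℤ) ≤ (q : ℤ) * ((d 3 : ℤ) + d 4) := by positivity
      have : (0 : ℤ) ≤ d 0 := Int.natCast_nonneg _
      linarith
    rcases h12 with h | h
    · refine ⟨monomial (d - Finsupp.single 1 1) r, 0, mono_div_var_wt0 k _ d 1 h hd r,
        Submodule.zero_mem _, ?_⟩
      rw [split_monomial d 1 1 h r]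
      simp
    · refine ⟨0, monomial (d - Finsupp.single 2 1) r, Submodule.zero_mem _,
        mono_div_var_wt0 k _ d 2 h (by rw [hd]; rfl) r, ?_⟩
      rw [split_monomial d 2 1 h r]
      simp

theorem S15724_part2 (hp : 0 < p) (hpq : p < q) (f : MvPolynomial (Fin 5) k)
    (hf : f ∈ weightedHomogeneousSubmodule k (wt5 p q m) (wt5 p q m 3)) :
    ∃ a b : MvPolynomial (Fin 5) k, a ∈ weightedHomogeneousSubmodule k (wt5 p q m) 0 ∧
      b ∈ weightedHomogeneousSubmodule k (wt5 p q m) 0 ∧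
      f - (a * X (3 : Fin 5) + b * X (4 : Fin 5)) ∈ Ideal.span {hyp5 k p q} := by
  rw [mem_weightedHomogeneousSubmodule] at hf
  refine IsWeightedHomogeneous.induction_on
    (motive := fun f _ => ∃ a b : MvPolynomial (Fin 5) k,
      a ∈ weightedHomogeneousSubmodule k (wt5 p q m) 0 ∧
      b ∈ weightedHomogeneousSubmodule k (wt5 p q m) 0 ∧
      f - (a * X (3 : Fin 5) + b * X (4 : Fin 5)) ∈ Ideal.span {hyp5 k p q}) ?_ ?_ ?_ hf
  · exact ⟨0, 0, Submodule.zero_mem _, Submodule.zero_mem _, by simp⟩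
  · rintro f g _ _ ⟨a, b, ha, hb, h⟩ ⟨a', b', ha', hb', h'⟩
    refine ⟨a + a', b + b', Submodule.add_mem _ ha ha', Submodule.add_mem _ hb hb', ?_⟩
    have := Ideal.add_mem _ h h'
    convert this using 1
    ring
  · intro d r hd
    have h1 := wt5_weight_fst p q m d
    rw [hd, wt5_three] at h1
    simp only at h1
    have hp' : (0 : ℤ) < p := by exact_mod_cast hp
    have hqpZ : ((q - p : ℕ) : ℤ) = (q : ℤ) - p := by omega
    by_cases h3 : 1 ≤ d 3
    · refine ⟨monomial (d - Finsupp.single 3 1) r, 0, mono_div_var_wt0 k _ d 3 h3 hd r,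
        Submodule.zero_mem _, ?_⟩
      rw [split_monomial d 3 1 h3 r]
      simp
    by_cases h4 : 1 ≤ d 4
    · refine ⟨0, monomial (d - Finsupp.single 4 1) r, Submodule.zero_mem _,
        mono_div_var_wt0 k _ d 4 h4 (by rw [hd]; rfl) r, ?_⟩
      rw [split_monomial d 4 1 h4 r]
      simp
    have h30 : d 3 = 0 := by omega
    have h40 : d 4 = 0 := by omega
    rw [h30, h40] at h1
    simp only [Nat.cast_zero, add_zero, mul_zero] at h1
    have h0 : q - p ≤ d 0 := by
      have : (0 : ℤ) ≤ (p : ℤ) * ((d 1 : ℤ) + d 2) := by positivity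
      have : ((q - p : ℕ) : ℤ) ≤ d 0 := by rw [hqpZ]; linarith
      exact_mod_cast this
    set M' := monomial (d - Finsupp.single 0 (q - p)) r with hM'
    have hM'w : IsWeightedHomogeneous (wt5 p q m) M' ((p : ℤ), (1 : ZMod m)) := by
      apply isWeightedHomogeneous_monomial
      have := split_weight (wt5 p q m) d 0 (q - p) h0
      rw [hd, wt5_three, wt5_zero, smul_wt0, hqpZ] at this
      have e : (((q : ℤ), (1 : ZMod m)) : ℤ × ZMod m) = ((p : ℤ), (1 : ZMod m)) + ((q : ℤ) - p, (0 : ZMod m)) := by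
        ext <;> simp
      rw [e] at this
      exact (add_right_cancel this).symm
    refine ⟨-(X (2 : Fin 5) * M'), X (1 : Fin 5) * M', ?_, ?_, ?_⟩
    · rw [mem_weightedHomogeneousSubmodule]
      have := ((isWeightedHomogeneous_X k (wt5 p q m) 2).mul hM'w).neg
      rw [wt5_two] at this
      have e : ((-(p : ℤ), (-1 : ZMod m)) : ℤ × ZMod m) + ((p : ℤ), (1 : ZMod m)) = 0 := by
        ext <;> simp
      rw [e] at this
      exact this
    · rw [mem_weightedHomogeneousSubmodule]
      have := ((isWeightedHomogeneous_X k (wt5 p q m) 1).mul hM'w)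
      rw [wt5_one] at this
      have e : ((-(p : ℤ), (-1 : ZMod m)) : ℤ × ZMod m) + ((p : ℤ), (1 : ZMod m)) = 0 := by
        ext <;> simp
      rw [e] at this
      exact this
    · rw [split_monomial d 0 (q - p) h0 r, ← hM']
      have : M' * X 0 ^ (q - p) - (-(X 2 * M') * X 3 + X 1 * M' * X 4) = M' * hyp5 k p q := by
        simp only [hyp5]; ring
      rw [this]
      exact Ideal.mul_mem_left _ _ (Ideal.subset_span rfl)

end Groth.Agent.H78

namespace Groth.Agent.H78

open MvPolynomial W4c2invhilbsl2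

variable (k : Type*) [Field k] (p q m : ℕ)

lemma mono_div_two_wt0 (d : Fin 5 →₀ ℕ) (i j : Fin 5) (hij : i ≠ j)
    (hi : 1 ≤ d i) (hj : 1 ≤ d j)
    (hw : wt5 p q m i + wt5 p q m j = ((q : ℤ) - p, (0 : ZMod m)))
    (hd : Finsupp.weight (wt5 p q m) d = ((q : ℤ) - p, (0 : ZMod m))) (r : k) :
    monomial (d - Finsupp.single i 1 - Finsupp.single j 1) r ∈
        weightedHomogeneousSubmodule k (wt5 p q m) 0 ∧
      monomial d r = monomial (d - Finsupp.single i 1 - Finsupp.single j 1) r * (X i * X j) := by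
  have hj' : 1 ≤ (d - Finsupp.single i 1 : Fin 5 →₀ ℕ) j := by
    rw [Finsupp.coe_tsub, Pi.sub_apply, Finsupp.single_apply, if_neg hij]; exact hj
  constructor
  · rw [mem_weightedHomogeneousSubmodule]
    apply isWeightedHomogeneous_monomial
    have e1 := split_weight (wt5 p q m) d i 1 hi
    have e2 := split_weight (wt5 p q m) (d - Finsupp.single i 1) j 1 hj'
    rw [e2, hd, one_smul, one_smul, add_assoc, add_comm (wt5 p q m j), hw] at e1
    exact (add_eq_right.mp e1.symm)
  · rw [split_monomial d i 1 hi r, split_monomial (d - Finsupp.single i 1) j 1 hj' r]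
    ring

theorem S15726_main (hp : 0 < p) (hpq : p < q) (f : MvPolynomial (Fin 5) k)
    (hf : f ∈ weightedHomogeneousSubmodule k (wt5 p q m) ((q : ℤ) - (p : ℤ), (0 : ZMod m))) :
    ∃ a₁₃ a₁₄ a₂₃ a₂₄ : MvPolynomial (Fin 5) k,
      a₁₃ ∈ weightedHomogeneousSubmodule k (wt5 p q m) 0 ∧ a₁₄ ∈ weightedHomogeneousSubmodule k (wt5 p q m) 0 ∧
      a₂₃ ∈ weightedHomogeneousSubmodule k (wt5 p q m) 0 ∧ a₂₄ ∈ weightedHomogeneousSubmodule k (wt5 p q m) 0 ∧
      f - (a₁₃ * (X (1 : Fin 5) * X 3) + a₁₄ * (X (1 : Fin 5) * X 4) +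
          a₂₃ * (X (2 : Fin 5) * X 3) + a₂₄ * (X (2 : Fin 5) * X 4)) ∈ Ideal.span {hyp5 k p q} := by
  rw [mem_weightedHomogeneousSubmodule] at hf
  refine IsWeightedHomogeneous.induction_on
    (motive := fun f _ => ∃ a₁₃ a₁₄ a₂₃ a₂₄ : MvPolynomial (Fin 5) k,
      a₁₃ ∈ weightedHomogeneousSubmodule k (wt5 p q m) 0 ∧ a₁₄ ∈ weightedHomogeneousSubmodule k (wt5 p q m) 0 ∧
      a₂₃ ∈ weightedHomogeneousSubmodule k (wt5 p q m) 0 ∧ a₂₄ ∈ weightedHomogeneousSubmodule k (wt5 p q m) 0 ∧
      f - (a₁₃ * (X (1 : Fin 5) * X 3) + a₁₄ * (X (1 : Fin 5) * X 4) +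
          a₂₃ * (X (2 : Fin 5) * X 3) + a₂₄ * (X (2 : Fin 5) * X 4)) ∈ Ideal.span {hyp5 k p q}) ?_ ?_ ?_ hf
  · exact ⟨0, 0, 0, 0, Submodule.zero_mem _, Submodule.zero_mem _, Submodule.zero_mem _,
      Submodule.zero_mem _, by simp⟩
  · rintro f g _ _ ⟨a, b, c, e, ha, hb, hc, he, h⟩ ⟨a', b', c', e', ha', hb', hc', he', h'⟩
    refine ⟨a + a', b + b', c + c', e + e', Submodule.add_mem _ ha ha', Submodule.add_mem _ hb hb',
      Submodule.add_mem _ hc hc', Submodule.add_mem _ he he', ?_⟩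
    have := Ideal.add_mem _ h h'
    convert this using 1
    ring
  · intro d r hd
    have h1 := wt5_weight_fst p q m d
    rw [hd] at h1
    simp only at h1
    have hp' : (0 : ℤ) < p := by exact_mod_cast hp
    have hqp' : (p : ℤ) < q := by exact_mod_cast hpq
    have hqpZ : ((q - p : ℕ) : ℤ) = (q : ℤ) - p := by omega
    have w13 : wt5 p q m 1 + wt5 p q m 3 = ((q : ℤ) - p, (0 : ZMod m)) := by
      rw [wt5_one, wt5_three]; ext <;> simp; ring
    have w14 : wt5 p q m 1 + wt5 p q m 4 = ((q : ℤ) - p, (0 : ZMod m)) := by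
      rw [wt5_one, wt5_four]; ext <;> simp; ring
    have w23 : wt5 p q m 2 + wt5 p q m 3 = ((q : ℤ) - p, (0 : ZMod m)) := by
      rw [wt5_two, wt5_three]; ext <;> simp; ring
    have w24 : wt5 p q m 2 + wt5 p q m 4 = ((q : ℤ) - p, (0 : ZMod m)) := by
      rw [wt5_two, wt5_four]; ext <;> simp; ring
    by_cases hu : (1 ≤ d 1 ∨ 1 ≤ d 2) ∧ (1 ≤ d 3 ∨ 1 ≤ d 4)
    · obtain ⟨h12, h34⟩ := hu
      rcases h12 with h1' | h2' <;> rcases h34 with h3' | h4'
      · obtain ⟨hw, he⟩ := mono_div_two_wt0 k p q m d 1 3 (by decide) h1' h3' w13 hd r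
        refine ⟨_, 0, 0, 0, hw, Submodule.zero_mem _, Submodule.zero_mem _, Submodule.zero_mem _, ?_⟩
        rw [he]; simp
      · obtain ⟨hw, he⟩ := mono_div_two_wt0 k p q m d 1 4 (by decide) h1' h4' w14 hd r
        refine ⟨0, _, 0, 0, Submodule.zero_mem _, hw, Submodule.zero_mem _, Submodule.zero_mem _, ?_⟩
        rw [he]; simp
      · obtain ⟨hw, he⟩ := mono_div_two_wt0 k p q m d 2 3 (by decide) h2' h3' w23 hd r
        refine ⟨0, 0, _, 0, Submodule.zero_mem _, Submodule.zero_mem _, hw, Submodule.zero_mem _, ?_⟩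
        rw [he]; simp
      · obtain ⟨hw, he⟩ := mono_div_two_wt0 k p q m d 2 4 (by decide) h2' h4' w24 hd r
        refine ⟨0, 0, 0, _, Submodule.zero_mem _, Submodule.zero_mem _, Submodule.zero_mem _, hw, ?_⟩
        rw [he]; simp
    · have h0 : q - p ≤ d 0 := by
        have hcases : (d 1 = 0 ∧ d 2 = 0) ∨ (d 3 = 0 ∧ d 4 = 0) := by
          by_contra hcon
          apply hu
          constructor <;> omega
        have hd0 : (0 : ℤ) ≤ d 0 := Int.natCast_nonneg _
        have : ((q - p : ℕ) : ℤ) ≤ d 0 := by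
          rw [hqpZ]
          rcases hcases with ⟨h10, h20⟩ | ⟨h30, h40⟩
          · rw [h10, h20] at h1
            simp only [Nat.cast_zero, add_zero, mul_zero, sub_zero] at h1
            by_cases hv : (d 3 : ℤ) + d 4 = 0
            · rw [hv] at h1; linarith
            · have hv1 : (1 : ℤ) ≤ (d 3 : ℤ) + d 4 := by
                have : (0 : ℤ) ≤ (d 3 : ℤ) + d 4 := by positivity
                omega
              have : (q : ℤ) * 1 ≤ (q : ℤ) * ((d 3 : ℤ) + d 4) :=
                mul_le_mul_of_nonneg_left hv1 (by omega)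
              linarith
          · rw [h30, h40] at h1
            simp only [Nat.cast_zero, add_zero, mul_zero] at h1
            have : (0 : ℤ) ≤ (p : ℤ) * ((d 1 : ℤ) + d 2) := by positivity
            linarith
        exact_mod_cast this
      set M' := monomial (d - Finsupp.single 0 (q - p)) r with hM'
      have hM'w : M' ∈ weightedHomogeneousSubmodule k (wt5 p q m) 0 := by
        rw [mem_weightedHomogeneousSubmodule]
        apply isWeightedHomogeneous_monomial
        have := split_weight (wt5 p q m) d 0 (q - p) h0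
        rw [hd, wt5_zero, smul_wt0, hqpZ] at this
        exact (add_eq_right.mp this.symm)
      refine ⟨0, M', -M', 0, Submodule.zero_mem _, hM'w, Submodule.neg_mem _ hM'w,
        Submodule.zero_mem _, ?_⟩
      rw [split_monomial d 0 (q - p) h0 r, ← hM']
      have : M' * X 0 ^ (q - p) - (0 * (X (1 : Fin 5) * X 3) + M' * (X (1 : Fin 5) * X 4) +
          -M' * (X (2 : Fin 5) * X 3) + 0 * (X (2 : Fin 5) * X 4)) = M' * hyp5 k p q := by
        simp only [hyp5]; ring
      rw [this]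
      exact Ideal.mul_mem_left _ _ (Ideal.subset_span rfl)

end Groth.Agent.H78
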