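import Groth.Agent.H78.W3HJ
import Groth.Agent.H78.W5
import Groth.Agent.H78.RankOne

set_option autoImplicit false

namespace Groth.Agent.H78

open MvPolynomial W4c2invhilbsl2

variable (k : Type*) [Field k]

/-- a double sum with a single non-zero coefficient -/
lemma single_coeff_sum {R : Type*} [CommRing R] [Algebra k R] (W : Submodule k R) (g : ℕ → ℕ → R) (E L e l : ℕ)
    (he : e ≤ E) (hl : l ≤ L) (A : R) (hA : A ∈ W) :
    ∃ a : ℕ → ℕ → R, (∀ e' l', a e' l' ∈ W) ∧
      ∑ e' ∈ Finset.range (E + 1), ∑ l' ∈ Finset.range (L + 1), a e' l' * g e' l' = A * g e l := by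
  classical
  refine ⟨fun e' l' => if e' = e then (if l' = l then A else 0) else 0, ?_, ?_⟩
  · intro e' l'
    by_cases h1 : e' = e
    · by_cases h2 : l' = l
      · simp [h1, h2, hA]
      · simp [h1, h2]
    · simp [h1]
  · rw [Finset.sum_eq_single e]
    · rw [Finset.sum_eq_single l]
      · simp
      · intro b _ hb; simp [hb]
      · intro h; exact absurd (Finset.mem_range.mpr (by omega)) h
    · intro b _ hb; simp [hb]
    · intro h; exact absurd (Finset.mem_range.mpr (by omega)) h

section
variable (p q m : ℕ) (hp : 0 < p) (hpq : p < q) (hcop : Nat.Coprime p q) (hm : 0 < m)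
  (hnt : ¬ (q - p ∣ m)) (c : List ℤ) (hc : IsHJDigits p q m c)

include hp hpq hcop hm hnt hc

theorem S15732_eq (i : ℕ) (hi : 1 ≤ i) (hir : i ≤ c.length)
    (f : MvPolynomial (Fin 5) k)
    (hf : f ∈ weightedHomogeneousSubmodule k (wt5 p q m) (nN p q m c i, (0 : ZMod m))) :
    ∃ (a₀ : MvPolynomial (Fin 5) k) (a : ℕ → ℕ → MvPolynomial (Fin 5) k),
      a₀ ∈ weightedHomogeneousSubmodule k (wt5 p q m) 0 ∧
      (∀ e l : ℕ, a e l ∈ weightedHomogeneousSubmodule k (wt5 p q m) 0) ∧
      f = (a₀ * X (0 : Fin 5) ^ (nN p q m c i).toNat +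
          ∑ e ∈ Finset.range ((eE p q m c i).toNat + 1), ∑ l ∈ Finset.range ((lL p q m c i).toNat + 1),
            a e l * (X (1 : Fin 5) ^ ((eE p q m c i).toNat - e) * X (2 : Fin 5) ^ e *
              X (3 : Fin 5) ^ ((lL p q m c i).toNat - l) * X (4 : Fin 5) ^ l)) := by
  rw [mem_weightedHomogeneousSubmodule] at hf
  have hN := nN_nonneg p q m hp hpq hcop hm hnt c hc i (by omega)
  have hE := eE_nonneg p q m hp hpq hcop hm hnt c hc i (by omega)
  have hL := lL_nonneg p q m hp hpq hcop hm hnt c hc i (by omega)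
  have hN' : ((nN p q m c i).toNat : ℤ) = nN p q m c i := Int.toNat_of_nonneg hN
  have hE' : ((eE p q m c i).toNat : ℤ) = eE p q m c i := Int.toNat_of_nonneg hE
  have hL' : ((lL p q m c i).toNat : ℤ) = lL p q m c i := Int.toNat_of_nonneg hL
  set N := (nN p q m c i).toNat with hNdef
  set E := (eE p q m c i).toNat with hEdef
  set L := (lL p q m c i).toNat with hLdef
  refine IsWeightedHomogeneous.induction_on
    (motive := fun f _ => ∃ (a₀ : MvPolynomial (Fin 5) k) (a : ℕ → ℕ → MvPolynomial (Fin 5) k),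
      a₀ ∈ weightedHomogeneousSubmodule k (wt5 p q m) 0 ∧
      (∀ e l : ℕ, a e l ∈ weightedHomogeneousSubmodule k (wt5 p q m) 0) ∧
      f = (a₀ * X (0 : Fin 5) ^ N +
          ∑ e ∈ Finset.range (E + 1), ∑ l ∈ Finset.range (L + 1),
            a e l * (X (1 : Fin 5) ^ (E - e) * X (2 : Fin 5) ^ e *
              X (3 : Fin 5) ^ (L - l) * X (4 : Fin 5) ^ l))) ?_ ?_ ?_ hf
  · exact ⟨0, fun _ _ => 0, Submodule.zero_mem _, fun _ _ => Submodule.zero_mem _, by simp⟩
  · rintro f g _ _ ⟨a₀, a, ha₀, ha, rfl⟩ ⟨b₀, b, hb₀, hb, rfl⟩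
    refine ⟨a₀ + b₀, fun e l => a e l + b e l, Submodule.add_mem _ ha₀ hb₀,
      fun e l => Submodule.add_mem _ (ha e l) (hb e l), ?_⟩
    simp only [add_mul, Finset.sum_add_distrib]
    ring
  · intro d r hd
    have h1 := wt5_weight_fst p q m d
    have h2 := wt5_weight_snd p q m d
    rw [hd] at h1 h2
    simp only at h1 h2
    have hmod : (m : ℤ) ∣ ((d 3 + d 4 : ℕ) : ℤ) - ((d 1 + d 2 : ℕ) : ℤ) := by
      have := (ZMod.intCast_zmod_eq_zero_iff_dvd _ m).mp h2.symm
      push_cast
      exact this
    have hn : (d 0 : ℤ) - (p : ℤ) * ((d 1 + d 2 : ℕ) : ℤ) + (q : ℤ) * ((d 3 + d 4 : ℕ) : ℤ) =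
        nN p q m c i := by
      push_cast
      exact h1.symm
    rcases core_dichotomy p q m hp hpq hcop hm hnt c hc i hi hir (d 0) (d 1 + d 2) (d 3 + d 4) hn hmod with
      h | ⟨hu, hv⟩
    · have h0 : N ≤ d 0 := by
        have : (N : ℤ) ≤ d 0 := by rw [hN']; exact h
        exact_mod_cast this
      refine ⟨monomial (d - Finsupp.single 0 N) r, fun _ _ => 0, ?_, fun _ _ => Submodule.zero_mem _, ?_⟩
      · rw [mem_weightedHomogeneousSubmodule]
        apply isWeightedHomogeneous_monomial
        have := split_weight (wt5 p q m) d 0 N h0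
        rw [hd, wt5_zero] at this
        have e : N • (((1 : ℤ), (0 : ZMod m)) : ℤ × ZMod m) =
            (nN p q m c i, (0 : ZMod m)) := by
          ext <;> simp [hN']
        rw [e] at this
        exact (add_eq_right.mp this.symm)
      · simp only [zero_mul, Finset.sum_const_zero, add_zero]
        exact split_monomial d 0 _ h0 r
    · have hu' : E ≤ d 1 + d 2 := by
        have : (E : ℤ) ≤ ((d 1 + d 2 : ℕ) : ℤ) := by rw [hE']; exact hu
        exact_mod_cast this
      have hv' : L ≤ d 3 + d 4 := by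
        have : (L : ℤ) ≤ ((d 3 + d 4 : ℕ) : ℤ) := by rw [hL']; exact hv
        exact_mod_cast this
      -- choose e, l
      set e := min (d 2) E with he
      set l := min (d 4) L with hl
      have heE : e ≤ E := min_le_right _ _
      have hlL : l ≤ L := min_le_right _ _
      have he2 : e ≤ d 2 := min_le_left _ _
      have hl4 : l ≤ d 4 := min_le_left _ _
      have he1 : E - e ≤ d 1 := by omega
      have hl3 : L - l ≤ d 3 := by omega
      set d' : Fin 5 →₀ ℕ := Finsupp.single 1 (E - e) + Finsupp.single 2 e +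
        Finsupp.single 3 (L - l) + Finsupp.single 4 l with hd'
      have hle : d' ≤ d := by
        intro j
        fin_cases j <;> simp [hd'] <;> omega
      have hsplit : d - d' + d' = d := tsub_add_cancel_of_le hle
      have hmon : monomial d' (1 : k) = X (1 : Fin 5) ^ (E - e) * X (2 : Fin 5) ^ e *
              X (3 : Fin 5) ^ (L - l) * X (4 : Fin 5) ^ l := by
        rw [hd']
        simp only [X_pow_eq_monomial, monomial_mul, mul_one]
      have hwd' : Finsupp.weight (wt5 p q m) d' = (nN p q m c i, (0 : ZMod m)) := by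
        rw [hd']
        simp only [map_add, Finsupp.weight_single, wt5_one, wt5_two, wt5_three, wt5_four]
        rw [← add_smul, add_assoc, ← add_smul, Nat.sub_add_cancel heE, Nat.sub_add_cancel hlL,
          smul_wt_one, smul_wt_two]
        exact wt_EL p q m hp hpq hcop hm hnt c hc i (by omega)
      have hA : monomial (d - d') r ∈ weightedHomogeneousSubmodule k (wt5 p q m) 0 := by
        rw [mem_weightedHomogeneousSubmodule]
        apply isWeightedHomogeneous_monomial
        have : Finsupp.weight (wt5 p q m) (d - d') + Finsupp.weight (wt5 p q m) d' =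
            Finsupp.weight (wt5 p q m) d := by
          rw [← map_add, hsplit]
        rw [hd, hwd'] at this
        exact add_eq_right.mp this
      obtain ⟨a, ha, hsum⟩ := single_coeff_sum k (weightedHomogeneousSubmodule k (wt5 p q m) 0)
        (fun e' l' => X (1 : Fin 5) ^ (E - e') * X (2 : Fin 5) ^ e' *
              X (3 : Fin 5) ^ (L - l') * X (4 : Fin 5) ^ l') E L e l heE hlL _ hA
      refine ⟨0, a, Submodule.zero_mem _, ha, ?_⟩
      rw [zero_mul, zero_add, hsum]
      rw [← hmon, monomial_mul, mul_one, hsplit]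

end

end Groth.Agent.H78
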